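import Groth.Prelude.Def_CAlgX
import Groth.Agent.FSAdic.Linear
import Groth.Agent.CAlgProj.Mod
import Mathlib

/-! A flat local homomorphism of Noetherian local rings is a formally projective topological module,
so adic formal smoothness can be tested on the closed fibre. -/

set_option autoImplicit false

namespace Groth.Agent.SymGr

universe u

open TensorProduct IsLocalRing

variable {A B : Type u} [CommRing A] [CommRing B] [Algebra A B]

/-- Linear lifts out of a flat module, to modules killed by a power of the maximal ideal. -/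
theorem exists_lift_of_flat [IsLocalRing A] [Module.Flat A B] (n : ℕ)
    {P Q : Type u} [AddCommGroup P] [Module A P] [AddCommGroup Q] [Module A Q]
    (hP : ∀ a ∈ maximalIdeal A ^ n, ∀ y : P, a • y = 0) (f : P →ₗ[A] Q) (hf : Function.Surjective f)
    (v : B →ₗ[A] Q) : ∃ w : B →ₗ[A] P, f ∘ₗ w = v := by
  rcases eq_or_ne n 0 with rfl | hn
  · haveI : Subsingleton Q := ⟨fun a b => by
      obtain ⟨a, rfl⟩ := hf a
      obtain ⟨b, rfl⟩ := hf b
      rw [← one_smul A a, ← one_smul A b, hP 1 (by simp) a, hP 1 (by simp) b]⟩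
    exact ⟨0, LinearMap.ext fun x => Subsingleton.elim _ _⟩
  refine Groth.Agent.CAlgProj.exists_lift_of_projective_mod (maximalIdeal A ^ n) ?_ f hf hP v
  let I := (maximalIdeal A).map (Ideal.Quotient.mk (maximalIdeal A ^ n))
  haveI : I.IsMaximal := by
    refine (Ideal.map_eq_top_or_isMaximal_of_surjective _ Ideal.Quotient.mk_surjective
      (maximalIdeal.isMaximal A)).resolve_left fun htop => ?_
    have h := congrArg (Ideal.comap (Ideal.Quotient.mk (maximalIdeal A ^ n))) htop
    rw [Ideal.comap_map_of_surjective _ Ideal.Quotient.mk_surjective, ← RingHom.ker_eq_comap_bot,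
      Ideal.mk_ker, Ideal.comap_top, sup_eq_left.2 (Ideal.pow_le_self hn)] at h
    exact (maximalIdeal.isMaximal A).ne_top h
  refine Groth.Agent.CAlgProj.projective_of_flat_of_isNilpotent I ⟨n, ?_⟩ ?_
  · rw [← Ideal.map_pow, Ideal.map_quotient_self, Submodule.zero_eq_bot]
  · letI := Ideal.Quotient.field I
    exact Module.Projective.of_free

/-- The step killed by the maximal ideal. -/
theorem exists_continuous_lift_step [IsLocalRing A] [IsLocalRing B] [IsNoetherianRing B] [Module.Flat A B] (n : ℕ)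
    {P Q : Type u} [AddCommGroup P] [Module A P] [AddCommGroup Q] [Module A Q]
    (hP : ∀ a ∈ maximalIdeal A ^ n, ∀ y : P, a • y = 0) (f : P →ₗ[A] Q) (hf : Function.Surjective f)
    (hker : ∀ a ∈ maximalIdeal A, ∀ y, f y = 0 → a • y = 0)
    (v : B →ₗ[A] Q) (hv : ∃ m : ℕ, ∀ x ∈ maximalIdeal B ^ m, v x = 0) :
    ∃ w : B →ₗ[A] P, (∃ m : ℕ, ∀ x ∈ maximalIdeal B ^ m, w x = 0) ∧ f ∘ₗ w = v := by
  obtain ⟨w₀, hw₀⟩ := exists_lift_of_flat n hP f hf v
  have hw₀' : ∀ x, f (w₀ x) = v x := fun x => LinearMap.congr_fun hw₀ x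
  obtain ⟨N, hN⟩ := hv
  obtain ⟨c, hc⟩ := Ideal.exists_pow_inf_eq_pow_smul (maximalIdeal B) ((maximalIdeal A).map (algebraMap A B))
  let mB : Submodule A B := ((maximalIdeal A).map (algebraMap A B)).restrictScalars A
  let M₀ : Submodule A B := (maximalIdeal B ^ (N + c)).restrictScalars A
  have hNc : ∀ x ∈ M₀, x ∈ maximalIdeal B ^ N := fun x hx => Ideal.pow_le_pow_right (Nat.le_add_right N c) hx
  have hzero : ∀ x ∈ M₀, x ∈ mB → w₀ x = 0 := by
    intro x hx hxm
    have h0 : x ∈ maximalIdeal B ^ N * (maximalIdeal A).map (algebraMap A B) := by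
      have h1 := hc (N + c) (Nat.le_add_left c N)
      rw [Nat.add_sub_cancel, smul_eq_mul, Ideal.mul_top] at h1
      have h2 : x ∈ maximalIdeal B ^ (N + c) ⊓ (maximalIdeal A).map (algebraMap A B) := ⟨hx, hxm⟩
      rw [h1, smul_eq_mul] at h2
      exact Ideal.mul_mono le_rfl inf_le_right h2
    refine Submodule.mul_induction_on h0 (fun t ht z hz => ?_) fun a b ha hb => by rw [map_add, ha, hb, add_zero]
    rw [mul_comm]
    induction hz using Submodule.span_induction generalizing t with
    | mem z hz =>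
      obtain ⟨a, ha, rfl⟩ := hz
      rw [← Algebra.smul_def, map_smul]
      exact hker a ha _ ((hw₀' t).trans (hN t ht))
    | zero => rw [zero_mul, map_zero]
    | add a b _ _ ha hb => rw [add_mul, map_add, ha t ht, hb t ht, add_zero]
    | smul r a _ ha =>
      rw [smul_eq_mul, show r * a * t = a * (r * t) by ring]
      exact ha (r * t) (Ideal.mul_mem_left _ r ht)
  -- the correction on the closed fibre
  let K := LinearMap.ker f
  have tB : Module.IsTorsionBySet A (B ⧸ mB) (maximalIdeal A : Set A) := fun y a => by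
    obtain ⟨y, rfl⟩ := mB.mkQ_surjective y
    rw [← map_smul, Submodule.mkQ_apply, Submodule.Quotient.mk_eq_zero]
    show (a : A) • y ∈ (maximalIdeal A).map (algebraMap A B)
    rw [Algebra.smul_def]
    exact Ideal.mul_mem_right _ _ (Ideal.mem_map_of_mem _ a.2)
  have tK : Module.IsTorsionBySet A K (maximalIdeal A : Set A) := fun y a =>
    Subtype.ext (hker a a.2 y (LinearMap.mem_ker.1 y.2))
  letI : Field (A ⧸ maximalIdeal A) := Ideal.Quotient.field _
  letI := tB.module
  letI := tK.module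
  haveI : IsScalarTower A (A ⧸ maximalIdeal A) (B ⧸ mB) := tB.isScalarTower (S := A)
  haveI : IsScalarTower A (A ⧸ maximalIdeal A) K := tK.isScalarTower (S := A)
  let π : M₀ →ₗ[A] B ⧸ mB := mB.mkQ ∘ₗ M₀.subtype
  let g : M₀ →ₗ[A] K := (w₀ ∘ₗ M₀.subtype).codRestrict K fun x =>
    LinearMap.mem_ker.2 ((hw₀' x).trans (hN x (hNc x x.2)))
  have hg : LinearMap.ker π ≤ LinearMap.ker g := fun x hx =>
    LinearMap.mem_ker.2 (Subtype.ext (hzero x x.2 ((Submodule.Quotient.mk_eq_zero mB).1 (LinearMap.mem_ker.1 hx))))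
  let g' : LinearMap.range π →ₗ[A] K :=
    (Submodule.liftQ (LinearMap.ker π) g hg) ∘ₗ (π.quotKerEquivRange.symm : LinearMap.range π →ₗ[A] _)
  have hg' : ∀ x, g' ⟨π x, x, rfl⟩ = g x := fun x => by
    show Submodule.liftQ _ g hg (π.quotKerEquivRange.symm ⟨π x, _⟩) = g x
    rw [show (⟨π x, _⟩ : LinearMap.range π) = π.quotKerEquivRange (Submodule.Quotient.mk x) from
      Subtype.ext (π.quotKerEquivRange_apply_mk x).symm, LinearEquiv.symm_apply_apply, Submodule.liftQ_apply]
  have hk : Function.Surjective (algebraMap A (A ⧸ maximalIdeal A)) := Ideal.Quotient.mk_surjective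
  let S : Submodule (A ⧸ maximalIdeal A) (B ⧸ mB) :=
    { (LinearMap.range π).toAddSubmonoid with
      smul_mem' := fun r y hy => by
        obtain ⟨r, rfl⟩ := hk r
        rw [algebraMap_smul]
        exact Submodule.smul_mem _ r hy }
  let gS : S →ₗ[A ⧸ maximalIdeal A] K :=
    { toFun := fun y => g' ⟨y.1, y.2⟩
      map_add' := fun y z => by rw [← map_add]; rfl
      map_smul' := fun r y => by
        obtain ⟨r, rfl⟩ := hk r
        rw [RingHom.id_apply, algebraMap_smul (A ⧸ maximalIdeal A) r (g' _), ← map_smul]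
        exact congrArg g' (Subtype.ext (algebraMap_smul _ r (y : B ⧸ mB))) }
  obtain ⟨G, hG⟩ := gS.exists_extend
  let δ : B →ₗ[A] P := K.subtype ∘ₗ (G.restrictScalars A) ∘ₗ mB.mkQ
  refine ⟨w₀ - δ, ⟨N + c, fun x hx => ?_⟩, LinearMap.ext fun x => ?_⟩
  · have h1 : G (mB.mkQ x) = g ⟨x, hx⟩ :=
      (LinearMap.congr_fun hG ⟨π ⟨x, hx⟩, ⟨x, hx⟩, rfl⟩).trans (hg' ⟨x, hx⟩)
    show w₀ x - (G (mB.mkQ x) : P) = 0
    rw [h1]
    exact sub_self _
  · show f (w₀ x - (G (mB.mkQ x) : P)) = v x
    rw [map_sub, LinearMap.mem_ker.1 (G (mB.mkQ x)).2, sub_zero, hw₀' x]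

/-- Flat local homomorphisms of Noetherian local rings are formally projective. -/
theorem formallyProjective_of_flat [IsLocalRing A] [IsLocalRing B] [IsNoetherianRing B] [Module.Flat A B] :
    Groth.Agent.FSAdic.FormallyProjective (maximalIdeal A) (maximalIdeal B) := by
  intro n P Q _ _ _ _ hP _ f hf v hv
  suffices h : ∀ (j : ℕ) (P Q : Type u) [AddCommGroup P] [Module A P] [AddCommGroup Q] [Module A Q],
      (∀ a ∈ maximalIdeal A ^ n, ∀ y : P, a • y = 0) → ∀ f : P →ₗ[A] Q, Function.Surjective f →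
      (∀ a ∈ maximalIdeal A ^ j, ∀ y, f y = 0 → a • y = 0) →
      ∀ v : B →ₗ[A] Q, (∃ m : ℕ, ∀ x ∈ maximalIdeal B ^ m, v x = 0) →
      ∃ w : B →ₗ[A] P, (∃ m : ℕ, ∀ x ∈ maximalIdeal B ^ m, w x = 0) ∧ f ∘ₗ w = v from
    h n P Q hP f hf (fun a ha y _ => hP a ha y) v hv
  intro j
  induction j with
  | zero =>
    intro P Q _ _ _ _ _ f hf hker v hv
    have hinj : Function.Injective f := LinearMap.ker_eq_bot.1 <| (Submodule.eq_bot_iff _).2 fun y hy => by
      rw [← one_smul A y, hker 1 (by simp) y hy]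
    let e := LinearEquiv.ofBijective f ⟨hinj, hf⟩
    obtain ⟨m, hm⟩ := hv
    refine ⟨e.symm.toLinearMap ∘ₗ v, ⟨m, fun x hx => ?_⟩, LinearMap.ext fun x => e.apply_symm_apply _⟩
    simp [hm x hx]
  | succ j ih =>
    intro P Q _ _ _ _ hP f hf hker v hv
    let K' : Submodule A P := maximalIdeal A • LinearMap.ker f
    have hK' : ∀ y ∈ K', f y = 0 := fun y hy => LinearMap.mem_ker.1 (Submodule.smul_le_right hy)
    let f' : P ⧸ K' →ₗ[A] Q := Submodule.liftQ K' f fun y hy => LinearMap.mem_ker.2 (hK' y hy)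
    have hP' : ∀ a ∈ maximalIdeal A ^ n, ∀ y : P ⧸ K', a • y = 0 := fun a ha y => by
      obtain ⟨y, rfl⟩ := K'.mkQ_surjective y
      rw [← map_smul, hP a ha y, map_zero]
    obtain ⟨w₁, hw₁, hw₁'⟩ := exists_continuous_lift_step n hP' f'
      (fun q => let ⟨y, hy⟩ := hf q; ⟨K'.mkQ y, hy⟩)
      (fun a ha y hy => by
        obtain ⟨y, rfl⟩ := K'.mkQ_surjective y
        rw [← map_smul, Submodule.mkQ_apply, Submodule.Quotient.mk_eq_zero]
        exact Submodule.smul_mem_smul ha (LinearMap.mem_ker.2 hy)) v hv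
    obtain ⟨w, hw, hw'⟩ := ih P (P ⧸ K') hP K'.mkQ K'.mkQ_surjective (fun a ha y hy => by
      have h : y ∈ K' := (Submodule.Quotient.mk_eq_zero K').1 hy
      refine Submodule.smul_induction_on h (fun b hb z hz => ?_) fun z z' h h' => by rw [smul_add, h, h', add_zero]
      rw [smul_smul, hker (a * b) (by rw [pow_succ]; exact Ideal.mul_mem_mul ha hb) z (LinearMap.mem_ker.1 hz)])
      w₁ hw₁
    exact ⟨w, hw, LinearMap.ext fun x => by
      rw [← LinearMap.congr_fun hw₁' x, LinearMap.comp_apply, LinearMap.comp_apply, ← LinearMap.congr_fun hw' x]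
      rfl⟩

end Groth.Agent.SymGr

namespace Groth.Agent.SymGr

universe u

open IsLocalRing

/-- Flat with adically formally smooth closed fibre implies adically formally smooth. -/
theorem isFormallySmoothAdic_of_flat_of_fibre {A B : Type u} [CommRing A] [CommRing B] [Algebra A B]
    [IsLocalRing A] [IsLocalRing B] [IsNoetherianRing B] [Module.Flat A B]
    (h : CAlgX.IsAdicFormallySmooth (A ⧸ maximalIdeal A) (B ⧸ (maximalIdeal A).map (algebraMap A B))
      ((maximalIdeal B).map (Ideal.Quotient.mk ((maximalIdeal A).map (algebraMap A B))))) :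
    EGA41.IsFormallySmoothAdic A (maximalIdeal A) B (maximalIdeal B) :=
  (Groth.Agent.FSAdic.iff_quotient_of_formallyProjective _ _ formallyProjective_of_flat).2
    (Groth.Agent.FSAdic.of_sq_zero _ _ fun C _ _ J hJ _ ψ hψ => h C J hJ ψ hψ)

/-- Adic formal smoothness over a ring passes to a quotient ring through which the algebra factors. -/
theorem isAdicFormallySmooth_of_surjective_base {K k S : Type u} [CommRing K] [CommRing k] [CommRing S]
    [Algebra K k] [Algebra k S] [Algebra K S] [IsScalarTower K k S] (hk : Function.Surjective (algebraMap K k))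
    (I : Ideal S) (h : CAlgX.IsAdicFormallySmooth K S I) : CAlgX.IsAdicFormallySmooth k S I := by
  intro C _ _ J hJ ψ hψ
  letI : Algebra K C := ((algebraMap k C).comp (algebraMap K k)).toAlgebra
  haveI : IsScalarTower K k C := IsScalarTower.of_algebraMap_eq' rfl
  haveI : IsScalarTower K k (C ⧸ J) := IsScalarTower.of_algebraMap_eq fun c => rfl
  obtain ⟨χ, hχ⟩ := h C J hJ (ψ.restrictScalars K) hψ
  let χ' : S →ₐ[k] C :=
    { χ.toRingHom with
      commutes' := fun c => by
        obtain ⟨c, rfl⟩ := hk c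
        rw [← IsScalarTower.algebraMap_apply, ← IsScalarTower.algebraMap_apply]
        exact χ.commutes c }
  exact ⟨χ', AlgHom.ext fun s => AlgHom.congr_fun hχ s⟩

end Groth.Agent.SymGr
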