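import Groth.Agent.SymGr.RegLoc
import Groth.Agent.RegLocus.Smooth
import Groth.Agent.CAlgReg.Basic
import Mathlib

/-! Power series rings over regular rings are regular. -/

set_option autoImplicit false

namespace Groth.Agent.SymGr

universe u

open IsLocalRing

/-- Regularity can be checked at the maximal ideals. -/
theorem isRegularRing_of_maximal {A : Type u} [CommRing A] [IsNoetherianRing A]
    (h : ∀ (M : Ideal A) [M.IsMaximal], IsRegularLocalRing (Localization.AtPrime M)) : IsRegularRing A := by
  refine isRegularRing_iff.2 fun P hP => ?_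
  obtain ⟨M, hM, hPM⟩ := Ideal.exists_le_maximal P hP.ne_top
  haveI := hM
  haveI := h M
  have hdisj : Disjoint (M.primeCompl : Set A) P := Set.disjoint_left.2 fun x hx hxP => hx (hPM hxP)
  let P' := P.map (algebraMap A (Localization.AtPrime M))
  haveI : P'.IsPrime := IsLocalization.isPrime_of_isPrime_disjoint M.primeCompl _ P hP hdisj
  haveI hloc := IsLocalization.isLocalization_isLocalization_atPrime_isLocalization M.primeCompl
    (T := Localization.AtPrime P') P'
  haveI : IsLocalization.AtPrime (Localization.AtPrime P') P := by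
    have h' := hloc
    simp only [IsLocalization.AtPrime] at h' ⊢
    convert h' using 2
    exact (IsLocalization.comap_map_of_isPrime_disjoint M.primeCompl _ hP hdisj).symm
  haveI : IsRegularLocalRing (Localization.AtPrime P') :=
    (isRegularRing_iff.1 (Groth.Agent.RegLocus.isRegularRing_of_regular_local _)) P'
  exact IsRegularLocalRing.of_ringEquiv (R := Localization.AtPrime P')
    (IsLocalization.algEquiv P.primeCompl (Localization.AtPrime P') (Localization.AtPrime P)).toRingEquiv

open PowerSeries in
/-- Formal power series over a regular ring. -/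
theorem isRegularRing_powerSeries (A : Type u) [CommRing A] [IsRegularRing A] :
    IsRegularRing (PowerSeries A) := by
  haveI : IsNoetherianRing (PowerSeries A) := inferInstance
  refine isRegularRing_of_maximal fun M hM => ?_
  let S := Localization.AtPrime M
  let ev : PowerSeries A →+* A := PowerSeries.constantCoeff
  have hev : Function.Surjective ev := fun a => ⟨PowerSeries.C a, PowerSeries.constantCoeff_C a⟩
  have hker : RingHom.ker ev = Ideal.span {(PowerSeries.X : PowerSeries A)} := by
    ext f
    rw [RingHom.mem_ker, Ideal.mem_span_singleton, PowerSeries.X_dvd_iff]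
  have hXM : (PowerSeries.X : PowerSeries A) ∈ M := by
    have h1 : (PowerSeries.X : PowerSeries A) ∈ Ideal.jacobson ⊥ := by
      rw [Ideal.mem_jacobson_bot]
      intro y
      rw [PowerSeries.isUnit_iff_constantCoeff]
      simp
    exact (Ideal.mem_sInf.1 h1) ⟨bot_le, hM⟩
  have hle : RingHom.ker ev ≤ M := by rw [hker, Ideal.span_le]; simpa using hXM
  haveI : (M.map ev).IsMaximal :=
    (Ideal.map_eq_top_or_isMaximal_of_surjective ev hev hM).resolve_left fun h => hM.ne_top (by
      have h2 := congrArg (Ideal.comap ev) h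
      rw [Ideal.comap_map_of_surjective ev hev, Ideal.comap_top, ← RingHom.ker_eq_comap_bot,
        sup_eq_left.2 hle] at h2
      exact h2)
  let J : Ideal S := Ideal.span {algebraMap (PowerSeries A) S PowerSeries.X}
  have hJ : J = (RingHom.ker ev).map (algebraMap (PowerSeries A) S) := by
    rw [hker, Ideal.map_span, Set.image_singleton]
  -- the quotient
  letI : Algebra (PowerSeries A) A := ev.toAlgebra
  have hS : Algebra.algebraMapSubmonoid A M.primeCompl = (M.map ev).primeCompl := by
    ext z
    constructor
    · rintro ⟨y, hy, rfl⟩ hz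
      have h1 : y ∈ (M.map ev).comap ev := hz
      rw [Ideal.comap_map_of_surjective ev hev, ← RingHom.ker_eq_comap_bot, sup_eq_left.2 hle] at h1
      exact hy h1
    · intro hz
      obtain ⟨y, rfl⟩ := hev z
      exact ⟨y, fun hy => hz (Ideal.mem_map_of_mem ev hy), rfl⟩
  let T := Localization.AtPrime (M.map ev)
  let φ : S →+* T := IsLocalization.lift (M := M.primeCompl) (g := (algebraMap A T).comp ev) fun y =>
    IsLocalization.map_units T (⟨ev y, hS.le ⟨y, y.2, rfl⟩⟩ : (M.map ev).primeCompl)
  have hφ : ∀ y, φ (algebraMap _ S y) = algebraMap A T (ev y) := fun y => IsLocalization.lift_eq _ y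
  have hφs : Function.Surjective φ := fun z => by
    obtain ⟨⟨a, b⟩, hab⟩ := IsLocalization.surj (M.map ev).primeCompl z
    obtain ⟨y, hy, hyb⟩ := hS.ge b.2
    obtain ⟨x, rfl⟩ := hev a
    refine ⟨IsLocalization.mk' S x ⟨y, hy⟩, ?_⟩
    refine (IsLocalization.map_units T b).mul_right_cancel ?_
    rw [hab, show ((b : A)) = ev y from hyb.symm, ← hφ, ← map_mul, IsLocalization.mk'_spec, hφ]
  have hφk : RingHom.ker φ = J := by
    refine le_antisymm (fun s hs => ?_) ?_
    · obtain ⟨⟨x, y⟩, hxy⟩ := IsLocalization.surj M.primeCompl s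
      have h1 : algebraMap A T (ev x) = algebraMap A T 0 := by
        rw [map_zero, ← hφ, ← hxy, map_mul, RingHom.mem_ker.1 hs, zero_mul]
      obtain ⟨⟨c, hc⟩, hcx⟩ := (IsLocalization.eq_iff_exists (M.map ev).primeCompl T).1 h1
      obtain ⟨w, hw, rfl⟩ := hS.ge hc
      have h2 : w * x ∈ RingHom.ker ev := by
        rw [RingHom.mem_ker, map_mul]; simpa [RingHom.algebraMap_toAlgebra] using hcx
      have h3 := Ideal.mem_map_of_mem (algebraMap (PowerSeries A) S) h2
      rw [← hJ, map_mul, Ideal.unit_mul_mem_iff_mem _ (IsLocalization.map_units S (⟨w, hw⟩ : M.primeCompl)), ← hxy] at h3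
      exact (Ideal.mul_unit_mem_iff_mem _ (IsLocalization.map_units S y)).1 h3
    · rw [hJ]
      refine Ideal.map_le_iff_le_comap.2 fun x hx => ?_
      rw [Ideal.mem_comap, RingHom.mem_ker, hφ, RingHom.mem_ker.1 hx, map_zero]
  haveI : IsRegularLocalRing T := (isRegularRing_iff.1 ‹IsRegularRing A›) (M.map ev)
  haveI : IsRegularLocalRing (S ⧸ J) := IsRegularLocalRing.of_ringEquiv (R := T)
    (((Ideal.quotEquivOfEq hφk.symm).trans (RingHom.quotientKerEquivOfSurjective hφs))).symm
  refine Groth.Agent.CAlgReg.of_quotient_span_singleton (x := algebraMap (PowerSeries A) S PowerSeries.X)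
    ((IsLocalization.AtPrime.to_map_mem_maximal_iff S M _).2 hXM) ?_
  refine mem_nonZeroDivisors_iff_right.2 fun s hs => ?_
  obtain ⟨⟨x, y⟩, hxy⟩ := IsLocalization.surj M.primeCompl s
  have h1 : algebraMap (PowerSeries A) S (x * PowerSeries.X) = algebraMap (PowerSeries A) S 0 := by
    rw [map_mul, ← hxy, mul_right_comm, hs, zero_mul, map_zero]
  obtain ⟨w, hw⟩ := (IsLocalization.eq_iff_exists M.primeCompl S).1 h1
  have h2 : (w : PowerSeries A) * x = 0 := by
    rw [mul_zero, ← mul_assoc] at hw
    ext n
    simpa [PowerSeries.coeff_succ_mul_X] using congrArg (PowerSeries.coeff (n + 1)) hw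
  have h3 := congrArg (algebraMap (PowerSeries A) S) h2
  rw [map_mul, map_zero, ← hxy, IsUnit.mul_right_eq_zero (IsLocalization.map_units S w)] at h3
  exact (IsUnit.mul_left_eq_zero (IsLocalization.map_units S y)).1 h3

/-- Formal power series in several variables over a regular ring. -/
theorem isRegularRing_mvPowerSeries (A : Type u) [CommRing A] [IsRegularRing A] :
    ∀ n : ℕ, IsRegularRing (MvPowerSeries (Fin n) A)
  | 0 => IsRegularRing.of_ringEquiv
      (RingEquiv.ofBijective (MvPowerSeries.C : A →+* MvPowerSeries (Fin 0) A)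
        ⟨fun a b h => by simpa using congrArg MvPowerSeries.constantCoeff h, fun f => ⟨MvPowerSeries.constantCoeff f, by
          ext m
          obtain rfl : m = 0 := Subsingleton.elim _ _
          simp [MvPowerSeries.coeff_C]⟩⟩)
  | n + 1 => by
    haveI := isRegularRing_mvPowerSeries A n
    haveI := isRegularRing_powerSeries (MvPowerSeries (Fin n) A)
    exact IsRegularRing.of_ringEquiv (MvPowerSeries.finSuccEquiv (R := A) (n := n)).toRingEquiv.symm

end Groth.Agent.SymGr
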