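import Groth.Agent.SymGr.FormalFibre
import Groth.Agent.SymGr.PowerSeriesReg
import Groth.Agent.CAlgCohen.Normalization
import Mathlib

/-! Formal fibres of complete Noetherian local domains are geometrically regular. -/

set_option autoImplicit false

namespace Groth.Agent.SymGr

universe u

open TensorProduct IsLocalRing

/-- Geometric regularity of `K ⊗ R` from its local rings, described as local rings of `R`. -/
theorem isGeometricallyRegular_fibre_of (A K R : Type u) [CommRing A] [Field K] [Algebra A K]
    [IsFractionRing A K] [CommRing R] [IsNoetherianRing R] [Algebra A R]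
    (h : ∀ (q : Ideal R) [q.IsPrime], (∀ a, algebraMap A R a ∈ q → a = 0) →
      ∀ (S : Type u) [CommRing S] [IsLocalRing S] [Algebra R S] [IsLocalization.AtPrime S q] [Algebra A S]
        [IsScalarTower A R S] [Algebra K S] [IsScalarTower A K S],
        CAlgX.IsAdicFormallySmooth K S (maximalIdeal S)) :
    CAlg.IsGeometricallyRegular K (K ⊗[A] R) := by
  letI : Algebra R (K ⊗[A] R) := Algebra.TensorProduct.rightAlgebra
  haveI : IsLocalization (Algebra.algebraMapSubmonoid R (nonZeroDivisors A)) (K ⊗[A] R) :=
    IsLocalization.tensorRight (A := K) (S := R) (nonZeroDivisors A)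
  haveI : IsNoetherianRing (K ⊗[A] R) :=
    IsLocalization.isNoetherianRing (Algebra.algebraMapSubmonoid R (nonZeroDivisors A)) _ inferInstance
  haveI : IsScalarTower A R (K ⊗[A] R) := IsScalarTower.of_algebraMap_eq fun a => by
    show algebraMap A (K ⊗[A] R) a = (1 : K) ⊗ₜ[A] algebraMap A R a
    exact (Algebra.TensorProduct.includeRight.commutes a).symm
  refine isGeometricallyRegular_of_local K (K ⊗[A] R) fun P hP => ?_
  let q := P.comap (algebraMap R (K ⊗[A] R))
  haveI : q.IsPrime := Ideal.comap_isPrime _ P
  haveI : IsLocalization.AtPrime (Localization.AtPrime P) q :=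
    IsLocalization.isLocalization_isLocalization_atPrime_isLocalization
      (Algebra.algebraMapSubmonoid R (nonZeroDivisors A)) (T := Localization.AtPrime P) P
  refine h q (fun a ha => ?_) (Localization.AtPrime P)
  by_contra ha0
  haveI : IsDomain A := (IsFractionRing.injective A K).isDomain _
  exact hP.ne_top (Ideal.eq_top_of_isUnit_mem _ ha (IsLocalization.map_units (K ⊗[A] R)
    (⟨algebraMap A R a, a, mem_nonZeroDivisors_of_ne_zero ha0, rfl⟩ :
      Algebra.algebraMapSubmonoid R (nonZeroDivisors A))))

/-- A regular local ring, localised and completed, is regular. -/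
theorem isRegularLocalRing_completion_atPrime (A : Type u) [CommRing A] [IsRegularLocalRing A] (p : Ideal A)
    [p.IsPrime] :
    IsRegularLocalRing (AdicCompletion (maximalIdeal (Localization.AtPrime p)) (Localization.AtPrime p)) := by
  haveI : IsRegularRing A := Groth.Agent.RegLocus.isRegularRing_of_regular_local A
  haveI : IsRegularLocalRing (Localization.AtPrime p) := (isRegularRing_iff.1 ‹IsRegularRing A›) p
  exact (Groth.Agent.CAlgCompl.isRegularLocalRing_adicCompletion_iff _).1 inferInstance

/-- Generic formal fibres of regular local rings of characteristic zero. -/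
theorem isGeometricallyRegular_fibre_charZero (A : Type u) [CommRing A] [IsRegularLocalRing A] [IsDomain A]
    [CharZero A] (p : Ideal A) [p.IsPrime] :
    CAlg.IsGeometricallyRegular (FractionRing A)
      (FractionRing A ⊗[A] AdicCompletion (maximalIdeal (Localization.AtPrime p)) (Localization.AtPrime p)) := by
  haveI := isRegularLocalRing_completion_atPrime A p
  haveI : CharZero (FractionRing A) :=
    charZero_of_injective_algebraMap (IsFractionRing.injective A (FractionRing A))
  refine isGeometricallyRegular_fibre_of A _ _ fun q _ _ S _ _ _ _ _ _ _ _ => ?_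
  haveI := Groth.Agent.RegLocus.isRegularRing_of_regular_local
    (AdicCompletion (maximalIdeal (Localization.AtPrime p)) (Localization.AtPrime p))
  haveI : IsRegularLocalRing (Localization.AtPrime q) := (isRegularRing_iff.1 inferInstance) q
  haveI : IsRegularLocalRing S := IsRegularLocalRing.of_ringEquiv (R := Localization.AtPrime q)
    (IsLocalization.algEquiv q.primeCompl (Localization.AtPrime q) S).toRingEquiv
  exact isAdicFormallySmooth_of_regular_perfect

/-- Generic formal fibres of power series rings. -/
theorem isGeometricallyRegular_fibre_powerSeries (k : Type u) [Field k] (p : ℕ) [Fact p.Prime] [CharP k p]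
    (s : ℕ) [IsDomain (MvPowerSeries (Fin s) k)] (P : Ideal (MvPowerSeries (Fin s) k)) [P.IsPrime] :
    CAlg.IsGeometricallyRegular (FractionRing (MvPowerSeries (Fin s) k))
      (FractionRing (MvPowerSeries (Fin s) k) ⊗[MvPowerSeries (Fin s) k]
        AdicCompletion (maximalIdeal (Localization.AtPrime P)) (Localization.AtPrime P)) := by
  haveI := isRegularLocalRing_completion_atPrime (MvPowerSeries (Fin s) k) P
  exact isGeometricallyRegular_fibre_of _ _ _ fun q _ hq S _ _ _ _ _ _ _ _ =>
    isAdicFormallySmooth_generic_powerSeries k p s P q hq S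

/-- A local regular ring is a regular local ring. -/
theorem isRegularLocalRing_of_isRegularRing (A : Type u) [CommRing A] [IsLocalRing A] [IsRegularRing A] :
    IsRegularLocalRing A := by
  haveI : IsLocalization.AtPrime A (maximalIdeal A) := IsLocalization.self fun x hx => notMem_maximalIdeal.1 hx
  haveI : IsRegularLocalRing (Localization.AtPrime (maximalIdeal A)) :=
    (isRegularRing_iff.1 ‹IsRegularRing A›) (maximalIdeal A)
  exact IsRegularLocalRing.of_ringEquiv (R := Localization.AtPrime (maximalIdeal A))
    (IsLocalization.algEquiv (maximalIdeal A).primeCompl (Localization.AtPrime (maximalIdeal A)) A).toRingEquiv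

/-- Complete Noetherian local domains have geometrically regular generic formal fibres. -/
theorem isGeometricallyRegular_completion_completeDomain {B C D : Type u} [CommRing B] [IsDomain B]
    [IsLocalRing B] [IsNoetherianRing B] [IsAdicComplete (maximalIdeal B) B]
    (n : Ideal B) [n.IsPrime] [CommRing C] [IsLocalRing C]
    [IsNoetherianRing C] [Algebra B C] [IsLocalization.AtPrime C n] [CommRing D] [IsLocalRing D]
    [IsNoetherianRing D] [IsAdicComplete (maximalIdeal D) D] [Algebra B D] [Algebra C D] [IsScalarTower B C D]
    (hDm : maximalIdeal D = (maximalIdeal C).map (algebraMap C D))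
    (hd : ∀ (k : ℕ) (d : D), ∃ c : C, d - algebraMap C D c ∈ maximalIdeal D ^ k)
    (hc : ∀ (k : ℕ) (c : C), algebraMap C D c ∈ maximalIdeal D ^ k → c ∈ maximalIdeal C ^ k)
    (q : Ideal D) [q.IsPrime] (hq : q.comap (algebraMap C D) = ⊥)
    (Dq : Type u) [CommRing Dq] [Algebra D Dq] [IsLocalization.AtPrime Dq q] [Algebra B Dq] [IsScalarTower B D Dq]
    [Algebra (FractionRing B) Dq] [IsScalarTower B (FractionRing B) Dq] :
    CAlg.IsGeometricallyRegular (FractionRing B) Dq := by
  obtain ⟨Λ, _, m, f, hΛ, hf, hfin, -⟩ := Groth.Agent.CAlgCohen.exists_normalization (R := B)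
  letI : Algebra (MvPowerSeries (Fin m) Λ) B := f.toAlgebra
  haveI : Module.Finite (MvPowerSeries (Fin m) Λ) B := hfin
  haveI : IsDomain (MvPowerSeries (Fin m) Λ) := hf.isDomain f
  rcases hΛ with hΛ | ⟨_, _, -, l, hl, hlm⟩
  · letI : Field Λ := hΛ.toField
    rcases CharP.exists' Λ with h0 | ⟨l, hl, hch⟩
    · haveI := h0
      haveI : CharZero (MvPowerSeries (Fin m) Λ) :=
        charZero_of_injective_algebraMap (algebraMap Λ (MvPowerSeries (Fin m) Λ)).injective
      exact isGeometricallyRegular_completion_generic hf (fun p _ => isGeometricallyRegular_fibre_charZero _ p)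
        n hDm hd hc q hq Dq
    · haveI := hl
      haveI := hch
      exact isGeometricallyRegular_completion_generic hf (fun p _ => isGeometricallyRegular_fibre_powerSeries Λ l m p)
        n hDm hd hc q hq Dq
  · haveI : IsRegularRing Λ := Groth.Agent.RegLocus.isRegularRing_of_regular_local Λ
    haveI : IsRegularRing (MvPowerSeries (Fin m) Λ) := isRegularRing_mvPowerSeries Λ m
    haveI : IsRegularLocalRing (MvPowerSeries (Fin m) Λ) := isRegularLocalRing_of_isRegularRing _
    haveI : CharZero Λ := by
      rcases CharP.exists' Λ with h0 | ⟨l', hl', hch⟩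
      · exact h0
      exfalso
      haveI := hch
      have h1 : (l' : Λ) = 0 := CharP.cast_eq_zero Λ l'
      have hmem : (1 : Λ) ∈ maximalIdeal Λ := by
        by_cases hll : l = l'
        · subst hll
          rw [h1, Ideal.span_singleton_zero] at hlm
          exact absurd hlm (IsDiscreteValuationRing.not_a_field Λ)
        · obtain ⟨u, v, huv⟩ := (Nat.isCoprime_iff_coprime.2 ((Nat.coprime_primes hl hl'.out).2 hll) :
            IsCoprime (l : ℤ) l')
          have h2 := congrArg (Int.cast : ℤ → Λ) huv
          push_cast at h2
          rw [h1, mul_zero, add_zero] at h2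
          rw [hlm, ← h2]
          exact Ideal.mul_mem_left _ _ (Ideal.mem_span_singleton_self _)
      exact (maximalIdeal.isMaximal Λ).ne_top ((Ideal.eq_top_iff_one _).2 hmem)
    haveI : CharZero (MvPowerSeries (Fin m) Λ) :=
      charZero_of_injective_ringHom (f := MvPowerSeries.C (R := Λ) (σ := Fin m))
        fun a b h => by simpa using congrArg MvPowerSeries.constantCoeff h
    exact isGeometricallyRegular_completion_generic hf (fun p _ => isGeometricallyRegular_fibre_charZero _ p)
      n hDm hd hc q hq Dq

end Groth.Agent.SymGr
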