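import Groth.Agent.SymGr.Existence
import Groth.Agent.CAlgJac.Basic
import Mathlib

/-! The completed differentials of an adically formally smooth local algebra. -/

set_option autoImplicit false

namespace Groth.Agent.SymGr

universe u

open TensorProduct IsLocalRing EGA41

/-- Kernel elements of `K ⊗ Ω_A → Ω_K` are differentials of elements of the kernel. -/
theorem mem_ker_mapBaseChange {R : Type*} {A K : Type u} [CommRing R] [CommRing A] [CommRing K] [Algebra R A]
    [Algebra R K] [Algebra A K] [IsScalarTower R A K] (hs : Function.Surjective (algebraMap A K))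
    (z : K ⊗[A] Ω[A⁄R]) :
    KaehlerDifferential.mapBaseChange R A K z = 0 ↔
      ∃ x, algebraMap A K x = 0 ∧ (1 : K) ⊗ₜ[A] KaehlerDifferential.D R A x = z := by
  refine ((KaehlerDifferential.exact_kerCotangentToTensor_mapBaseChange R A K hs) z).trans ?_
  constructor
  · rintro ⟨y, rfl⟩
    obtain ⟨⟨x, hx⟩, rfl⟩ := Ideal.toCotangent_surjective (RingHom.ker (algebraMap A K)) y
    exact ⟨x, hx, (KaehlerDifferential.kerCotangentToTensor_toCotangent R A K ⟨x, hx⟩).symm⟩
  · rintro ⟨x, hx, rfl⟩
    exact ⟨(RingHom.ker (algebraMap A K)).toCotangent ⟨x, hx⟩,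
      KaehlerDifferential.kerCotangentToTensor_toCotangent R A K ⟨x, hx⟩⟩

variable {k A : Type u} [Field k] [CommRing A] [IsLocalRing A] [IsNoetherianRing A] [Algebra k A]

omit [IsNoetherianRing A] in
/-- The differential on the maximal ideal, valued at the closed point. -/
theorem exists_cotangent_map (k₁ : Type u) [Field k₁] [Algebra k₁ A] :
    ∃ L : CotangentSpace A →ₗ[ResidueField A] ResidueField A ⊗[A] Ω[A⁄ℤ], Function.Injective L ∧
      ∀ x : maximalIdeal A, L ((maximalIdeal A).toCotangent x) = 1 ⊗ₜ KaehlerDifferential.D ℤ A (x : A) := by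
  let L₀ : maximalIdeal A →ₗ[A] ResidueField A ⊗[A] Ω[A⁄ℤ] :=
    { toFun := fun x => 1 ⊗ₜ KaehlerDifferential.D ℤ A (x : A)
      map_add' := fun x y => by rw [Submodule.coe_add, map_add, TensorProduct.tmul_add]
      map_smul' := fun r x => by
        rw [SetLike.val_smul, smul_eq_mul, Derivation.leibniz, TensorProduct.tmul_add, RingHom.id_apply,
          TensorProduct.tmul_smul, TensorProduct.tmul_smul]
        rw [← algebraMap_smul (ResidueField A) (x : A) ((1 : ResidueField A) ⊗ₜ[A] KaehlerDifferential.D ℤ A r),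
          show algebraMap A (ResidueField A) (x : A) = 0 from (residue_eq_zero_iff _).2 x.2, zero_smul, add_zero] }
  have hL₀ : (maximalIdeal A • ⊤ : Submodule A (maximalIdeal A)) ≤ LinearMap.ker L₀ := by
    rw [Submodule.smul_le]
    intro r hr x _
    rw [LinearMap.mem_ker, map_smul, ← algebraMap_smul (ResidueField A) r,
      show algebraMap A (ResidueField A) r = 0 from (residue_eq_zero_iff _).2 hr, zero_smul]
  let L₁ : CotangentSpace A →ₗ[A] ResidueField A ⊗[A] Ω[A⁄ℤ] := Submodule.liftQ _ L₀ hL₀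
  refine ⟨L₁.extendScalarsOfSurjective residue_surjective, ?_, fun x => rfl⟩
  show Function.Injective L₁
  rw [injective_iff_map_eq_zero]
  intro z hz
  obtain ⟨x, rfl⟩ := Ideal.toCotangent_surjective (maximalIdeal A) z
  obtain ⟨Λ, _, _, _, _⟩ := exists_prime_field k₁
  letI : Algebra Λ A := ((algebraMap k₁ A).comp (algebraMap Λ k₁)).toAlgebra
  letI : Algebra Λ (ResidueField A) := ((residue A).comp (algebraMap Λ A)).toAlgebra
  haveI : IsScalarTower Λ A (ResidueField A) := IsScalarTower.of_algebraMap_eq' rfl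
  haveI : Algebra.FormallySmooth Λ (ResidueField A) := formallySmooth_of_perfect
  have hΛ : (1 : ResidueField A) ⊗ₜ[A] KaehlerDifferential.D Λ A (x : A) = 0 := by
    have h := congrArg ((KaehlerDifferential.map ℤ Λ A A).lTensor (ResidueField A))
      (show (1 : ResidueField A) ⊗ₜ[A] KaehlerDifferential.D ℤ A (x : A) = 0 from hz)
    rw [LinearMap.lTensor_tmul, KaehlerDifferential.map_D, map_zero] at h
    exact h
  have hker : RingHom.ker (algebraMap A (ResidueField A)) = maximalIdeal A := Ideal.mk_ker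
  have hinj := Groth.Agent.CAlgJac.kerCotangentToTensor_injective Λ A (ResidueField A) residue_surjective
    (a₁ := (RingHom.ker (algebraMap A (ResidueField A))).toCotangent ⟨(x : A), (residue_eq_zero_iff _).2 x.2⟩) (a₂ := 0)
    (by rw [map_zero, KaehlerDifferential.kerCotangentToTensor_toCotangent]; exact hΛ)
  rw [Ideal.toCotangent_eq_zero] at hinj
  change (x : A) ∈ RingHom.ker (algebraMap A (ResidueField A)) ^ 2 at hinj
  rw [hker] at hinj
  rwa [Ideal.toCotangent_eq_zero]

omit [IsLocalRing A] [IsNoetherianRing A] in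
theorem exact_jMap (K : Type u) [Field K] [Algebra k K] [Algebra A K] [IsScalarTower k A K] :
    Function.Exact (jMap k K A) ((KaehlerDifferential.map ℤ k A A).baseChange K) := by
  have h := lTensor_exact K (KaehlerDifferential.exact_mapBaseChange_map ℤ k A)
    (KaehlerDifferential.map_surjective ℤ k A)
  intro z
  refine (h z).trans ?_
  constructor
  · rintro ⟨w, rfl⟩
    exact ⟨TensorProduct.AlgebraTensorModule.cancelBaseChange k A K K (Ω[k⁄ℤ]) w, by
      unfold jMap
      rw [LinearMap.comp_apply, LinearEquiv.coe_coe, LinearEquiv.symm_apply_apply]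
      rfl⟩
  · rintro ⟨w, rfl⟩
    exact ⟨_, rfl⟩

/-- The rank of the differentials at the closed point. -/
theorem finrank_fibre (h : CAlgX.IsAdicFormallySmooth k A (maximalIdeal A))
    [Algebra.EssFiniteType k (ResidueField A)] :
    Module.Finite (ResidueField A) (ResidueField A ⊗[A] Ω[A⁄k]) ∧
      (Module.finrank (ResidueField A) (ResidueField A ⊗[A] Ω[A⁄k]) : ℤ) =
        Module.finrank (ResidueField A) (CotangentSpace A) +
          ((Module.finrank (ResidueField A) (Ω[ResidueField A⁄k]) : ℤ) -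
            Module.finrank (ResidueField A) (imperfection ℤ k (ResidueField A))) := by
  have hs : Function.Surjective (algebraMap A (ResidueField A)) := residue_surjective
  have hJ := (injective_lTensor_iff (K := ResidueField A) hs).1 (isAdicFormallySmooth_field_iff_regular.1 h).2
  haveI : Module.Finite (ResidueField A) Ω[ResidueField A⁄k] := inferInstance
  haveI : Module.Finite (ResidueField A) (imperfection ℤ k (ResidueField A)) :=
    finite_imperfection_of_adic hs h
  obtain ⟨L, hL, hLx⟩ := exists_cotangent_map (A := A) k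
  let π : ResidueField A ⊗[A] Ω[A⁄ℤ] →ₗ[ResidueField A] ResidueField A ⊗[A] Ω[A⁄k] :=
    (KaehlerDifferential.map ℤ k A A).baseChange (ResidueField A)
  let θ : ResidueField A ⊗[A] Ω[A⁄k] →ₗ[ResidueField A] Ω[ResidueField A⁄k] :=
    KaehlerDifferential.mapBaseChange k A (ResidueField A)
  have hθ : Function.Surjective θ := KaehlerDifferential.mapBaseChange_surjective _ _ _ hs
  let g : CotangentSpace A →ₗ[ResidueField A] ResidueField A ⊗[A] Ω[A⁄k] := π ∘ₗ L
  have hg : ∀ x : maximalIdeal A, g ((maximalIdeal A).toCotangent x) = 1 ⊗ₜ KaehlerDifferential.D k A (x : A) := by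
    intro x
    rw [LinearMap.comp_apply, hLx, LinearMap.baseChange_tmul, KaehlerDifferential.map_D]
    rfl
  have hrange : LinearMap.range g = LinearMap.ker θ := by
    ext z
    refine Iff.trans ?_ (mem_ker_mapBaseChange hs z).symm
    constructor
    · rintro ⟨w, rfl⟩
      obtain ⟨x, rfl⟩ := Ideal.toCotangent_surjective (maximalIdeal A) w
      exact ⟨x, (residue_eq_zero_iff _).2 x.2, (hg x).symm⟩
    · rintro ⟨x, hx, rfl⟩
      exact ⟨_, hg ⟨x, (residue_eq_zero_iff _).1 hx⟩⟩
  have hmapθ : ∀ z, KaehlerDifferential.mapBaseChange ℤ A (ResidueField A) z = 0 ↔ z ∈ LinearMap.range L := by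
    intro z
    refine (mem_ker_mapBaseChange hs z).trans ?_
    constructor
    · rintro ⟨x, hx, rfl⟩
      exact ⟨_, hLx ⟨x, (residue_eq_zero_iff _).1 hx⟩⟩
    · rintro ⟨w, rfl⟩
      obtain ⟨x, rfl⟩ := Ideal.toCotangent_surjective (maximalIdeal A) w
      exact ⟨x, (residue_eq_zero_iff _).2 x.2, (hLx x).symm⟩
  -- kernel of `g`
  have hker : (LinearMap.ker g).map L = (imperfection ℤ k (ResidueField A)).map (jMap k (ResidueField A) A) := by
    ext z
    constructor
    · rintro ⟨w, hw, rfl⟩
      obtain ⟨u, hu⟩ := ((exact_jMap (k := k) (A := A) (ResidueField A)) (L w)).1 hw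
      refine ⟨u, ?_, hu⟩
      show KaehlerDifferential.mapBaseChange ℤ k (ResidueField A) u = 0
      refine (mapBaseChange_jMap (A := A) u).symm.trans ?_
      rw [hu]
      exact (hmapθ _).2 ⟨w, rfl⟩
    · rintro ⟨u, hu, rfl⟩
      obtain ⟨w, hw⟩ := (hmapθ (jMap k (ResidueField A) A u)).1 ((mapBaseChange_jMap (A := A) u).trans hu)
      refine ⟨w, ?_, hw⟩
      show π (L w) = 0
      rw [hw]
      exact ((exact_jMap (k := k) (A := A) (ResidueField A)) _).2 ⟨u, rfl⟩
  have hdimker : Module.finrank (ResidueField A) (LinearMap.ker g) =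
      Module.finrank (ResidueField A) (imperfection ℤ k (ResidueField A)) := by
    rw [(Submodule.equivMapOfInjective L hL (LinearMap.ker g)).finrank_eq, hker]
    exact (Submodule.equivMapOfInjective _ hJ (imperfection ℤ k (ResidueField A))).finrank_eq.symm
  haveI : Module.Finite (ResidueField A) (LinearMap.ker θ) := by
    rw [← hrange]; infer_instance
  haveI : Module.Finite (ResidueField A) ((ResidueField A ⊗[A] Ω[A⁄k]) ⧸ LinearMap.ker θ) :=
    Module.Finite.equiv (θ.quotKerEquivOfSurjective hθ).symm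
  haveI : Module.Finite (ResidueField A) (ResidueField A ⊗[A] Ω[A⁄k]) :=
    Module.Finite.of_submodule_quotient (LinearMap.ker θ)
  refine ⟨inferInstance, ?_⟩
  have h1 := LinearMap.finrank_range_add_finrank_ker g
  have h2 := LinearMap.finrank_range_add_finrank_ker θ
  rw [LinearMap.range_eq_top.2 hθ, finrank_top] at h2
  rw [hrange, hdimker] at h1
  omega

/-- Relations among lifts of a basis of the fibre have coefficients in every power of the ideal. -/
theorem coeff_mem_pow (h : CAlgX.IsAdicFormallySmooth k A (maximalIdeal A)) {d : ℕ}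
    (e : Fin d → Ω[A⁄k]) (be : Module.Basis (Fin d) (ResidueField A) (ResidueField A ⊗[A] Ω[A⁄k]))
    (hbe : ∀ i, be i = 1 ⊗ₜ e i) (j : ℕ) :
    (∀ w : Ω[A⁄k], ∃ c : Fin d → A, w - ∑ i, c i • e i ∈ (maximalIdeal A ^ j • ⊤ : Submodule A Ω[A⁄k])) ∧
      (∀ c : Fin d → A, ∑ i, c i • e i ∈ (maximalIdeal A ^ j • ⊤ : Submodule A Ω[A⁄k]) →
        ∀ i, c i ∈ maximalIdeal A ^ j) := by
  classical
  let S := Submodule.span A (Set.range e)
  have hS1 : S ⊔ (maximalIdeal A • ⊤ : Submodule A Ω[A⁄k]) = ⊤ := by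
    refine eq_top_iff.2 fun w hw => ?_
    clear hw
    obtain ⟨c, hc⟩ : ∃ c : Fin d → A, ∑ i, residue A (c i) • be i = (1 : ResidueField A) ⊗ₜ[A] w := by
      choose c hc using fun i => residue_surjective (be.repr ((1 : ResidueField A) ⊗ₜ[A] w) i)
      exact ⟨c, by simp only [hc]; exact be.sum_repr _⟩
    refine Submodule.mem_sup.2 ⟨∑ i, c i • e i, Submodule.sum_mem _ fun i _ =>
      Submodule.smul_mem _ _ (Submodule.subset_span ⟨i, rfl⟩), w - ∑ i, c i • e i, ?_, add_sub_cancel _ _⟩
    have h0 : (1 : ResidueField A) ⊗ₜ[A] (w - ∑ i, c i • e i) = 0 := by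
      rw [TensorProduct.tmul_sub, TensorProduct.tmul_sum, ← hc, sub_eq_zero]
      refine Finset.sum_congr rfl fun i _ => ?_
      rw [hbe, TensorProduct.tmul_smul]
      exact IsScalarTower.algebraMap_smul (ResidueField A) (c i) _
    have h1 : (1 : A ⧸ maximalIdeal A) ⊗ₜ[A] (w - ∑ i, c i • e i) = 0 := h0
    rwa [← (TensorProduct.quotTensorEquivQuotSMul (Ω[A⁄k]) (maximalIdeal A)).map_eq_zero_iff,
      TensorProduct.quotTensorEquivQuotSMul_mk_one_tmul, Submodule.Quotient.mk_eq_zero] at h1
  have hSj : ∀ j : ℕ, S ⊔ (maximalIdeal A ^ j • ⊤ : Submodule A Ω[A⁄k]) = ⊤ := by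
    intro j
    induction j with
    | zero => simp
    | succ j ih =>
      refine eq_top_iff.2 ?_
      conv_lhs => rw [← ih]
      refine sup_le le_sup_left ?_
      conv_lhs => rw [← hS1]
      rw [Submodule.smul_sup, ← mul_smul, ← pow_succ]
      exact sup_le (le_sup_of_le_left Submodule.smul_le_right) le_sup_right
  have hgen : ∀ w : Ω[A⁄k], ∃ c : Fin d → A,
      w - ∑ i, c i • e i ∈ (maximalIdeal A ^ j • ⊤ : Submodule A Ω[A⁄k]) := by
    intro w
    obtain ⟨s, hs, t, ht, rfl⟩ := Submodule.mem_sup.1 (show w ∈ S ⊔ _ from (hSj j).ge trivial)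
    obtain ⟨c, rfl⟩ := (Submodule.mem_span_range_iff_exists_fun A).1 hs
    exact ⟨c, by rwa [add_sub_cancel_left]⟩
  refine ⟨hgen, ?_⟩
  rcases Nat.eq_zero_or_pos j with rfl | hj
  · intro c _ i; simp
  intro c hc
  let I := maximalIdeal A ^ j
  have hIm : I ≤ maximalIdeal A := Ideal.pow_le_self hj.ne'
  haveI : Nontrivial (A ⧸ I) := Ideal.Quotient.nontrivial_iff.2 fun ht =>
    (maximalIdeal.isMaximal A).ne_top (top_le_iff.1 (ht ▸ hIm))
  haveI : IsLocalRing (A ⧸ I) := .of_surjective' _ Ideal.Quotient.mk_surjective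
  have hfsI : CAlgX.IsAdicFormallySmooth k A I := by
    intro T _ _ J hJ ψ hψ
    obtain ⟨N, hN⟩ := hψ
    exact h T J hJ ψ ⟨j * N, fun x hx => hN x (by rwa [← pow_mul])⟩
  haveI := projective_kaehler hfsI
  let f : Fin d → (A ⧸ I) ⊗[A] Ω[A⁄k] := fun i => 1 ⊗ₜ e i
  have hspan : Submodule.span (A ⧸ I) (Set.range f) = ⊤ := by
    refine eq_top_iff.2 fun z hz => ?_
    clear hz
    induction z using TensorProduct.induction_on with
    | zero => exact zero_mem _
    | add a b ha hb => exact add_mem ha hb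
    | tmul q w =>
      obtain ⟨a, ha⟩ := hgen w
      have h0 : (1 : A ⧸ I) ⊗ₜ[A] (w - ∑ i, a i • e i) = 0 := by
        rw [← (TensorProduct.quotTensorEquivQuotSMul (Ω[A⁄k]) I).map_eq_zero_iff,
          TensorProduct.quotTensorEquivQuotSMul_mk_one_tmul, Submodule.Quotient.mk_eq_zero]
        exact ha
      rw [TensorProduct.tmul_sub, sub_eq_zero] at h0
      rw [show q ⊗ₜ[A] w = q • ((1 : A ⧸ I) ⊗ₜ[A] w) by rw [TensorProduct.smul_tmul', smul_eq_mul, mul_one], h0,
        TensorProduct.tmul_sum]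
      refine Submodule.smul_mem _ _ (Submodule.sum_mem _ fun i _ => ?_)
      rw [TensorProduct.tmul_smul, ← IsScalarTower.algebraMap_smul (A ⧸ I) (a i)]
      exact Submodule.smul_mem _ _ (Submodule.subset_span ⟨i, rfl⟩)
  haveI : Module.Finite (A ⧸ I) ((A ⧸ I) ⊗[A] Ω[A⁄k]) :=
    ⟨hspan ▸ Submodule.fg_span (Set.finite_range f)⟩
  haveI : Module.Free (A ⧸ I) ((A ⧸ I) ⊗[A] Ω[A⁄k]) := Module.free_of_flat_of_isLocalRing
  letI : Algebra (A ⧸ I) (ResidueField A) := (Ideal.Quotient.factor hIm).toAlgebra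
  haveI : IsScalarTower A (A ⧸ I) (ResidueField A) := IsScalarTower.of_algebraMap_eq fun a => rfl
  have hrank : Module.finrank (A ⧸ I) ((A ⧸ I) ⊗[A] Ω[A⁄k]) = d := by
    rw [← Module.finrank_baseChange (R := ResidueField A) (S := A ⧸ I),
      (TensorProduct.AlgebraTensorModule.cancelBaseChange A (A ⧸ I) (ResidueField A) (ResidueField A)
        (Ω[A⁄k])).finrank_eq, Module.finrank_eq_card_basis be, Fintype.card_fin]
  have hli : LinearIndependent (A ⧸ I) f := linearIndependent_of_top_le_span_of_card_eq_finrank hspan.ge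
    (by rw [hrank, Fintype.card_fin])
  intro i
  refine Ideal.Quotient.eq_zero_iff_mem.1 (Fintype.linearIndependent_iff.1 hli
    (fun i => Ideal.Quotient.mk I (c i)) ?_ i)
  have h0 : (1 : A ⧸ I) ⊗ₜ[A] (∑ i, c i • e i) = 0 := by
    rw [← (TensorProduct.quotTensorEquivQuotSMul (Ω[A⁄k]) I).map_eq_zero_iff,
      TensorProduct.quotTensorEquivQuotSMul_mk_one_tmul, Submodule.Quotient.mk_eq_zero]
    exact hc
  rw [← h0, TensorProduct.tmul_sum]
  refine Finset.sum_congr rfl fun i _ => ?_
  rw [TensorProduct.tmul_smul]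
  exact IsScalarTower.algebraMap_smul (A ⧸ I) (c i) _

/-- The completed differentials are free on lifts of a basis of the fibre. -/
theorem exists_completion_equiv [IsAdicComplete (maximalIdeal A) A]
    (h : CAlgX.IsAdicFormallySmooth k A (maximalIdeal A))
    [Module.Finite (ResidueField A) (ResidueField A ⊗[A] Ω[A⁄k])] :
    Nonempty ((Fin (Module.finrank (ResidueField A) (ResidueField A ⊗[A] Ω[A⁄k])) → A) ≃ₗ[A]
      AdicCompletion (maximalIdeal A) (Ω[A⁄k])) := by
  classical
  let d := Module.finrank (ResidueField A) (ResidueField A ⊗[A] Ω[A⁄k])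
  let b₀ := Module.finBasis (ResidueField A) (ResidueField A ⊗[A] Ω[A⁄k])
  have hsurj : ∀ z : ResidueField A ⊗[A] Ω[A⁄k], ∃ w, (1 : ResidueField A) ⊗ₜ[A] w = z :=
    TensorProduct.mk_surjective A (Ω[A⁄k]) (ResidueField A) residue_surjective
  choose e he using fun i => hsurj (b₀ i)
  have hlev := fun j => coeff_mem_pow h e b₀ (fun i => (he i).symm) j
  let φ : (Fin d → A) →ₗ[A] AdicCompletion (maximalIdeal A) (Ω[A⁄k]) :=
    (AdicCompletion.of (maximalIdeal A) (Ω[A⁄k])) ∘ₗ Fintype.linearCombination A e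
  have hφ : ∀ c j, (φ c).val j = Submodule.Quotient.mk (∑ i, c i • e i) := fun c j =>
    congrArg Submodule.Quotient.mk (Fintype.linearCombination_apply A e c)
  refine ⟨LinearEquiv.ofBijective φ ⟨?_, fun x => ?_⟩⟩
  · rw [injective_iff_map_eq_zero]
    intro c hc
    funext i
    refine IsHausdorff.haus (inferInstance : IsHausdorff (maximalIdeal A) A) _ fun j => ?_
    rw [SModEq.zero, smul_eq_mul, Ideal.mul_top]
    refine (hlev j).2 c ?_ i
    have h1 := hφ c j
    rw [hc, eq_comm] at h1
    exact (Submodule.Quotient.mk_eq_zero _).1 (h1.trans rfl)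
  · choose w hw using fun j => Submodule.Quotient.mk_surjective _ (x.val j)
    choose c hc using fun j => (hlev j).1 (w j)
    have hcauchy : ∀ {a b : ℕ}, a ≤ b → ∀ i, c a i ≡ c b i [SMOD (maximalIdeal A ^ a • ⊤ : Submodule A A)] := by
      intro a b hab i
      rw [SModEq.sub_mem, smul_eq_mul, Ideal.mul_top]
      refine (hlev a).2 (fun i => c a i - c b i) ?_ i
      have h1 : w a - w b ∈ (maximalIdeal A ^ a • ⊤ : Submodule A Ω[A⁄k]) := by
        rw [← Submodule.Quotient.eq, hw a, ← x.prop hab, ← hw b]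
        rfl
      have h2 := Submodule.smul_mono_left (N := (⊤ : Submodule A Ω[A⁄k])) (Ideal.pow_le_pow_right hab) (hc b)
      have h3 : ∑ i, (c a i - c b i) • e i =
          (w a - w b) - (w a - ∑ i, c a i • e i) + (w b - ∑ i, c b i • e i) := by
        simp only [sub_smul, Finset.sum_sub_distrib]
        abel
      rw [h3]
      exact add_mem (sub_mem h1 (hc a)) h2
    choose l hl using fun i => IsPrecomplete.prec (inferInstance : IsPrecomplete (maximalIdeal A) A)
      (f := fun j => c j i) (fun {a b} hab => hcauchy hab i)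
    refine ⟨l, AdicCompletion.ext fun {j} => ?_⟩
    rw [hφ, ← hw j, Submodule.Quotient.eq]
    have h4 : ∑ i, l i • e i - w j = ∑ i, (l i - c j i) • e i - (w j - ∑ i, c j i • e i) := by
      simp only [sub_smul, Finset.sum_sub_distrib]
      abel
    rw [h4]
    refine sub_mem (Submodule.sum_mem _ fun i _ => Submodule.smul_mem_smul ?_ trivial) (hc j)
    have := (hl i j).symm
    rwa [SModEq.sub_mem, smul_eq_mul, Ideal.mul_top] at this

end Groth.Agent.SymGr
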