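import Groth.Agent.FSAdic.Basic
import Groth.Agent.CplFin.Basic
import Groth.Agent.SymGr.Omega
import Groth.Agent.S2469
import Mathlib

/-! Lifting derivations of a complete adically formally smooth algebra over a field. -/

set_option autoImplicit false

namespace Groth.Agent.SymGr

universe u

open TensorProduct IsLocalRing

attribute [-simp] DualNumber.inr_eq_smul_eps DualNumber.snd_mul

/-- Quotients of a finite algebra over a complete local ring are separated. -/
theorem isHausdorff_quotient_of_finite {A C : Type u} [CommRing A] [IsLocalRing A] [IsNoetherianRing A]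
    [IsAdicComplete (maximalIdeal A) A] [CommRing C] [Algebra A C] [Module.Finite A C] (J : Ideal C) :
    IsHausdorff (((maximalIdeal A).map (algebraMap A C)).map (Ideal.Quotient.mk J)) (C ⧸ J) := by
  have : Module.Finite A (C ⧸ J) :=
    Module.Finite.of_surjective (Ideal.Quotient.mkₐ A J).toLinearMap Ideal.Quotient.mk_surjective
  have : IsAdicComplete (maximalIdeal A) (C ⧸ J) := Groth.Agent.CplFin.isAdicComplete_of_finite A _ _
  rw [Ideal.map_map, show (Ideal.Quotient.mk J).comp (algebraMap A C) = algebraMap A (C ⧸ J) from rfl]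
  exact IsHausdorff.map_algebraMap_iff.2 inferInstance

/-- The elements of the dual numbers with zero constant term and infinitesimal part in an ideal. -/
def sqZeroIdeal {A : Type u} [CommRing A] (I : Ideal A) : Ideal (TrivSqZeroExt A A) where
  carrier := {z | z.fst = 0 ∧ z.snd ∈ I}
  zero_mem' := ⟨rfl, I.zero_mem⟩
  add_mem' := fun {a b} ha hb => ⟨by simp [TrivSqZeroExt.fst_add, ha.1, hb.1], by
    rw [TrivSqZeroExt.snd_add]; exact I.add_mem ha.2 hb.2⟩
  smul_mem' := fun r z hz => ⟨by simp [smul_eq_mul, TrivSqZeroExt.fst_mul, hz.1], by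
    rw [smul_eq_mul, TrivSqZeroExt.snd_mul, hz.1]
    simpa using I.mul_mem_left _ hz.2⟩

/-- Derivations into a quotient lift, together with a prescribed restriction to the base. -/
theorem exists_derivation_lift_complete {k K₀ A : Type u} [CommRing k] [CommRing K₀] [CommRing A] [IsLocalRing A]
    [IsNoetherianRing A] [IsAdicComplete (maximalIdeal A) A] [Algebra k K₀] [Algebra K₀ A] [Algebra k A]
    [IsScalarTower k K₀ A] (hA : CAlgX.IsAdicFormallySmooth K₀ A (maximalIdeal A)) (I : Ideal A)
    (D₀ : Derivation k K₀ A) (δ : Derivation k A (A ⧸ I))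
    (hc : ∀ c, δ (algebraMap K₀ A c) = Ideal.Quotient.mk I (D₀ c)) :
    ∃ D : Derivation k A A, (∀ a, Ideal.Quotient.mk I (D a) = δ a) ∧ ∀ c, D (algebraMap K₀ A c) = D₀ c := by
  classical
  have : Module.Finite A (TrivSqZeroExt A A) := Module.Finite.of_surjective
    ((Algebra.linearMap A (TrivSqZeroExt A A)).coprod (TrivSqZeroExt.inrHom A A) : A × A →ₗ[A] (TrivSqZeroExt A A))
    (fun z => ⟨(z.fst, z.snd), TrivSqZeroExt.inl_fst_add_inr_snd_eq z⟩)
  let J : Ideal (TrivSqZeroExt A A) := sqZeroIdeal I
  let 𝔠 : Ideal (TrivSqZeroExt A A) := (maximalIdeal A).map (algebraMap A (TrivSqZeroExt A A))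
  have : IsAdicComplete (maximalIdeal A) (TrivSqZeroExt A A) := Groth.Agent.CplFin.isAdicComplete_of_finite A _ (TrivSqZeroExt A A)
  have : IsAdicComplete 𝔠 (TrivSqZeroExt A A) := (IsAdicComplete.map_algebraMap_iff (maximalIdeal A) (TrivSqZeroExt A A)).2 inferInstance
  have hH : IsHausdorff (𝔠.map (Ideal.Quotient.mk J)) ((TrivSqZeroExt A A) ⧸ J) :=
    isHausdorff_quotient_of_finite J
  have hmk : ∀ a b b', b - b' ∈ I → Ideal.Quotient.mk J (TrivSqZeroExt.inl a + TrivSqZeroExt.inr b) =
      Ideal.Quotient.mk J (TrivSqZeroExt.inl a + TrivSqZeroExt.inr b') := fun a b b' hb =>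
    Ideal.Quotient.eq.2 ⟨by simp, by simpa using hb⟩
  let ι : K₀ →+* (TrivSqZeroExt A A) :=
    { toFun := fun c => TrivSqZeroExt.inl (algebraMap K₀ A c) + TrivSqZeroExt.inr (D₀ c)
      map_one' := by ext <;> simp [Derivation.map_one_eq_zero]
      map_zero' := by ext <;> simp
      map_add' := fun a b => by ext <;> simp
      map_mul' := fun a b => by
        ext
        · simp
        · simp [Derivation.leibniz, Algebra.smul_def]
          ring }
  letI algC : Algebra K₀ (TrivSqZeroExt A A) := ι.toAlgebra
  choose y hy using fun a => Ideal.Quotient.mk_surjective (δ a)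
  let u : A →ₐ[K₀] (TrivSqZeroExt A A) ⧸ J :=
    { toFun := fun a => Ideal.Quotient.mk J (TrivSqZeroExt.inl a + TrivSqZeroExt.inr (y a))
      map_one' := by
        rw [hmk 1 (y 1) 0 (Ideal.Quotient.eq.1 (by rw [hy, Derivation.map_one_eq_zero, map_zero]))]
        rw [TrivSqZeroExt.inr_zero, add_zero, TrivSqZeroExt.inl_one, map_one]
      map_mul' := fun a b => by
        rw [← map_mul, hmk (a * b) (y (a * b)) (a * y b + b * y a) (Ideal.Quotient.eq.1 (by
          rw [hy, Derivation.leibniz, map_add, map_mul, map_mul, hy, hy]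
          rfl))]
        congr 1
        ext
        · simp
        · simp
          ring
      map_zero' := by
        rw [hmk 0 (y 0) 0 (Ideal.Quotient.eq.1 (by rw [hy, map_zero, map_zero]))]
        rw [TrivSqZeroExt.inr_zero, add_zero, TrivSqZeroExt.inl_zero, map_zero]
      map_add' := fun a b => by
        rw [← map_add, hmk (a + b) (y (a + b)) (y a + y b) (Ideal.Quotient.eq.1 (by
          rw [hy, map_add, map_add, hy, hy]))]
        congr 1
        ext <;> simp
      commutes' := fun c => by
        rw [hmk (algebraMap K₀ A c) (y (algebraMap K₀ A c)) (D₀ c) (Ideal.Quotient.eq.1 (by rw [hy, hc]))]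
        rfl }
  have hAC : EGA41.IsFormallySmoothAdic K₀ ⊥ A (maximalIdeal A) :=
    Groth.Agent.FSAdic.of_sq_zero _ _ fun C _ _ J hJ _ ψ hψ => hA C J hJ ψ hψ
  have hJ2 : J ^ 2 ≤ 𝔠 := by
    rw [sq, Ideal.mul_le]
    intro r hr s hs
    have : r * s = 0 := by
      ext
      · rw [TrivSqZeroExt.fst_mul, hr.1, zero_mul, TrivSqZeroExt.fst_zero]
      · rw [TrivSqZeroExt.snd_mul, hr.1, hs.1]
        simp
    rw [this]; exact zero_mem _
  obtain ⟨v, -, hv⟩ := Groth.Agent.FSAdic.lift_adicComplete ⊥ (maximalIdeal A) 𝔠 hAC ⟨1, by simp⟩ J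
    ⟨2, hJ2⟩ u ⟨2, by
      rw [Ideal.map_le_iff_le_comap]
      intro a ha
      have hy' : ∃ b ∈ maximalIdeal A, Ideal.Quotient.mk I b = δ a := by
        rw [sq] at ha
        refine Submodule.mul_induction_on ha (fun p hp q hq => ?_) fun p q hp hq => ?_
        · refine ⟨p * y q + q * y p, add_mem (Ideal.mul_mem_right _ _ hp) (Ideal.mul_mem_right _ _ hq), ?_⟩
          rw [map_add, map_mul, map_mul, hy, hy, Derivation.leibniz]
          rfl
        · obtain ⟨b, hb, hb'⟩ := hp
          obtain ⟨c, hc, hc'⟩ := hq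
          exact ⟨b + c, add_mem hb hc, by rw [map_add, map_add, hb', hc']⟩
      obtain ⟨b, hb, hb'⟩ := hy'
      rw [Ideal.mem_comap]
      show Ideal.Quotient.mk J (TrivSqZeroExt.inl a + TrivSqZeroExt.inr (y a)) ∈ _
      rw [hmk a (y a) b (Ideal.Quotient.eq.1 (by rw [hy, hb']))]
      refine Ideal.mem_map_of_mem _ (add_mem ?_ ?_)
      · exact Ideal.mem_map_of_mem (algebraMap A (TrivSqZeroExt A A)) (Ideal.pow_le_self two_ne_zero ha)
      · rw [show (TrivSqZeroExt.inr b : (TrivSqZeroExt A A)) = algebraMap A (TrivSqZeroExt A A) b * TrivSqZeroExt.inr 1 by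
          rw [TrivSqZeroExt.algebraMap_eq_inl, TrivSqZeroExt.inl_mul_inr, smul_eq_mul, mul_one]]
        exact Ideal.mul_mem_right _ _ (Ideal.mem_map_of_mem _ hb)⟩
  have hvu : ∀ a, v a - (TrivSqZeroExt.inl a + TrivSqZeroExt.inr (y a)) ∈ J := fun a =>
    Ideal.Quotient.eq.1 (AlgHom.congr_fun hv a)
  have hfst : ∀ a, (v a).fst = a := fun a => by
    simpa [sub_eq_zero] using (hvu a).1
  have hvι : ∀ c, v (algebraMap K₀ A c) = ι c := fun c => v.commutes c
  let dlin : A →ₗ[k] A :=
    { toFun := fun a => (v a).snd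
      map_add' := fun a b => by rw [map_add, TrivSqZeroExt.snd_add]
      map_smul' := fun r a => by
        rw [Algebra.smul_def, map_mul, IsScalarTower.algebraMap_apply k K₀ A, hvι, TrivSqZeroExt.snd_mul, hfst]
        simp [ι, Algebra.smul_def, ← IsScalarTower.algebraMap_apply] }
  refine ⟨Derivation.mk' dlin fun a b => ?_, fun a => ?_, fun c => ?_⟩
  · show (v (a * b)).snd = a • (v b).snd + b • (v a).snd
    rw [map_mul, TrivSqZeroExt.snd_mul, hfst, hfst]
    simp [mul_comm]
  · show Ideal.Quotient.mk I (v a).snd = δ a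
    rw [← hy, Ideal.Quotient.eq]
    simpa using (hvu a).2
  · show (v (algebraMap K₀ A c)).snd = D₀ c
    rw [hvι]
    simp [ι]

/-- A complete local ring formally smooth over a field of finite residue degree has as many
derivations over it, dual to elements modulo the maximal ideal, as its dimension. -/
theorem exists_dual_derivations {K₀ A : Type u} [Field K₀] [CommRing A] [IsLocalRing A] [IsNoetherianRing A]
    [IsAdicComplete (maximalIdeal A) A] [Algebra K₀ A] [Module.Finite K₀ (ResidueField A)]
    (hA : CAlgX.IsAdicFormallySmooth K₀ A (maximalIdeal A)) :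
    ∃ (x : Fin (Module.finrank (ResidueField A) (CotangentSpace A)) → A)
      (D : Fin (Module.finrank (ResidueField A) (CotangentSpace A)) → Derivation K₀ A A),
      Matrix.det (Matrix.of fun i j => D i (x j)) ∉ maximalIdeal A := by
  classical
  have : Algebra.EssFiniteType K₀ (ResidueField A) := inferInstance
  obtain ⟨hfin, hrank⟩ := finrank_fibre hA
  obtain ⟨_, _, h3⟩ := Groth.Agent.S2469.result (K := K₀) (L := ResidueField A)
  have : Algebra.IsAlgebraic K₀ (ResidueField A) := Algebra.IsAlgebraic.of_finite K₀ _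
  rw [trdeg_eq_zero, map_zero, Nat.cast_zero] at h3
  replace hrank : Module.finrank (ResidueField A) (ResidueField A ⊗[A] Ω[A⁄K₀]) =
      Module.finrank (ResidueField A) (CotangentSpace A) :=
    Int.natCast_inj.1 ((hrank.trans (congrArg (_ + ·) h3)).trans (add_zero _))
  haveI := hfin
  have : IsScalarTower K₀ A (ResidueField A) := IsScalarTower.of_algebraMap_eq' rfl
  have hspan : ⊤ ≤ Submodule.span (ResidueField A)
      (Set.range fun a : A => (1 : ResidueField A) ⊗ₜ[A] KaehlerDifferential.D K₀ A a) := by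
    intro z hz
    clear hz
    induction z using TensorProduct.induction_on with
    | zero => exact zero_mem _
    | add a b ha hb => exact add_mem ha hb
    | tmul l w =>
      have hw : w ∈ Submodule.span A (Set.range (KaehlerDifferential.D K₀ A)) := by
        rw [KaehlerDifferential.span_range_derivation]; trivial
      rw [show l ⊗ₜ[A] w = l • ((1 : ResidueField A) ⊗ₜ[A] w) by rw [TensorProduct.smul_tmul', smul_eq_mul, mul_one]]
      refine Submodule.smul_mem _ _ ?_
      induction hw using Submodule.span_induction with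
      | mem x hx =>
        obtain ⟨a, rfl⟩ := hx
        exact Submodule.subset_span ⟨a, rfl⟩
      | zero => simp
      | add x y _ _ hx hy => rw [TensorProduct.tmul_add]; exact add_mem hx hy
      | smul c x _ hx =>
        rw [TensorProduct.tmul_smul, ← algebraMap_smul (ResidueField A) c ((1 : ResidueField A) ⊗ₜ[A] x)]
        exact Submodule.smul_mem _ _ hx
  obtain ⟨b, hbsub, hbspan, hbli⟩ := exists_linearIndependent (ResidueField A)
    (Set.range fun a : A => (1 : ResidueField A) ⊗ₜ[A] KaehlerDifferential.D K₀ A a)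
  let B := Module.Basis.mk hbli (le_of_le_of_eq hspan (by rw [← hbspan, Subtype.range_coe]))
  let e : b ≃ Fin (Module.finrank (ResidueField A) (CotangentSpace A)) :=
    (B.indexEquiv (Module.finBasis (ResidueField A) (ResidueField A ⊗[A] Ω[A⁄K₀]))).trans (finCongr hrank)
  choose x hx using fun i => hbsub (e.symm i).2
  let B' := B.reindex e
  have hT : IsScalarTower K₀ A (ResidueField A) := IsScalarTower.of_algebraMap_eq fun _ => rfl
  have hT2 : IsScalarTower K₀ A (ResidueField A ⊗[A] Ω[A⁄K₀]) := inferInstance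
  let θ : Derivation K₀ A (ResidueField A ⊗[A] Ω[A⁄K₀]) :=
    ((TensorProduct.mk A (ResidueField A) (Ω[A⁄K₀])) 1).compDer (KaehlerDifferential.D K₀ A)
  let δ₀ : Fin (Module.finrank (ResidueField A) (CotangentSpace A)) → Derivation K₀ A (ResidueField A) := fun i =>
    ((B'.coord i).restrictScalars A).compDer θ
  let δ : ∀ i, Derivation K₀ A (A ⧸ maximalIdeal A) := fun i => δ₀ i
  have hlift : ∀ i, ∃ D : Derivation K₀ A A, ∀ a, Ideal.Quotient.mk (maximalIdeal A) (D a) = δ i a := fun i => by
    obtain ⟨D, hD, -⟩ := exists_derivation_lift_complete hA (maximalIdeal A) 0 (δ i) fun c => by simp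
    exact ⟨D, hD⟩
  choose D hD using hlift
  refine ⟨x, D, ?_⟩
  rw [← Ideal.Quotient.eq_zero_iff_mem, RingHom.map_det,
    show (Ideal.Quotient.mk (maximalIdeal A)).mapMatrix (Matrix.of fun i j => D i (x j)) = 1 from
      Matrix.ext fun i j => by
        rw [RingHom.mapMatrix_apply, Matrix.map_apply, Matrix.of_apply, hD]
        show B'.coord i (θ (x j)) = _
        rw [show θ (x j) = (1 : ResidueField A) ⊗ₜ[A] KaehlerDifferential.D K₀ A (x j) from rfl,
          show (1 : ResidueField A) ⊗ₜ[A] KaehlerDifferential.D K₀ A (x j) = B' j by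
            refine (hx j).trans ?_; simp [B', B], Module.Basis.coord_apply, Module.Basis.repr_self, Finsupp.single_apply,
          Matrix.one_apply]
        by_cases h : j = i
        · subst h; simp
          rfl
        · simp [h, Ne.symm h]
          rfl]
  rw [Matrix.det_one]
  exact one_ne_zero

end Groth.Agent.SymGr
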