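import Groth.Agent.SymGr.SubfieldFamily
import Groth.Agent.MvPSLib.Basic
import Groth.Agent.RegNormal.Basic
import Mathlib

/-! Subfields of the field of formal Laurent series defined by coefficient subfields. -/

set_option autoImplicit false

namespace Groth.Agent.SymGr

universe u

open EGA41

/-- Elements of the subfield generated by a subring are fractions. -/
theorem exists_of_mem_closure {A : Type u} [CommRing A] [IsDomain A] (S : Subring A) {x : FractionRing A}
    (hx : x ∈ Subfield.closure (algebraMap A (FractionRing A) '' (S : Set A))) :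
    ∃ c ∈ S, ∃ d ∈ S, d ≠ 0 ∧ x * algebraMap A (FractionRing A) d = algebraMap A (FractionRing A) c := by
  rw [← Subring.coe_map, Subfield.mem_closure_iff] at hx
  simp only [Subring.closure_eq] at hx
  obtain ⟨_, ⟨c, hc, rfl⟩, _, ⟨d, hd, rfl⟩, rfl⟩ := hx
  rcases eq_or_ne d 0 with rfl | hd0
  · exact ⟨0, S.zero_mem, 1, S.one_mem, one_ne_zero, by simp⟩
  · exact ⟨c, hc, d, hd, hd0, div_mul_cancel₀ _ ((map_ne_zero_iff _ (IsFractionRing.injective A _)).2 hd0)⟩

/-- A fraction over an integrally closed subring which is radical over it lies in it. -/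
theorem mem_range_of_pow_mem {A B : Type u} [CommRing A] [IsDomain A] [CommRing B] [IsDomain B]
    [IsIntegrallyClosed B] (ψ : B →+* A) (hψ : Function.Injective ψ) {q : ℕ} (hq : 0 < q) {h c d : A}
    (hc : c ∈ ψ.range) (hd : d ∈ ψ.range) (hd0 : d ≠ 0) (he : h * d = c) (hpow : h ^ q ∈ ψ.range) :
    h ∈ ψ.range := by
  obtain ⟨c, rfl⟩ := hc
  obtain ⟨d, rfl⟩ := hd
  obtain ⟨u, hu⟩ := hpow
  have hd0' : algebraMap B (FractionRing B) d ≠ 0 :=
    (map_ne_zero_iff _ (IsFractionRing.injective B (FractionRing B))).2 fun h0 => hd0 (by rw [h0, map_zero])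
  have h1 : c ^ q = u * d ^ q := hψ (by rw [map_pow, map_mul, map_pow, hu, ← he, mul_pow])
  have h2 : IsIntegral B (algebraMap B (FractionRing B) c / algebraMap B (FractionRing B) d) := by
    refine IsIntegral.of_pow hq ?_
    rw [div_pow, ← map_pow, h1, map_mul, map_pow, mul_div_cancel_right₀ _ (pow_ne_zero _ hd0')]
    exact isIntegral_algebraMap
  obtain ⟨y, hy⟩ := IsIntegrallyClosed.isIntegral_iff.1 h2
  rw [eq_div_iff hd0', ← map_mul] at hy
  refine ⟨y, mul_right_cancel₀ hd0 ?_⟩
  rw [← map_mul, IsFractionRing.injective B (FractionRing B) hy, he]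

variable {k : Type u} [Field k] {σ : Type*} (F : Subfield k) (p : ℕ) (hp : p ≠ 0)

/-- Series in `X^p` with coefficients in a subfield. -/
noncomputable def subSeries : MvPowerSeries σ F →+* MvPowerSeries σ k :=
  (MvPowerSeries.map F.subtype).comp (MvPowerSeries.expand (σ := σ) (R := F) p hp).toRingHom

theorem coeff_subSeries (g : MvPowerSeries σ F) (n : σ →₀ ℕ) :
    MvPowerSeries.coeff n (subSeries F p hp g) = ((MvPowerSeries.coeff n (MvPowerSeries.expand p hp g) : F) : k) := by
  rw [subSeries, RingHom.comp_apply, MvPowerSeries.coeff_map]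
  rfl

theorem subSeries_injective [Finite σ] : Function.Injective (subSeries (σ := σ) F p hp) := by
  intro f g hfg
  ext n
  have := congrArg (MvPowerSeries.coeff (p • n)) hfg
  simpa [subSeries, MvPowerSeries.coeff_map] using this

theorem mem_range_subSeries_iff [Finite σ] {f : MvPowerSeries σ k} :
    f ∈ (subSeries (σ := σ) F p hp).range ↔
      ∀ n, MvPowerSeries.coeff n f ∈ F ∧ (MvPowerSeries.coeff n f ≠ 0 → ∀ i, p ∣ n i) := by
  classical
  constructor
  · rintro ⟨g, rfl⟩ n
    refine ⟨by rw [coeff_subSeries]; exact SetLike.coe_mem _, fun h i => ?_⟩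
    by_contra hdvd
    exact h (by rw [coeff_subSeries, MvPowerSeries.coeff_expand_of_not_dvd p hp g hdvd]; rfl)
  · intro h
    let g : MvPowerSeries σ F := fun n => ⟨MvPowerSeries.coeff (p • n) f, (h _).1⟩
    refine ⟨g, ?_⟩
    ext n
    by_cases hn : ∀ i, p ∣ n i
    · obtain ⟨m, rfl⟩ : ∃ m, n = p • m :=
        ⟨n.mapRange (fun a => a / p) (Nat.zero_div p), Finsupp.ext fun i => by
          simp [Nat.mul_div_cancel' (hn i)]⟩
      rw [coeff_subSeries, MvPowerSeries.coeff_expand_smul]
      rfl
    · have h0 : MvPowerSeries.coeff n f = 0 := by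
        by_contra h0; exact hn ((h n).2 h0)
      push Not at hn
      obtain ⟨i, hi⟩ := hn
      rw [coeff_subSeries, MvPowerSeries.coeff_expand_of_not_dvd p hp g hi, h0]
      rfl

variable {F p hp}

/-- The coefficients of a `q`-th power. -/
theorem coeff_pow_expChar_pow [Finite σ] (p : ℕ) [ExpChar k p] (e : ℕ) (f : MvPowerSeries σ k) (n : σ →₀ ℕ) :
    (∃ c : k, MvPowerSeries.coeff n (f ^ p ^ e) = c ^ p ^ e) ∧
      (MvPowerSeries.coeff n (f ^ p ^ e) ≠ 0 → ∀ i, p ^ e ∣ n i) := by
  have hp : p ≠ 0 := (expChar_pos k p).ne'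
  rw [← MvPowerSeries.map_iterateFrobenius_expand p hp f e, MvPowerSeries.coeff_map, iterateFrobenius_def]
  refine ⟨⟨_, rfl⟩, fun h i => ?_⟩
  by_contra hi
  exact h (by rw [MvPowerSeries.coeff_expand_of_not_dvd _ _ _ hi, zero_pow (pow_ne_zero _ hp)])

/-- A family of subfields of finite codegree with smallest possible intersection. -/
theorem exists_cofinite_family (p : ℕ) [Fact p.Prime] (k₀ K : Type u) [Field k₀] [Field K] [Algebra k₀ K]
    [CharP K p] :
    ∃ (S : Type u) (_ : DecidableEq S) (k : Finset S → IntermediateField k₀ K), Antitone k ∧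
      (∀ T, ∀ y : K, y ^ p ∈ k T) ∧ (∀ T, Module.Finite (k T) K) ∧
      (⨅ T, k T ⊔ IntermediateField.adjoin k₀ (Set.range fun y : K => y ^ p)) =
        IntermediateField.adjoin k₀ (Set.range fun y : K => y ^ p) := by
  classical
  obtain ⟨S, hS⟩ := Groth.Agent.PBasis.exists_pBasis p k₀ K
  let k : Finset S → IntermediateField k₀ K := fun T =>
    IntermediateField.adjoin k₀ (Set.range (fun y : K => y ^ p) ∪ ((Subtype.val : S → K) '' (↑T)ᶜ))
  have hkp : ∀ T, ∀ y : K, y ^ p ∈ k T := fun T y => IntermediateField.subset_adjoin _ _ (Or.inl ⟨y, rfl⟩)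
  refine ⟨S, inferInstance, k, fun T T' hTT' => IntermediateField.adjoin.mono _ _ _
    (Set.union_subset_union_right _ (Set.image_mono (Set.compl_subset_compl.2 (Finset.coe_subset.2 hTT')))),
    hkp, fun T => ?_, ?_⟩
  · haveI : Algebra.IsIntegral (k T) K := ⟨fun y => IsIntegral.of_pow (Fact.out : p.Prime).pos
      (show IsIntegral (k T) (algebraMap (k T) K ⟨y ^ p, hkp T y⟩) from isIntegral_algebraMap)⟩
    let E := IntermediateField.adjoin (k T) (((Subtype.val : S → K) '' ↑T))
    haveI : Finite ↥((Subtype.val : S → K) '' ↑T) := (T.finite_toSet.image _).to_subtype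
    haveI : Module.Finite (k T) E :=
      IntermediateField.finiteDimensional_adjoin fun y _ => Algebra.IsIntegral.isIntegral y
    have hE : E = ⊤ := by
      refine eq_top_iff.2 fun y _ => ?_
      have hgen : y ∈ Algebra.adjoin (EGA41.pPowerSubalgebra p k₀ K) (Set.range (Subtype.val : S → K)) := by
        rw [(Groth.Agent.PBasis.isPGenerating_iff (Fact.out : p.Prime).ne_zero _).1 hS.2]; trivial
      rw [← SetLike.mem_coe, ← Groth.Agent.PBasis.intermediateField_adjoin_eq] at hgen
      refine (IntermediateField.adjoin_le_iff (T := E.restrictScalars k₀)).2 ?_ hgen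
      rintro z (hz | ⟨⟨s, hs⟩, rfl⟩)
      · obtain ⟨w, rfl⟩ := hz
        show algebraMap (k T) K ⟨w ^ p, hkp T w⟩ ∈ E
        exact E.algebraMap_mem ⟨w ^ p, hkp T w⟩
      · by_cases hsT : (⟨s, hs⟩ : S) ∈ T
        · show s ∈ E
          have hmem : s ∈ (Subtype.val : S → K) '' ↑T := ⟨⟨s, hs⟩, hsT, rfl⟩
          exact IntermediateField.subset_adjoin (k T) _ hmem
        · have hsF : s ∈ k T :=
            IntermediateField.subset_adjoin k₀ _ (Or.inr ⟨⟨s, hs⟩, hsT, rfl⟩)
          show algebraMap (k T) K ⟨s, hsF⟩ ∈ E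
          exact E.algebraMap_mem ⟨s, hsF⟩
    exact Module.Finite.equiv ((IntermediateField.equivOfEq hE).trans IntermediateField.topEquiv).toLinearEquiv
  · refine le_antisymm (fun x hx => ?_) (le_iInf fun T => le_sup_right)
    by_contra hx'
    let b : Module.Basis S K (Ω[K⁄k₀]) :=
      Module.Basis.mk ((Groth.Agent.PBasis.isPIndependent_iff_linearIndependent _).1 hS.1)
        ((Groth.Agent.PBasis.isPGenerating_iff_span _).1 hS.2).ge
    let T : Finset S := (b.repr (KaehlerDifferential.D k₀ K x)).support
    refine D_ne_zero_of_notMem hx' ?_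
    have hT : LinearIndependent K fun j : ↥T => KaehlerDifferential.D (k T) K ((j : S) : K) := by
      refine (Groth.Agent.PBasis.isPIndependent_iff_linearIndependent (p := p) _).1
        ((Groth.Agent.PBasis.isPIndependent_iff_notMem _).2 fun a ha => ?_)
      refine Groth.Agent.PBasis.notMem_adjoin_of_isPIndependent hS.1 (a : S) ?_
      rw [← SetLike.mem_coe, ← Groth.Agent.PBasis.intermediateField_adjoin_eq] at ha ⊢
      let M : IntermediateField k₀ K :=
        IntermediateField.adjoin k₀ (Set.range (fun y : K => y ^ p) ∪ ((Subtype.val : S → K) '' {b | b ≠ (a : S)}))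
      have hFM : k T ≤ M := IntermediateField.adjoin.mono _ _ _ (Set.union_subset_union_right _
        (Set.image_mono fun s hs hsa => hs (hsa ▸ a.2)))
      have h1 : IntermediateField.adjoin (k T) (Set.range (fun y : K => y ^ p) ∪ ((fun j : ↥T => ((j : S) : K)) '' {b | b ≠ a})) ≤
          IntermediateField.extendScalars hFM := by
        refine IntermediateField.adjoin_le_iff.2 ?_
        rintro z (hz | ⟨j, hj, rfl⟩)
        · exact IntermediateField.subset_adjoin k₀ _ (Or.inl hz)
        · exact IntermediateField.subset_adjoin k₀ _ (Or.inr ⟨j.1, fun hja => hj (Subtype.ext hja), rfl⟩)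
      exact h1 ha
    have hspan : KaehlerDifferential.D k₀ K x ∈
        Submodule.span K (Set.range fun j : ↥T => KaehlerDifferential.D k₀ K ((j : S) : K)) := by
      rw [← b.linearCombination_repr (KaehlerDifferential.D k₀ K x), Finsupp.linearCombination_apply, Finsupp.sum]
      exact Submodule.sum_mem _ fun s hs => Submodule.smul_mem _ _ (Submodule.subset_span ⟨⟨s, hs⟩, by simp [b]⟩)
    obtain ⟨c, hc⟩ := (Submodule.mem_span_range_iff_exists_fun K).1 hspan
    have h0 := congrArg (KaehlerDifferential.map k₀ (k T) K K) hc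
    simp only [map_sum, map_smul, KaehlerDifferential.map_D, Algebra.algebraMap_self, RingHom.id_apply] at h0
    rw [D_eq_zero_of_mem (p := p) (F := k T) (by
      rw [← SetLike.mem_coe, IntermediateField.coe_iInf, Set.mem_iInter] at hx
      exact hx T)] at h0
    rw [← hc]
    simp [Fintype.linearIndependent_iff.1 hT c h0]

end Groth.Agent.SymGr

namespace Groth.Agent.SymGr

universe u

/-- Power series form a finite free module over `p`-th power series with coefficients in a cofinite
subfield. -/
theorem free_finite_subSeries {k : Type u} [Field k] {r : ℕ} (F : Subfield k) (p : ℕ) (hp : p ≠ 0)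
    [Module.Finite F k] :
    Module.Free (subSeries (σ := Fin r) F p hp).range (MvPowerSeries (Fin r) k) ∧
      Module.Finite (subSeries (σ := Fin r) F p hp).range (MvPowerSeries (Fin r) k) := by
  classical
  let S := (subSeries (σ := Fin r) F p hp).range
  let c := Module.finBasis F k
  let ee : (Fin r → Fin p) → (Fin r →₀ ℕ) := fun e => Finsupp.equivFunOnFinite.symm fun i => (e i : ℕ)
  let v : Fin (Module.finrank F k) × (Fin r → Fin p) → MvPowerSeries (Fin r) k := fun je =>
    MvPowerSeries.monomial (ee je.2) (c je.1)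
  have key : ∀ (g : Fin (Module.finrank F k) × (Fin r → Fin p) → MvPowerSeries (Fin r) F) (n : Fin r →₀ ℕ)
      (e₀ : Fin r → Fin p),
      MvPowerSeries.coeff (p • n + ee e₀) (∑ je, subSeries F p hp (g je) * v je) =
        ∑ j, MvPowerSeries.coeff n (g (j, e₀)) • c j := by
    intro g n e₀
    rw [map_sum, Fintype.sum_prod_type]
    refine Finset.sum_congr rfl fun j _ => ?_
    rw [Finset.sum_eq_single e₀]
    · rw [MvPowerSeries.coeff_mul_monomial, if_pos le_add_self, add_tsub_cancel_right, coeff_subSeries,
        MvPowerSeries.coeff_expand_smul, Subfield.smul_def, smul_eq_mul]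
    · intro e _ hne
      rw [MvPowerSeries.coeff_mul_monomial]
      split_ifs with hle
      · have hnd : ∃ i, ¬ p ∣ (p • n + ee e₀ - ee e : Fin r →₀ ℕ) i := by
          by_contra hcon
          push Not at hcon
          refine hne (funext fun i => Fin.ext ?_)
          have h1 : (p • n + ee e₀ - ee e : Fin r →₀ ℕ) i = p * n i + (e₀ i : ℕ) - (e i : ℕ) := by simp [ee]
          have h2 : (e i : ℕ) ≤ p * n i + (e₀ i : ℕ) := by simpa [ee] using hle i
          obtain ⟨q, hq⟩ := hcon i
          rw [h1] at hq
          have hq' : p * n i + (e₀ i : ℕ) = p * q + (e i : ℕ) := by omega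
          have h3 := congrArg (· % p) hq'
          simp only [Nat.mul_add_mod, Nat.mod_eq_of_lt (e i).2, Nat.mod_eq_of_lt (e₀ i).2] at h3
          exact h3.symm
        obtain ⟨i, hi⟩ := hnd
        rw [coeff_subSeries, MvPowerSeries.coeff_expand_of_not_dvd p hp _ hi]
        simp
      · rfl
    · simp
  have hli : LinearIndependent S v := by
    rw [Fintype.linearIndependent_iff]
    intro a ha je
    choose g hg using fun je => (a je).2
    have ha' : ∑ je, subSeries F p hp (g je) * v je = 0 := by
      rw [← ha]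
      exact Finset.sum_congr rfl fun je _ => by rw [hg je]; rfl
    have h0 : g je = 0 := by
      ext n
      have h1 := key g n je.2
      rw [ha', map_zero] at h1
      simpa using congrArg Subtype.val
        (Fintype.linearIndependent_iff.1 c.linearIndependent (fun j => MvPowerSeries.coeff n (g (j, je.2))) h1.symm je.1)
    exact Subtype.ext (by rw [← hg je, h0, map_zero]; rfl)
  have hspan : ⊤ ≤ Submodule.span S (Set.range v) := by
    intro f _
    let g : Fin (Module.finrank F k) × (Fin r → Fin p) → MvPowerSeries (Fin r) F := fun je n =>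
      c.repr (MvPowerSeries.coeff (p • n + ee je.2) f) je.1
    have hf : f = ∑ je, subSeries F p hp (g je) * v je := by
      ext m
      let e₀ : Fin r → Fin p := fun i => ⟨m i % p, Nat.mod_lt _ (Nat.pos_of_ne_zero hp)⟩
      let n : Fin r →₀ ℕ := Finsupp.equivFunOnFinite.symm fun i => m i / p
      have hm : m = p • n + ee e₀ := Finsupp.ext fun i => by
        simp [n, ee, e₀, Nat.div_add_mod]
      rw [hm, key]
      exact (c.sum_repr _).symm
    rw [hf]
    refine Submodule.sum_mem _ fun je _ => ?_
    exact Submodule.smul_mem _ (⟨_, ⟨g je, rfl⟩⟩ : S) (Submodule.subset_span ⟨je, rfl⟩)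
  let b := Module.Basis.mk hli hspan
  exact ⟨Module.Free.of_basis b, Module.Finite.of_basis b⟩

end Groth.Agent.SymGr
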