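import Mathlib

/-! Extending derivations to localisations and completions. -/

set_option autoImplicit false

namespace Groth.Agent.SymGr

universe u

/-- Derivations extend to localisations. -/
theorem exists_derivation_localization {B S : Type u} [CommRing B] [CommRing S] [Algebra B S]
    (M : Submonoid B) [IsLocalization M S] (D : Derivation ℤ B B) :
    ∃ D' : Derivation ℤ S S, ∀ b, D' (algebraMap B S b) = algebraMap B S (D b) := by
  let g : B →+* TrivSqZeroExt S S :=
    { toFun := fun b => TrivSqZeroExt.inl (algebraMap B S b) + TrivSqZeroExt.inr (algebraMap B S (D b))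
      map_one' := by ext <;> simp
      map_zero' := by ext <;> simp
      map_add' := fun a b => by ext <;> simp [Algebra.smul_def, TrivSqZeroExt.algebraMap_eq_inl, add_comm, add_left_comm, add_assoc]
      map_mul' := fun a b => by
        ext
        · simp
        · simp [Derivation.leibniz, Algebra.smul_def, TrivSqZeroExt.algebraMap_eq_inl]; ring }
  have hg : ∀ y : M, IsUnit (g y) := fun y => by
    rw [TrivSqZeroExt.isUnit_iff_isUnit_fst]
    simpa [g] using IsLocalization.map_units S y
  let l : S →+* TrivSqZeroExt S S := IsLocalization.lift hg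
  have hfst : ∀ s, (l s).fst = s := by
    intro s
    have h : (TrivSqZeroExt.fstHom S S S).toRingHom.comp l = RingHom.id S := by
      refine IsLocalization.ringHom_ext M (RingHom.ext fun b => ?_)
      show (l (algebraMap B S b)).fst = algebraMap B S b
      rw [IsLocalization.lift_eq]
      simp [g]
    exact RingHom.congr_fun h s
  refine ⟨Derivation.mk' (AddMonoidHom.mk' (fun s => (l s).snd)
    (fun a b => by rw [map_add, TrivSqZeroExt.snd_add])).toIntLinearMap (fun a b => ?_), fun b => ?_⟩
  · show (l (a * b)).snd = a • (l b).snd + b • (l a).snd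
    rw [map_mul, TrivSqZeroExt.snd_mul, hfst, hfst]
    simp [mul_comm]
  · show (l (algebraMap B S b)).snd = _
    rw [IsLocalization.lift_eq]
    simp [g, Algebra.smul_def, TrivSqZeroExt.algebraMap_eq_inl]

/-- Derivations preserve adic filtrations up to one step. -/
theorem derivation_mem_pow {B : Type u} [CommRing B] (D : Derivation ℤ B B) (I : Ideal B) :
    ∀ (n : ℕ), ∀ a ∈ I ^ (n + 1), D a ∈ I ^ n := by
  intro n
  induction n with
  | zero => simp
  | succ n ih =>
    intro a ha
    rw [pow_succ] at ha
    induction ha using Submodule.mul_induction_on' with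
    | mem_mul_mem x hx y hy =>
      rw [Derivation.leibniz, smul_eq_mul, smul_eq_mul]
      refine add_mem (Ideal.mul_mem_right _ _ hx) ?_
      rw [pow_succ']
      exact Ideal.mul_mem_mul hy (ih x hx)
    | add x _ y _ hx hy => rw [map_add]; exact add_mem hx hy

/-- Derivations extend by continuity to completions. -/
theorem exists_derivation_completion {B R : Type u} [CommRing B] [CommRing R] [Algebra B R]
    (J : Ideal R) [IsAdicComplete J R] (hdense : ∀ (n : ℕ) (x : R), ∃ a : B, x - algebraMap B R a ∈ J ^ n)
    (D : Derivation ℤ B B)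
    (hcont : ∀ (n : ℕ) (a : B), algebraMap B R a ∈ J ^ (n + 1) → algebraMap B R (D a) ∈ J ^ n) :
    ∃ D' : Derivation ℤ R R, ∀ b, D' (algebraMap B R b) = algebraMap B R (D b) := by
  classical
  let Q : R → R → Prop := fun x y => ∀ (n : ℕ) (a : B), x - algebraMap B R a ∈ J ^ (n + 1) →
    y - algebraMap B R (D a) ∈ J ^ n
  have hex : ∀ x, ∃ y, Q x y := by
    intro x
    choose a ha using fun n => hdense (n + 1) x
    obtain ⟨y, hy⟩ := IsPrecomplete.prec (inferInstance : IsPrecomplete J R)
      (f := fun n => algebraMap B R (D (a n))) (fun {m n} hmn => by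
        rw [SModEq.sub_mem, smul_eq_mul, Ideal.mul_top, ← map_sub, ← map_sub]
        refine hcont m _ ?_
        rw [map_sub, show algebraMap B R (a m) - algebraMap B R (a n) =
          (x - algebraMap B R (a n)) - (x - algebraMap B R (a m)) by ring]
        exact sub_mem (Ideal.pow_le_pow_right (Nat.succ_le_succ hmn) (ha n)) (ha m))
    refine ⟨y, fun n b hb => ?_⟩
    have h1 := hy n
    rw [SModEq.sub_mem, smul_eq_mul, Ideal.mul_top] at h1
    have h2 : algebraMap B R (D (a n)) - algebraMap B R (D b) ∈ J ^ n := by
      rw [← map_sub, ← map_sub]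
      refine hcont n _ ?_
      rw [map_sub, show algebraMap B R (a n) - algebraMap B R b =
        (x - algebraMap B R b) - (x - algebraMap B R (a n)) by ring]
      exact sub_mem hb (ha n)
    have := sub_mem h2 h1
    rwa [show algebraMap B R (D (a n)) - algebraMap B R (D b) - (algebraMap B R (D (a n)) - y) =
      y - algebraMap B R (D b) by ring] at this
  choose f hf using hex
  have huniq : ∀ x y, Q x y → f x = y := fun x y hy => by
    refine sub_eq_zero.1 (IsHausdorff.haus (I := J) inferInstance _ fun n => ?_)
    obtain ⟨a, ha⟩ := hdense (n + 1) x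
    rw [SModEq.zero, smul_eq_mul, Ideal.mul_top]
    have := sub_mem (hf x n a ha) (hy n a ha)
    rwa [sub_sub_sub_cancel_right] at this
  have hB : ∀ b, f (algebraMap B R b) = algebraMap B R (D b) := fun b => huniq _ _ fun n a ha => by
    rw [← map_sub, ← map_sub]
    rw [← map_sub] at ha
    exact hcont n _ ha
  have hlim : ∀ (x x' : R) (n : ℕ) (a : B), x - algebraMap B R a ∈ J ^ (n + 1) →
      f x - algebraMap B R (D a) ∈ J ^ n := fun x _ n a ha => hf x n a ha
  have hadd : ∀ x y, f (x + y) = f x + f y := fun x y => huniq _ _ fun n a ha => by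
    obtain ⟨b, hb⟩ := hdense (n + 1) x
    obtain ⟨c, hc⟩ := hdense (n + 1) y
    have h1 : algebraMap B R (D (b + c)) - algebraMap B R (D a) ∈ J ^ n := by
      rw [← map_sub, ← map_sub]
      refine hcont n _ ?_
      rw [map_sub, show algebraMap B R (b + c) - algebraMap B R a =
        (x + y - algebraMap B R a) - ((x - algebraMap B R b) + (y - algebraMap B R c)) by rw [map_add]; ring]
      exact sub_mem ha (add_mem hb hc)
    have h2 := add_mem (add_mem (hf x n b hb) (hf y n c hc)) h1
    convert h2 using 1
    rw [map_add, map_add]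
    ring
  have hmul : ∀ x y, f (x * y) = x • f y + y • f x := fun x y => huniq _ _ fun n a ha => by
    obtain ⟨b, hb⟩ := hdense (n + 1) x
    obtain ⟨c, hc⟩ := hdense (n + 1) y
    have h1 : algebraMap B R (D (b * c)) - algebraMap B R (D a) ∈ J ^ n := by
      rw [← map_sub, ← map_sub]
      refine hcont n _ ?_
      rw [map_sub, show algebraMap B R (b * c) - algebraMap B R a =
        (x * y - algebraMap B R a) - ((x - algebraMap B R b) * y + algebraMap B R b * (y - algebraMap B R c)) by
          rw [map_mul]; ring]
      exact sub_mem ha (add_mem (Ideal.mul_mem_right _ _ hb) (Ideal.mul_mem_left _ _ hc))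
    have hb' := Ideal.pow_le_pow_right (Nat.le_succ n) hb
    have hc' := Ideal.pow_le_pow_right (Nat.le_succ n) hc
    have h2 := add_mem (add_mem (add_mem (Ideal.mul_mem_left _ x (hf y n c hc)) (Ideal.mul_mem_right (algebraMap B R (D c)) _ hb'))
      (add_mem (Ideal.mul_mem_left _ y (hf x n b hb)) (Ideal.mul_mem_right (algebraMap B R (D b)) _ hc'))) h1
    convert h2 using 1
    rw [Derivation.leibniz, map_add, smul_eq_mul, smul_eq_mul, smul_eq_mul, smul_eq_mul, map_mul, map_mul]
    ring
  exact ⟨Derivation.mk' (AddMonoidHom.mk' f hadd).toIntLinearMap hmul, hB⟩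

end Groth.Agent.SymGr
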