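import Groth.Agent.SymGr.CharZeroFibre
import Groth.Agent.SymGr.SeriesSubfields
import Groth.Agent.SymGr.DerExtend
import Groth.Agent.S4548
import Mathlib

/-! Geometric regularity of generic formal fibres. -/

set_option autoImplicit false

namespace Groth.Agent.SymGr

universe u

open TensorProduct IsLocalRing

/-- Geometric regularity is local. -/
theorem isGeometricallyRegular_of_local (K W : Type u) [Field K] [CommRing W] [IsNoetherianRing W] [Algebra K W]
    (h : ∀ (P : Ideal W) [P.IsPrime], CAlgX.IsAdicFormallySmooth K (Localization.AtPrime P)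
      (maximalIdeal (Localization.AtPrime P))) : CAlg.IsGeometricallyRegular K W := by
  intro L _ _ hf
  haveI := hf
  letI : Algebra W (L ⊗[K] W) := Algebra.TensorProduct.rightAlgebra
  haveI : Module.Finite W (L ⊗[K] W) := Module.Finite.of_basis
    ((Algebra.TensorProduct.basis W (Module.finBasis K L)).map
      (Algebra.TensorProduct.commRight K W L).toLinearEquiv)
  haveI : IsNoetherianRing (L ⊗[K] W) := Algebra.FiniteType.isNoetherianRing W _
  refine isRegularRing_iff.2 fun Q hQ => ?_
  let inc : W →ₐ[K] L ⊗[K] W := Algebra.TensorProduct.includeRight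
  let P := Q.comap inc
  haveI : P.IsPrime := Ideal.comap_isPrime _ Q
  let WP := Localization.AtPrime P
  haveI : IsNoetherianRing WP := IsLocalization.isNoetherianRing P.primeCompl _ inferInstance
  haveI hreg : IsRegularRing (L ⊗[K] WP) := isRegularRing_baseChange (h P)
  letI : Algebra (L ⊗[K] W) (L ⊗[K] WP) :=
    (Algebra.TensorProduct.map (AlgHom.id K L) (IsScalarTower.toAlgHom K W WP)).toRingHom.toAlgebra
  haveI : IsScalarTower L (L ⊗[K] W) (L ⊗[K] WP) := IsScalarTower.of_algebraMap_eq fun c => by
    show c ⊗ₜ[K] (1 : WP) = c ⊗ₜ[K] (algebraMap W WP 1)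
    rw [map_one]
  haveI : IsLocalization (P.primeCompl.map inc) (L ⊗[K] WP) :=
    IsLocalization.tensorProduct_tensorProduct_right (R := K) (S := L) P.primeCompl WP (RingHom.ext fun a => rfl)
  have hdisj : Disjoint (↑(P.primeCompl.map inc) : Set (L ⊗[K] W)) Q :=
    Set.disjoint_left.2 fun x ⟨y, hy, hyx⟩ hx => hy (Ideal.mem_comap.2 (hyx ▸ hx))
  let Q' := Q.map (algebraMap (L ⊗[K] W) (L ⊗[K] WP))
  haveI : Q'.IsPrime := IsLocalization.isPrime_of_isPrime_disjoint (P.primeCompl.map inc) _ Q hQ hdisj
  haveI hloc := IsLocalization.isLocalization_isLocalization_atPrime_isLocalization (P.primeCompl.map inc)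
    (T := Localization.AtPrime Q') Q'
  have hc : Q'.comap (algebraMap (L ⊗[K] W) (L ⊗[K] WP)) = Q :=
    IsLocalization.comap_map_of_isPrime_disjoint (P.primeCompl.map inc) _ hQ hdisj
  haveI : IsLocalization.AtPrime (Localization.AtPrime Q') Q := by
    have h := hloc
    simp only [IsLocalization.AtPrime] at h ⊢
    convert h using 2
    exact Ideal.ext fun x => by rw [hc]
  haveI : IsRegularLocalRing (Localization.AtPrime Q') := (isRegularRing_iff.1 hreg) Q'
  exact IsRegularLocalRing.of_ringEquiv (R := Localization.AtPrime Q')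
    (IsLocalization.algEquiv Q.primeCompl (Localization.AtPrime Q') (Localization.AtPrime Q)).toRingEquiv

/-- Finite field extensions preserve geometric regularity of generic fibres. -/
theorem isGeometricallyRegular_finite_ext (A K L R : Type u) [CommRing A] [Field K] [Field L] [CommRing R]
    [Algebra A K] [Algebra A L] [Algebra K L] [IsScalarTower A K L] [Algebra A R] [Module.Finite K L]
    (h : CAlg.IsGeometricallyRegular K (K ⊗[A] R)) : CAlg.IsGeometricallyRegular L (L ⊗[A] R) := by
  intro L' _ _ hf
  haveI := hf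
  letI : Algebra A L' := ((algebraMap L L').comp (algebraMap A L)).toAlgebra
  haveI : IsScalarTower A L L' := IsScalarTower.of_algebraMap_eq' rfl
  letI : Algebra K L' := ((algebraMap L L').comp (algebraMap K L)).toAlgebra
  haveI : IsScalarTower K L L' := IsScalarTower.of_algebraMap_eq' rfl
  haveI : IsScalarTower A K L' := IsScalarTower.of_algebraMap_eq fun a => by
    show algebraMap L L' (algebraMap A L a) = algebraMap L L' (algebraMap K L (algebraMap A K a))
    rw [← IsScalarTower.algebraMap_apply A K L]
  haveI : Module.Finite K L' := Module.Finite.trans L L'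
  haveI := h L' inferInstance
  exact IsRegularRing.of_ringEquiv (R := L' ⊗[K] (K ⊗[A] R))
    (((Algebra.TensorProduct.cancelBaseChange A K L' L' R).toRingEquiv).trans
      (Algebra.TensorProduct.cancelBaseChange A L L' L' R).toRingEquiv.symm)

/-- `L ⊗ R` is a localisation of `R ⊗ B`. -/
theorem isLocalization_tensor_comm {A B L R : Type u} [CommRing A] [CommRing B] [CommRing L] [CommRing R]
    [Algebra A B] [Algebra A L] [Algebra B L] [IsScalarTower A B L] [Algebra A R]
    (N : Submonoid B) [IsLocalization N L] [Algebra (R ⊗[A] B) (L ⊗[A] R)]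
    (h : ∀ (r : R) (b : B), algebraMap (R ⊗[A] B) (L ⊗[A] R) (r ⊗ₜ b) = algebraMap B L b ⊗ₜ r) :
    IsLocalization (N.map (Algebra.TensorProduct.includeRight (R := A) (A := R) (B := B))) (L ⊗[A] R) := by
  letI : Algebra (R ⊗[A] B) (R ⊗[A] L) :=
    (Algebra.TensorProduct.map (AlgHom.id A R) (IsScalarTower.toAlgHom A B L)).toRingHom.toAlgebra
  haveI : IsScalarTower R (R ⊗[A] B) (R ⊗[A] L) := IsScalarTower.of_algebraMap_eq fun c => by
    show c ⊗ₜ[A] (1 : L) = c ⊗ₜ[A] (algebraMap B L 1)
    rw [map_one]
  haveI : IsLocalization (N.map (Algebra.TensorProduct.includeRight (R := A) (A := R) (B := B))) (R ⊗[A] L) :=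
    IsLocalization.tensorProduct_tensorProduct_right (R := A) (S := R) N L (RingHom.ext fun a => rfl)
  let e : R ⊗[A] L ≃ₐ[R ⊗[A] B] L ⊗[A] R :=
    { (Algebra.TensorProduct.comm A R L).toRingEquiv with
      commutes' := fun z => by
        show Algebra.TensorProduct.comm A R L
          (Algebra.TensorProduct.map (AlgHom.id A R) (IsScalarTower.toAlgHom A B L) z) = algebraMap _ _ z
        induction z using TensorProduct.induction_on with
        | zero => simp
        | add x y hx hy => simp only [map_add, hx, hy]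
        | tmul r b => simp [h] }
  exact IsLocalization.isLocalization_of_algEquiv _ e

set_option maxHeartbeats 1000000 in
/-- Generic formal fibres of finite extensions: geometric regularity. -/
theorem isGeometricallyRegular_completion_generic {A B C D : Type u} [CommRing A] [IsRegularLocalRing A]
    [IsDomain A] [CommRing B] [IsDomain B] [Algebra A B] [Module.Finite A B]
    (hinj : Function.Injective (algebraMap A B))
    (hfib : ∀ (p : Ideal A) [p.IsPrime], CAlg.IsGeometricallyRegular (FractionRing A)
      (FractionRing A ⊗[A] AdicCompletion (maximalIdeal (Localization.AtPrime p)) (Localization.AtPrime p)))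
    (n : Ideal B) [n.IsPrime] [CommRing C] [IsLocalRing C]
    [IsNoetherianRing C] [Algebra B C] [IsLocalization.AtPrime C n] [CommRing D] [IsLocalRing D]
    [IsNoetherianRing D] [IsAdicComplete (maximalIdeal D) D] [Algebra B D] [Algebra C D] [IsScalarTower B C D]
    (hDm : maximalIdeal D = (maximalIdeal C).map (algebraMap C D))
    (hd : ∀ (k : ℕ) (d : D), ∃ c : C, d - algebraMap C D c ∈ maximalIdeal D ^ k)
    (hc : ∀ (k : ℕ) (c : C), algebraMap C D c ∈ maximalIdeal D ^ k → c ∈ maximalIdeal C ^ k)
    (q : Ideal D) [q.IsPrime] (hq : q.comap (algebraMap C D) = ⊥)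
    (Dq : Type u) [CommRing Dq] [Algebra D Dq] [IsLocalization.AtPrime Dq q] [Algebra B Dq] [IsScalarTower B D Dq]
    [Algebra (FractionRing B) Dq] [IsScalarTower B (FractionRing B) Dq] :
    CAlg.IsGeometricallyRegular (FractionRing B) Dq := by
  classical
  letI : Algebra A D := ((algebraMap B D).comp (algebraMap A B)).toAlgebra
  haveI : IsScalarTower A B D := IsScalarTower.of_algebraMap_eq' rfl
  haveI : IsRegularRing A := Groth.Agent.RegLocus.isRegularRing_of_regular_local A
  let p := n.comap (algebraMap A B)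
  let A0 := Localization.AtPrime p
  haveI : IsRegularLocalRing A0 := (isRegularRing_iff.1 ‹IsRegularRing A›) p
  let R := AdicCompletion (maximalIdeal A0) A0
  haveI : IsNoetherianRing R := Groth.Agent.AdicNoeth.isNoetherianRing_adicCompletion _
  haveI : IsRegularLocalRing R := (Groth.Agent.CAlgCompl.isRegularLocalRing_adicCompletion_iff A0).1 inferInstance
  have hu : ∀ b ∉ n, IsUnit (algebraMap B D b) := fun b hb => by
    rw [IsScalarTower.algebraMap_apply B C D]
    exact (IsLocalization.map_units C (⟨b, hb⟩ : n.primeCompl)).map _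
  have hDn : maximalIdeal D = n.map (algebraMap B D) := by
    rw [hDm, ← IsLocalization.AtPrime.map_eq_maximalIdeal n C, Ideal.map_map, ← IsScalarTower.algebraMap_eq]
  let g : A0 →+* D := IsLocalization.lift (M := p.primeCompl) (g := algebraMap A D) fun t => hu _ t.2
  have hg : ∀ a, g (algebraMap A A0 a) = algebraMap A D a := fun a => IsLocalization.lift_eq _ a
  have hgm : maximalIdeal A0 ≤ (maximalIdeal D).comap g := by
    rw [← Localization.AtPrime.map_eq_maximalIdeal, Ideal.map_le_iff_le_comap]
    intro a ha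
    rw [Ideal.mem_comap, Ideal.mem_comap, hg, hDn]
    exact Ideal.mem_map_of_mem (algebraMap B D) (show algebraMap A B a ∈ n from ha)
  let f : (k : ℕ) → R →+* D ⧸ maximalIdeal D ^ k := fun k =>
    (Ideal.quotientMap (maximalIdeal D ^ k) g
      ((Ideal.pow_right_mono hgm k).trans (Ideal.le_comap_pow g k))).comp
      (AdicCompletion.evalₐ (maximalIdeal A0) k).toRingHom
  have hker := fun k => Groth.Agent.FSAdic.ker_evalₐ (maximalIdeal A0) (IsNoetherian.noetherian _) k
  have hf : ∀ {m k : ℕ} (hle : m ≤ k), (Ideal.Quotient.factorPow (maximalIdeal D) hle).comp (f k) = f m := by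
    intro m k hle
    ext x
    obtain ⟨y, hy⟩ := Ideal.Quotient.mk_surjective (AdicCompletion.evalₐ (maximalIdeal A0) k x)
    have hym : AdicCompletion.evalₐ (maximalIdeal A0) m x = Ideal.Quotient.mk _ y := by
      have h1 : x - algebraMap A0 R y ∈ RingHom.ker (AdicCompletion.evalₐ (maximalIdeal A0) k).toRingHom := by
        rw [RingHom.mem_ker, map_sub, sub_eq_zero]
        exact hy.symm.trans (AlgHom.commutes _ y).symm
      rw [hker] at h1
      have h2 := Ideal.pow_le_pow_right hle h1
      rw [← hker, RingHom.mem_ker, map_sub, sub_eq_zero] at h2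
      exact h2.trans (AlgHom.commutes _ y)
    simp only [f, RingHom.comp_apply, AlgHom.toRingHom_eq_coe, RingHom.coe_coe, hym, ← hy, Ideal.quotientMap_mk]
    rfl
  let ρ0 : R →+* D := IsAdicComplete.liftRingHom (maximalIdeal D) f hf
  have hρ : ∀ a, ρ0 (algebraMap A R a) = algebraMap A D a := fun a => by
    refine sub_eq_zero.1 (IsHausdorff.haus (I := maximalIdeal D) inferInstance _ fun k => ?_)
    rw [SModEq.zero, smul_eq_mul, Ideal.mul_top, ← Ideal.Quotient.eq, IsAdicComplete.mk_liftRingHom]
    simp only [f, RingHom.comp_apply, AlgHom.toRingHom_eq_coe, RingHom.coe_coe]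
    rw [IsScalarTower.algebraMap_apply A A0 R, AlgHom.commutes, Ideal.Quotient.algebraMap_eq, Ideal.quotientMap_mk, hg]
  let ρ : R →ₐ[A] D := { ρ0 with commutes' := hρ }
  have hR : ∀ (k : ℕ) (r : R), ∃ a t : A, t ∉ p ∧
      r * algebraMap A R t - algebraMap A R a ∈ maximalIdeal R ^ k := by
    intro k r
    obtain ⟨x, hx⟩ := Ideal.Quotient.mk_surjective (AdicCompletion.evalₐ (maximalIdeal A0) k r)
    obtain ⟨⟨a, t⟩, hat⟩ := IsLocalization.surj p.primeCompl x
    refine ⟨a, t, t.2, ?_⟩
    have h1 : r - algebraMap A0 R x ∈ RingHom.ker (AdicCompletion.evalₐ (maximalIdeal A0) k).toRingHom := by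
      rw [RingHom.mem_ker, map_sub, sub_eq_zero]
      exact hx.symm.trans (AlgHom.commutes _ x).symm
    rw [hker] at h1
    rw [AdicCompletion.maximalIdeal_eq_map]
    have h2 := Ideal.mul_mem_right (algebraMap A R (t : A)) _ h1
    convert h2 using 1
    rw [sub_mul, IsScalarTower.algebraMap_apply A A0 R (t : A), ← map_mul, hat,
      IsScalarTower.algebraMap_apply A A0 R a]
  have hRm : maximalIdeal R = p.map (algebraMap A R) := by
    have h1 : maximalIdeal R = (p.map (algebraMap A A0)).map (algebraMap A0 R) :=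
      (AdicCompletion.maximalIdeal_eq_map (R := A0)).trans
        (congrArg (Ideal.map (algebraMap A0 R)) (Localization.AtPrime.map_eq_maximalIdeal (I := p)).symm)
    rw [h1, Ideal.map_map, ← IsScalarTower.algebraMap_eq]
  obtain ⟨φ, hφ, hφR, hloc, -⟩ := exists_iso_completion n hR hRm hu hDn
    (fun k d => by
      obtain ⟨c, hc'⟩ := hd k d
      obtain ⟨⟨b, t⟩, hbt⟩ := IsLocalization.surj n.primeCompl c
      refine ⟨b, t, t.2, ?_⟩
      have h := Ideal.mul_mem_right (algebraMap B D (t : B)) _ hc'
      convert h using 1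
      rw [sub_mul, IsScalarTower.algebraMap_apply B C D (t : B), ← map_mul, hbt,
        IsScalarTower.algebraMap_apply B C D b])
    (fun k b hb => by
      rw [IsScalarTower.algebraMap_apply B C D] at hb
      have h := hc k _ hb
      rw [← IsLocalization.AtPrime.map_eq_maximalIdeal n C, ← Ideal.map_pow] at h
      obtain ⟨t, ht, h'⟩ := (IsLocalization.algebraMap_mem_map_algebraMap_iff n.primeCompl C _ _).1 h
      exact ⟨t, ht, h'⟩) ρ
  -- fields
  let K := FractionRing A
  let L := FractionRing B
  haveI : FaithfulSMul A B := (faithfulSMul_iff_algebraMap_injective A B).2 hinj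
  letI : Algebra K L := FractionRing.liftAlgebra A L
  haveI : IsScalarTower A K L := FractionRing.isScalarTower_liftAlgebra A L
  haveI : IsLocalization (Algebra.algebraMapSubmonoid B (nonZeroDivisors A)) L :=
    (IsLocalization.iff_of_le_of_exists_dvd (Algebra.algebraMapSubmonoid B (nonZeroDivisors A))
      (nonZeroDivisors B) (by
        rintro _ ⟨a, ha, rfl⟩
        exact mem_nonZeroDivisors_of_ne_zero fun h => nonZeroDivisors.ne_zero ha (hinj (h.trans (map_zero _).symm)))
      fun b hb => by
        obtain ⟨a, ha, hd⟩ := (Algebra.IsAlgebraic.isAlgebraic (R := A) b).exists_nonzero_dvd hb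
        exact ⟨_, ⟨a, mem_nonZeroDivisors_of_ne_zero ha, rfl⟩, hd⟩).2 inferInstance
  haveI : Module.Finite K L := Module.Finite.of_isLocalization A B (nonZeroDivisors A)
  have hW1 : CAlg.IsGeometricallyRegular L (L ⊗[A] R) :=
    isGeometricallyRegular_finite_ext A K L R (hfib p)
  -- `Dq` as a localisation of `L ⊗ R`
  letI : Algebra A Dq := ((algebraMap D Dq).comp (algebraMap A D)).toAlgebra
  haveI : IsScalarTower A D Dq := IsScalarTower.of_algebraMap_eq' rfl
  haveI : IsScalarTower A L Dq := IsScalarTower.of_algebraMap_eq fun a => by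
    rw [IsScalarTower.algebraMap_apply A B L, ← IsScalarTower.algebraMap_apply B L Dq,
      IsScalarTower.algebraMap_apply B D Dq, IsScalarTower.algebraMap_apply A D Dq,
      IsScalarTower.algebraMap_apply A B D]
  let Θ : L ⊗[A] R →ₐ[L] Dq := Algebra.TensorProduct.lift (Algebra.ofId L Dq)
    ((IsScalarTower.toAlgHom A D Dq).comp ρ) fun _ _ => Commute.all _ _
  let ψ : R ⊗[A] B →ₐ[A] L ⊗[A] R := Algebra.TensorProduct.lift Algebra.TensorProduct.includeRight
    ((Algebra.TensorProduct.includeLeft (S := A)).comp (IsScalarTower.toAlgHom A B L)) fun _ _ => Commute.all _ _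
  letI algT : Algebra (R ⊗[A] B) (L ⊗[A] R) := (ψ : R ⊗[A] B →+* L ⊗[A] R).toAlgebra
  letI algD : Algebra (R ⊗[A] B) D := (φ : R ⊗[A] B →+* D).toAlgebra
  letI algDq : Algebra (R ⊗[A] B) Dq := ((algebraMap D Dq).comp (φ : R ⊗[A] B →+* D)).toAlgebra
  letI algW : Algebra (L ⊗[A] R) Dq := (Θ : L ⊗[A] R →+* Dq).toAlgebra
  haveI : IsScalarTower (R ⊗[A] B) D Dq := IsScalarTower.of_algebraMap_eq' rfl
  haveI : IsScalarTower L (L ⊗[A] R) Dq := IsScalarTower.of_algebraMap_eq fun c => (Θ.commutes c).symm
  haveI : IsScalarTower (R ⊗[A] B) (L ⊗[A] R) Dq := IsScalarTower.of_algebraMap_eq fun z => by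
    show algebraMap D Dq (φ z) = Θ (ψ z)
    induction z using TensorProduct.induction_on with
    | zero => simp
    | add x y hx hy => simp only [map_add, hx, hy]
    | tmul r b =>
      rw [show r ⊗ₜ[A] b = r ⊗ₜ[A] (1 : B) * (1 : R) ⊗ₜ[A] b by simp, map_mul φ, map_mul ψ, map_mul Θ, map_mul,
        hφ, hφR]
      congr 1
      · simp [ψ, Θ]
      · simp [ψ, Θ, ← IsScalarTower.algebraMap_apply]
  let M : Submonoid (R ⊗[A] B) := (nonZeroDivisors B).map (Algebra.TensorProduct.includeRight (R := A) (A := R) (B := B))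
  haveI : IsLocalization M (L ⊗[A] R) := isLocalization_tensor_comm (nonZeroDivisors B) fun r b => by
    show ψ (r ⊗ₜ b) = _
    simp [ψ]
  let Q : Ideal (R ⊗[A] B) := q.comap φ
  haveI : IsLocalization.AtPrime Dq Q := by
    haveI := hloc
    exact IsLocalization.isLocalization_isLocalization_atPrime_isLocalization
      ((maximalIdeal D).comap φ).primeCompl (T := Dq) q
  have hle : M ≤ Q.primeCompl := by
    rintro _ ⟨b, hb, rfl⟩ hbQ
    have h1 : algebraMap B D b ∈ q := by rw [← hφ]; exact hbQ
    rw [IsScalarTower.algebraMap_apply B C D, ← Ideal.mem_comap, hq, Ideal.mem_bot] at h1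
    exact nonZeroDivisors.ne_zero hb ((IsLocalization.injective C n.primeCompl_le_nonZeroDivisors) (h1.trans (map_zero _).symm))
  haveI : IsLocalization (Q.primeCompl.map (algebraMap (R ⊗[A] B) (L ⊗[A] R))) Dq :=
    IsLocalization.isLocalization_of_submonoid_le (L ⊗[A] R) Dq M Q.primeCompl hle
  exact isGeometricallyRegular_of_isLocalization (Q.primeCompl.map (algebraMap (R ⊗[A] B) (L ⊗[A] R))) hW1

section PowerSeries

/-- Formal smoothness from derivations separating the differentials of the base field. -/
theorem isAdicFormallySmooth_of_derivations {K S : Type u} [Field K] (p : ℕ) [Fact p.Prime] [CharP K p]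
    [CommRing S] [IsRegularLocalRing S] [Algebra K S]
    (hext : ∀ (σ : Type u) [Finite σ] [DecidableEq σ] (x : σ → K),
      LinearIndependent K (fun j => KaehlerDifferential.D ℤ K (x j)) →
      ∀ i, ∃ δ : Derivation ℤ S S, ∀ j, δ (algebraMap K S (x j)) = if i = j then 1 else 0) :
    CAlgX.IsAdicFormallySmooth K S (maximalIdeal S) := by
  classical
  refine isAdicFormallySmooth_field_iff_regular.2 ⟨inferInstance, ?_⟩
  let κ := ResidueField S
  obtain ⟨Λ, _, _, _, _⟩ := exists_prime_field K
  obtain ⟨T, hT⟩ := Groth.Agent.PBasis.exists_pBasis p Λ K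
  let b₀ : Module.Basis T K (Ω[K⁄Λ]) :=
    Module.Basis.mk ((Groth.Agent.PBasis.isPIndependent_iff_linearIndependent _).1 hT.1)
      ((Groth.Agent.PBasis.isPGenerating_iff_span _).1 hT.2).ge
  let eq₀ := LinearEquiv.ofBijective _ (map_bijective Λ K)
  let b : Module.Basis T K (Ω[K⁄ℤ]) := b₀.map eq₀.symm
  have hb : ∀ s, b s = KaehlerDifferential.D ℤ K (s : K) := fun s => by
    refine eq₀.injective ?_
    simp only [b, Module.Basis.map_apply, LinearEquiv.apply_symm_apply, b₀, Module.Basis.mk_apply]
    simp [eq₀]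
  let B : Module.Basis T κ (κ ⊗[S] (S ⊗[K] Ω[K⁄ℤ])) :=
    Algebra.TensorProduct.basis κ (Algebra.TensorProduct.basis S b)
  rw [injective_iff_map_eq_zero]
  intro z hz
  by_contra hz0
  let U := (B.repr z).support
  obtain ⟨t, ht⟩ : U.Nonempty := Finsupp.support_nonempty_iff.2 fun h0 => hz0 (B.repr.map_eq_zero_iff.1 h0)
  have hli : LinearIndependent K fun j : ↥U => KaehlerDifferential.D ℤ K ((j : T) : K) := by
    simp only [← hb]
    exact b.linearIndependent.comp _ Subtype.val_injective
  obtain ⟨δ, hδ⟩ := hext ↥U (fun j => ((j : T) : K)) hli ⟨t, ht⟩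
  let Φ : κ ⊗[S] Ω[S⁄ℤ] →ₗ[S] κ := (LinearMap.liftBaseChange κ
    ((Algebra.linearMap S κ) ∘ₗ δ.liftKaehlerDifferential)).restrictScalars S
  let Ψ : κ ⊗[S] (S ⊗[K] Ω[K⁄ℤ]) →ₗ[S] κ := Φ ∘ₗ (KaehlerDifferential.mapBaseChange ℤ K S).lTensor κ
  have hΨ : ∀ j : ↥U, Ψ (B (j : T)) = if j = ⟨t, ht⟩ then 1 else 0 := fun j => by
    have hB : B (j : T) = (1 : κ) ⊗ₜ[S] ((1 : S) ⊗ₜ[K] b (j : T)) := by simp [B]
    rw [hB, hb]
    show Φ ((KaehlerDifferential.mapBaseChange ℤ K S).lTensor κ _) = _
    rw [LinearMap.lTensor_tmul, KaehlerDifferential.mapBaseChange_tmul, one_smul, KaehlerDifferential.map_D]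
    simp [Φ, hδ, eq_comm]
  have h2 : Ψ z = 0 := by
    show Φ _ = 0
    rw [hz, map_zero]
  have hsum : Ψ z = B.repr z t := by
    conv_lhs => rw [← B.linearCombination_repr z]
    rw [Finsupp.linearCombination_apply, Finsupp.sum, map_sum, Finset.sum_eq_single t]
    · obtain ⟨c, hc⟩ := residue_surjective (B.repr z t)
      rw [← hc, show residue S c • B t = c • B t from IsScalarTower.algebraMap_smul κ c (B t), map_smul,
        hΨ ⟨t, ht⟩, if_pos rfl, Algebra.smul_def, mul_one]
      rfl
    · intro s hs hne
      obtain ⟨c, hc⟩ := residue_surjective (B.repr z s)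
      rw [← hc, show residue S c • B s = c • B s from IsScalarTower.algebraMap_smul κ c (B s), map_smul,
        hΨ ⟨s, hs⟩, if_neg (fun e => hne (congrArg Subtype.val e)), smul_zero]
    · exact fun h => absurd ht h
  exact (Finsupp.mem_support_iff.1 ht) (hsum.symm.trans h2)

/-- Derivations with bounded denominators separate finitely many differentials, given subrings over
which the ring is finite and whose fraction fields meet in the `p`-th powers. -/
theorem exists_bounded_derivation {B K : Type u} [CommRing B] [IsDomain B] [Field K] [Algebra B K]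
    [IsFractionRing B K] (p : ℕ) [Fact p.Prime] [CharP K p]
    {ι : Type u} [Nonempty ι] (S : ι → Subring B) (hdir : ∀ a b : ι, ∃ c, S c ≤ S a ⊓ S b)
    (hS : ∀ i, Module.Finite (S i) B)
    (hinter : ∀ z : K, (∀ i, z ∈ Subfield.closure (algebraMap B K '' (S i : Set B))) ↔ ∃ y, y ^ p = z)
    {σ : Type u} [Finite σ] [DecidableEq σ] (x : σ → K)
    (hx : LinearIndependent K fun j => KaehlerDifferential.D ℤ K (x j)) (i : σ) :
    ∃ (a : B) (D : Derivation ℤ B B) (DK : Derivation ℤ K K),
      a ≠ 0 ∧ (∀ b, algebraMap B K (D b) = algebraMap B K a * DK (algebraMap B K b)) ∧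
        ∀ j, DK (x j) = if i = j then 1 else 0 := by
  classical
  have hp : p.Prime := Fact.out
  let Λ := ULift.{u} (ZMod p)
  letI : Field Λ := inferInstanceAs (Field (ULift.{u} (ZMod p)))
  haveI : Finite Λ := inferInstanceAs (Finite (ULift.{u} (ZMod p)))
  haveI : CharP Λ p := (CharP.charP_iff_prime_eq_zero hp).2 (ULift.ext _ _ (by simp))
  haveI : ExpChar Λ p := ExpChar.prime hp
  letI : Algebra Λ K :=
    ((ZMod.castHom dvd_rfl K).comp (ULift.ringEquiv : Λ ≃+* ZMod p).toRingHom).toAlgebra
  haveI : IsScalarTower ℤ Λ K := AddCommGroup.intIsScalarTower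
  haveI : Algebra.FormallyUnramified ℤ Λ := Algebra.FormallyUnramified.of_surjective (Algebra.ofId ℤ Λ) fun y => by
    obtain ⟨n, hn⟩ := ZMod.intCast_surjective y.down
    refine ⟨n, ?_⟩
    show algebraMap ℤ Λ n = y
    rw [eq_intCast]
    apply ULift.ext
    rw [← hn]
    first | rfl | simp
  letI : Preorder ι := Preorder.lift fun i => OrderDual.toDual (S i)
  haveI : IsDirected ι (· ≤ ·) := ⟨fun a b => by
    obtain ⟨c, hc⟩ := hdir a b
    exact ⟨c, (le_trans hc inf_le_left : S c ≤ S a), (le_trans hc inf_le_right : S c ≤ S b)⟩⟩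
  have halg : ∀ (c : Λ) (F : Subfield K), algebraMap Λ K c ∈ F := fun c F => by
    obtain ⟨n, hn⟩ := ZMod.intCast_surjective (ULift.ringEquiv c : ZMod p)
    show (ZMod.castHom dvd_rfl K) (ULift.ringEquiv c : ZMod p) ∈ F
    rw [← hn, map_intCast]
    exact intCast_mem F n
  let F : ι → IntermediateField Λ K := fun i =>
    (Subfield.closure (algebraMap B K '' (S i : Set B))).toIntermediateField fun c => halg c _
  have hanti : Antitone F := fun a b hab => Subfield.closure_mono (Set.image_mono hab)
  have hKL : (⨅ i, F i ⊔ IntermediateField.adjoin Λ (Set.range fun y : K => y ^ p)) =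
      IntermediateField.adjoin Λ (Set.range fun y : K => y ^ p) := by
    refine le_antisymm (fun z hz => ?_) (le_iInf fun i => le_sup_right)
    obtain ⟨y, rfl⟩ := (hinter z).1 fun i => by
      rw [← SetLike.mem_coe, IntermediateField.coe_iInf, Set.mem_iInter] at hz
      refine (sup_le (le_refl (F i)) (IntermediateField.adjoin_le_iff.2 ?_)) (hz i)
      rintro _ ⟨y, rfl⟩
      exact (hinter _).2 ⟨y, rfl⟩ i
    exact IntermediateField.subset_adjoin _ _ ⟨y, rfl⟩
  have hxΛ : LinearIndependent K fun j => KaehlerDifferential.D Λ K (x j) := by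
    have := hx.map' (KaehlerDifferential.map ℤ Λ K K) (LinearMap.ker_eq_bot.2 (map_bijective Λ K).1)
    have e : (fun j => KaehlerDifferential.D Λ K (x j)) =
        KaehlerDifferential.map ℤ Λ K K ∘ fun j => KaehlerDifferential.D ℤ K (x j) := funext fun j => by simp
    rw [e]
    exact this
  obtain ⟨i₀, hi₀⟩ := exists_linearIndependent_D (p := p) hanti hKL x hxΛ
  have hli := hi₀ i₀ le_rfl
  obtain ⟨f, hf⟩ := LinearMap.exists_extend
    (Finsupp.lapply i ∘ₗ hli.repr :
      Submodule.span K (Set.range fun j => KaehlerDifferential.D (F i₀) K (x j)) →ₗ[K] K)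
  have hval : ∀ j, f (KaehlerDifferential.D (F i₀) K (x j)) = if i = j then 1 else 0 := fun j => by
    have h1 := LinearMap.congr_fun hf ⟨_, Submodule.subset_span ⟨j, rfl⟩⟩
    simp only [LinearMap.comp_apply, Submodule.subtype_apply] at h1
    rw [h1, hli.repr_eq_single j ⟨_, Submodule.subset_span ⟨j, rfl⟩⟩ rfl]
    simp [Finsupp.single_apply, eq_comm]
  let DF : Derivation (F i₀) K K := f.compDer (KaehlerDifferential.D (F i₀) K)
  let DK : Derivation ℤ K K :=
    Derivation.mk' (AddMonoidHom.mk' (fun z => DF z) (map_add DF)).toIntLinearMap (fun y z => DF.leibniz y z)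
  -- bounded denominators
  haveI := hS i₀
  obtain ⟨N, w, hw⟩ := Module.Finite.exists_fin (R := S i₀) (M := B)
  obtain ⟨⟨a, ha⟩, hint'⟩ := IsLocalization.exist_integer_multiples_of_finite (nonZeroDivisors B)
    (fun l => DK (algebraMap B K (w l)))
  have hbd : ∀ b : B, ∃ c, algebraMap B K c = algebraMap B K a * DK (algebraMap B K b) := by
    intro b
    have hb : b ∈ Submodule.span (S i₀) (Set.range w) := by rw [hw]; trivial
    induction hb using Submodule.span_induction with
    | mem y hy =>
      obtain ⟨l, rfl⟩ := hy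
      obtain ⟨c, hc⟩ := hint' l
      exact ⟨c, by rw [hc, Algebra.smul_def]⟩
    | zero => exact ⟨0, by simp⟩
    | add y z _ _ hy hz =>
      obtain ⟨c, hc⟩ := hy; obtain ⟨c', hc'⟩ := hz
      exact ⟨c + c', by rw [map_add, hc, hc', map_add, map_add, mul_add]⟩
    | smul u y _ hy =>
      obtain ⟨c, hc⟩ := hy
      refine ⟨(u : B) * c, ?_⟩
      have hu : DK (algebraMap B K (u : B)) = 0 := by
        show DF (algebraMap (F i₀) K ⟨algebraMap B K (u : B), Subfield.subset_closure ⟨_, u.2, rfl⟩⟩) = 0
        exact Derivation.map_algebraMap _ _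
      show algebraMap B K ((u : B) * c) = algebraMap B K a * DK (algebraMap B K ((u : B) * y))
      rw [map_mul, hc, map_mul, Derivation.leibniz, hu, smul_zero, add_zero, smul_eq_mul]
      ring
  choose g hg using hbd
  let D : Derivation ℤ B B := Derivation.mk' (AddMonoidHom.mk' g (fun y z =>
      IsFractionRing.injective B K (by rw [map_add, hg, hg, hg, map_add, map_add, mul_add]))).toIntLinearMap
    fun y z => IsFractionRing.injective B K (by
      show algebraMap B K (g (y * z)) = algebraMap B K (y • g z + z • g y)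
      rw [hg, map_mul, Derivation.leibniz, map_add, smul_eq_mul, smul_eq_mul, smul_eq_mul, smul_eq_mul,
        map_mul, map_mul, hg, hg]
      ring)
  exact ⟨a, D, DK, nonZeroDivisors.ne_zero ha, hg, hval⟩

variable (k : Type u) [Field k] (p : ℕ) [Fact p.Prime] [CharP k p] (s : ℕ)

set_option maxHeartbeats 1000000 in
include p in
/-- The generic formal fibres of power series rings in characteristic `p`. -/
theorem isAdicFormallySmooth_generic_powerSeries [IsDomain (MvPowerSeries (Fin s) k)]
    (P : Ideal (MvPowerSeries (Fin s) k)) [P.IsPrime]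
    (q : Ideal (AdicCompletion (maximalIdeal (Localization.AtPrime P)) (Localization.AtPrime P))) [q.IsPrime]
    (hq : ∀ b, algebraMap (MvPowerSeries (Fin s) k) (AdicCompletion (maximalIdeal (Localization.AtPrime P)) (Localization.AtPrime P)) b ∈ q → b = 0)
    (S : Type u) [CommRing S] [IsLocalRing S] [Algebra (AdicCompletion (maximalIdeal (Localization.AtPrime P)) (Localization.AtPrime P)) S]
    [IsLocalization.AtPrime S q] [Algebra (MvPowerSeries (Fin s) k) S]
    [IsScalarTower (MvPowerSeries (Fin s) k) (AdicCompletion (maximalIdeal (Localization.AtPrime P)) (Localization.AtPrime P)) S]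
    [Algebra (FractionRing (MvPowerSeries (Fin s) k)) S]
    [IsScalarTower (MvPowerSeries (Fin s) k) (FractionRing (MvPowerSeries (Fin s) k)) S] :
    CAlgX.IsAdicFormallySmooth (FractionRing (MvPowerSeries (Fin s) k)) S (maximalIdeal S) := by
  classical
  let B := MvPowerSeries (Fin s) k
  let K := FractionRing B
  haveI : CharP B p := charP_of_injective_algebraMap (algebraMap k B).injective p
  haveI : CharP K p := charP_of_injective_algebraMap (IsFractionRing.injective B K) p
  haveI : IsRegularRing B := Groth.Agent.RegLocus.isRegularRing_of_regular_local B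
  let A0 := Localization.AtPrime P
  haveI : IsRegularLocalRing A0 := (isRegularRing_iff.1 ‹IsRegularRing B›) P
  let R := AdicCompletion (maximalIdeal A0) A0
  haveI : IsNoetherianRing R := Groth.Agent.AdicNoeth.isNoetherianRing_adicCompletion _
  haveI : IsRegularLocalRing R := (Groth.Agent.CAlgCompl.isRegularLocalRing_adicCompletion_iff A0).1 inferInstance
  haveI : IsRegularRing R := Groth.Agent.RegLocus.isRegularRing_of_regular_local R
  haveI : IsRegularLocalRing (Localization.AtPrime q) := (isRegularRing_iff.1 ‹IsRegularRing R›) q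
  haveI : IsRegularLocalRing S := IsRegularLocalRing.of_ringEquiv (R := Localization.AtPrime q)
    (IsLocalization.algEquiv q.primeCompl (Localization.AtPrime q) S).toRingEquiv
  refine isAdicFormallySmooth_of_derivations p fun σ _ _ x hx i => ?_
  obtain ⟨ι, _, S', hdir, hS', hint⟩ := Groth.Agent.S4548.result p k s
  obtain ⟨a, D, DK, ha, hD, hval⟩ := exists_bounded_derivation p S' hdir (fun j => (hS' j).2.2)
    (fun z => by
      have h1 := Set.ext_iff.1 hint z
      simp only [Set.iInf_eq_iInter, Subfield.coe_iInf, Set.mem_iInter, Set.mem_range, SetLike.mem_coe] at h1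
      exact h1) x hx i
  obtain ⟨D0, hD0⟩ := exists_derivation_localization (S := A0) P.primeCompl D
  have hker := fun n => Groth.Agent.FSAdic.ker_evalₐ (maximalIdeal A0) (IsNoetherian.noetherian _) n
  have hM : maximalIdeal R = (maximalIdeal A0).map (algebraMap A0 R) := AdicCompletion.maximalIdeal_eq_map
  obtain ⟨D1, hD1⟩ := exists_derivation_completion (R := R) (maximalIdeal R)
    (fun n z => by
      obtain ⟨y, hy⟩ := Ideal.Quotient.mk_surjective (AdicCompletion.evalₐ (maximalIdeal A0) n z)
      refine ⟨y, ?_⟩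
      rw [hM, ← hker, RingHom.mem_ker, map_sub, sub_eq_zero]
      exact hy.symm.trans (AlgHom.commutes _ y).symm)
    D0 (fun n y hy => by
      rw [hM, ← hker, RingHom.mem_ker] at hy
      have h1 : y ∈ maximalIdeal A0 ^ (n + 1) :=
        Ideal.Quotient.eq_zero_iff_mem.1 ((AlgHom.commutes _ y).symm.trans hy)
      rw [hM, ← Ideal.map_pow]
      exact Ideal.mem_map_of_mem _ (derivation_mem_pow D0 _ n y h1))
  obtain ⟨D2, hD2⟩ := exists_derivation_localization (S := S) q.primeCompl D1
  have hau : IsUnit (algebraMap B S a) := by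
    rw [IsScalarTower.algebraMap_apply B R S]
    exact IsLocalization.map_units S (⟨algebraMap B R a, fun h => ha (hq a h)⟩ : q.primeCompl)
  have hB : ∀ c : B, D2 (algebraMap B S c) = algebraMap B S (D c) := fun c => by
    rw [IsScalarTower.algebraMap_apply B R S, IsScalarTower.algebraMap_apply B A0 R, hD2, hD1, hD0,
      ← IsScalarTower.algebraMap_apply B A0 R, ← IsScalarTower.algebraMap_apply B R S]
  have hK : ∀ z : K, D2 (algebraMap K S z) = algebraMap B S a * algebraMap K S (DK z) := by
    intro z
    obtain ⟨⟨u, v⟩, huv⟩ := IsLocalization.surj (nonZeroDivisors B) z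
    have hvu : IsUnit (algebraMap B S (v : B)) := by
      rw [IsScalarTower.algebraMap_apply B K S]
      exact (IsLocalization.map_units K v).map _
    have h2 : algebraMap K S z * algebraMap B S (v : B) = algebraMap B S u := by
      rw [IsScalarTower.algebraMap_apply B K S, IsScalarTower.algebraMap_apply B K S, ← map_mul, huv]
    have e1 := congrArg D2 h2
    rw [Derivation.leibniz, smul_eq_mul, smul_eq_mul, hB, hB] at e1
    have e2 := congrArg (algebraMap K S) (congrArg (fun y => algebraMap B K a * DK y) huv)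
    simp only [Derivation.leibniz, smul_eq_mul, map_mul, map_add] at e2
    have hDa : ∀ c : B, algebraMap B S (D c) = algebraMap B S a * algebraMap K S (DK (algebraMap B K c)) := fun c => by
      rw [IsScalarTower.algebraMap_apply B K S, hD, map_mul, ← IsScalarTower.algebraMap_apply]
    rw [hDa, hDa] at e1
    simp only [← IsScalarTower.algebraMap_apply] at e2
    refine hvu.mul_left_cancel ?_
    linear_combination e1 - e2
  refine ⟨(↑hau.unit⁻¹ : S) • D2, fun j => ?_⟩
  rw [Derivation.smul_apply, hK, hval, smul_eq_mul, ← mul_assoc, IsUnit.val_inv_mul, one_mul]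
  split_ifs <;> simp

end PowerSeries

end Groth.Agent.SymGr
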