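import Groth.Agent.SymGr.PRadical
import Mathlib

/-! Regular rings: localisation, and geometric regularity vs. adic formal smoothness at primes. -/

set_option autoImplicit false

namespace Groth.Agent.SymGr

universe u

open TensorProduct IsLocalRing

/-- A localisation of a regular ring is regular. -/
theorem isRegularRing_of_isLocalization {R S : Type*} [CommRing R] [CommRing S] [Algebra R S]
    (M : Submonoid R) [IsLocalization M S] [IsRegularRing R] : IsRegularRing S := by
  haveI : IsNoetherianRing S := IsLocalization.isNoetherianRing M S inferInstance
  refine isRegularRing_iff.2 fun P hP => ?_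
  haveI := IsLocalization.isLocalization_isLocalization_atPrime_isLocalization M
    (T := Localization.AtPrime P) P
  exact IsRegularLocalRing.of_ringEquiv
    (R := Localization.AtPrime (P.comap (algebraMap R S)))
    (IsLocalization.algEquiv (P.comap (algebraMap R S)).primeCompl
      (Localization.AtPrime (P.comap (algebraMap R S))) (Localization.AtPrime P)).toRingEquiv

variable {k : Type u} [Field k]

/-- A localisation of a geometrically regular algebra is geometrically regular. -/
theorem isGeometricallyRegular_of_isLocalization {A B : Type u} [CommRing A] [CommRing B]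
    [Algebra k A] [Algebra k B] [Algebra A B] [IsScalarTower k A B] (M : Submonoid A)
    [IsLocalization M B] (h : CAlg.IsGeometricallyRegular k A) : CAlg.IsGeometricallyRegular k B := by
  intro k' _ _ hf
  haveI := h k' hf
  letI : Algebra (k' ⊗[k] A) (k' ⊗[k] B) :=
    (Algebra.TensorProduct.map (AlgHom.id k k') (IsScalarTower.toAlgHom k A B)).toRingHom.toAlgebra
  haveI : IsScalarTower k' (k' ⊗[k] A) (k' ⊗[k] B) := IsScalarTower.of_algebraMap_eq fun c => by
    show c ⊗ₜ[k] (1 : B) = c ⊗ₜ[k] (algebraMap A B 1)
    rw [map_one]
  haveI : IsLocalization (M.map (Algebra.TensorProduct.includeRight (R := k) (A := k') (B := A)))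
      (k' ⊗[k] B) := IsLocalization.tensorProduct_tensorProduct_right (R := k) (S := k') M B
        (RingHom.ext fun a => rfl)
  exact isRegularRing_of_isLocalization
    (M.map (Algebra.TensorProduct.includeRight (R := k) (A := k') (B := A)))

/-- Geometric regularity gives adic formal smoothness for Noetherian local algebras. -/
theorem isAdicFormallySmooth_of_isGeometricallyRegular {A : Type u} [CommRing A] [IsLocalRing A]
    [IsNoetherianRing A] [Algebra k A] (h : CAlg.IsGeometricallyRegular k A) :
    CAlgX.IsAdicFormallySmooth k A (maximalIdeal A) := by
  obtain ⟨p, hp⟩ := ExpChar.exists k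
  haveI := hp
  exact (isAdicFormallySmooth_iff_pRadical p).2 fun k' _ _ hf _ => h k' hf

theorem isGeometricallyRegular_of_isAdicFormallySmooth {A : Type u} [CommRing A] [IsLocalRing A]
    [IsNoetherianRing A] [Algebra k A] (h : CAlgX.IsAdicFormallySmooth k A (maximalIdeal A)) :
    CAlg.IsGeometricallyRegular k A :=
  fun _ _ _ hf => haveI := hf; isRegularRing_baseChange h

end Groth.Agent.SymGr
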