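import Groth.Agent.SymGr.RegLoc
import Groth.Agent.GrpSch.FlatStalk
import Groth.Agent.CplFin.Basic
import Groth.Agent.RegLocus.Smooth
import Groth.Agent.CAlgCompl.Local
import Groth.Agent.FSAdic.Transfer
import Mathlib

/-! Generic formal fibres in characteristic zero of algebras finite over a regular local ring. -/

set_option autoImplicit false

namespace Groth.Agent.SymGr

universe u

open TensorProduct IsLocalRing

/-- Over a perfect field a regular local algebra is formally smooth. -/
theorem isAdicFormallySmooth_of_regular_perfect {k A : Type u} [Field k] [PerfectField k] [CommRing A]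
    [IsRegularLocalRing A] [Algebra k A] : CAlgX.IsAdicFormallySmooth k A (maximalIdeal A) := by
  refine isAdicFormallySmooth_field_iff_regular.2 ⟨inferInstance, ?_⟩
  let K := ResidueField A
  haveI : Algebra.FormallySmooth k K := formallySmooth_of_perfect
  have hinj : Function.Injective (KaehlerDifferential.mapBaseChange ℤ k K) :=
    LinearMap.ker_eq_bot.1 (by
      rw [← LinearMap.range_eq_bot.2 (Subsingleton.elim (Algebra.H1Cotangent.δ ℤ k K) 0)]
      exact (Algebra.H1Cotangent.exact_δ_mapBaseChange ℤ k K).linearMap_ker_eq)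
  have hmap : ∀ w : Ω[k⁄ℤ],
      KaehlerDifferential.map ℤ ℤ A K (KaehlerDifferential.map ℤ ℤ k A w) =
        KaehlerDifferential.map ℤ ℤ k K w := by
    intro w
    have hw : w ∈ Submodule.span k (Set.range (KaehlerDifferential.D ℤ k)) := by
      rw [KaehlerDifferential.span_range_derivation]; trivial
    induction hw using Submodule.span_induction with
    | mem x hx =>
      obtain ⟨c, rfl⟩ := hx
      simp only [KaehlerDifferential.map_D]
      rw [← IsScalarTower.algebraMap_apply]
    | zero => simp
    | add x y _ _ hx hy => simp [hx, hy]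
    | smul c x _ hx =>
      rw [map_smul, ← IsScalarTower.algebraMap_smul A c (KaehlerDifferential.map ℤ ℤ k A x), map_smul, hx,
        map_smul, IsScalarTower.algebraMap_smul A c]
  have key : ∀ z : ResidueField A ⊗[A] (A ⊗[k] Ω[k⁄ℤ]),
      KaehlerDifferential.mapBaseChange ℤ A K ((KaehlerDifferential.mapBaseChange ℤ k A).lTensor K z) =
        KaehlerDifferential.mapBaseChange ℤ k K
          (TensorProduct.AlgebraTensorModule.cancelBaseChange k A K K (Ω[k⁄ℤ]) z) := by
    intro z
    induction z using TensorProduct.induction_on with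
    | zero => simp
    | add x y hx hy => simp only [map_add, hx, hy]
    | tmul x y =>
      induction y using TensorProduct.induction_on with
      | zero => simp
      | add a b ha hb => simp only [TensorProduct.tmul_add, map_add, ha, hb]
      | tmul a w =>
        rw [LinearMap.lTensor_tmul, KaehlerDifferential.mapBaseChange_tmul,
          TensorProduct.AlgebraTensorModule.cancelBaseChange_tmul, KaehlerDifferential.mapBaseChange_tmul,
          KaehlerDifferential.mapBaseChange_tmul, map_smul, hmap, ← IsScalarTower.algebraMap_smul K a,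
          smul_smul, Algebra.smul_def a x, mul_comm]
  intro z z' hzz
  exact (TensorProduct.AlgebraTensorModule.cancelBaseChange k A K K (Ω[k⁄ℤ])).injective
    (hinj (by rw [← key, ← key, hzz]))

/-- Finite field extensions preserve regularity in characteristic zero. -/
theorem isRegularRing_tensor_charZero (K L W : Type u) [Field K] [CharZero K] [Field L] [Algebra K L]
    [Module.Finite K L] [CommRing W] [IsRegularRing W] [Algebra K W] : IsRegularRing (L ⊗[K] W) := by
  letI : Algebra W (L ⊗[K] W) := Algebra.TensorProduct.rightAlgebra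
  haveI : Module.Finite W (L ⊗[K] W) := Module.Finite.of_basis
    ((Algebra.TensorProduct.basis W (Module.finBasis K L)).map
      (Algebra.TensorProduct.commRight K W L).toLinearEquiv)
  haveI : IsNoetherianRing (L ⊗[K] W) := Algebra.FiniteType.isNoetherianRing W _
  refine isRegularRing_iff.2 fun Q hQ => ?_
  let inc : W →ₐ[K] L ⊗[K] W := Algebra.TensorProduct.includeRight
  let P := Q.comap inc
  haveI : P.IsPrime := Ideal.comap_isPrime _ Q
  let WP := Localization.AtPrime P
  haveI : IsRegularLocalRing WP := (isRegularRing_iff.1 ‹IsRegularRing W›) P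
  haveI hreg : IsRegularRing (L ⊗[K] WP) := isRegularRing_baseChange isAdicFormallySmooth_of_regular_perfect
  letI : Algebra (L ⊗[K] W) (L ⊗[K] WP) :=
    (Algebra.TensorProduct.map (AlgHom.id K L) (IsScalarTower.toAlgHom K W WP)).toRingHom.toAlgebra
  haveI : IsScalarTower L (L ⊗[K] W) (L ⊗[K] WP) := IsScalarTower.of_algebraMap_eq fun c => by
    show c ⊗ₜ[K] (1 : WP) = c ⊗ₜ[K] (algebraMap W WP 1)
    rw [map_one]
  haveI : IsLocalization (P.primeCompl.map inc) (L ⊗[K] WP) :=
    IsLocalization.tensorProduct_tensorProduct_right (R := K) (S := L) P.primeCompl WP (RingHom.ext fun a => rfl)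
  have hdisj : Disjoint (↑(P.primeCompl.map inc) : Set (L ⊗[K] W)) Q :=
    Set.disjoint_left.2 fun x ⟨y, hy, hyx⟩ hx => hy (Ideal.mem_comap.2 (hyx ▸ hx))
  let Q' := Q.map (algebraMap (L ⊗[K] W) (L ⊗[K] WP))
  haveI : Q'.IsPrime := IsLocalization.isPrime_of_isPrime_disjoint (P.primeCompl.map inc) _ Q hQ hdisj
  haveI hloc := IsLocalization.isLocalization_isLocalization_atPrime_isLocalization (P.primeCompl.map inc)
    (T := Localization.AtPrime Q') Q'
  have hc : Q'.comap (algebraMap (L ⊗[K] W) (L ⊗[K] WP)) = Q :=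
    IsLocalization.comap_map_of_isPrime_disjoint (P.primeCompl.map inc) _ hQ hdisj
  haveI : IsLocalization.AtPrime (Localization.AtPrime Q') Q := by
    have h := hloc
    simp only [IsLocalization.AtPrime] at h ⊢
    convert h using 2
    exact Ideal.ext fun x => by rw [hc]
  haveI : IsRegularLocalRing (Localization.AtPrime Q') := (isRegularRing_iff.1 hreg) Q'
  exact IsRegularLocalRing.of_ringEquiv (R := Localization.AtPrime Q')
    (IsLocalization.algEquiv Q.primeCompl (Localization.AtPrime Q') (Localization.AtPrime Q)).toRingEquiv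

/-- The completion of a localisation of a finite algebra, as a localisation of a base change. -/
theorem exists_iso_completion {A B R D : Type u} [CommRing A] [CommRing B] [Algebra A B]
    [Module.Finite A B] [CommRing R] [IsLocalRing R] [IsNoetherianRing R]
    [IsAdicComplete (maximalIdeal R) R] [Algebra A R] [CommRing D] [IsLocalRing D] [IsNoetherianRing D]
    [Algebra A D] [Algebra B D] [IsScalarTower A B D] (n : Ideal B) [n.IsPrime]
    (hR : ∀ (k : ℕ) (r : R), ∃ a t : A, t ∉ n.comap (algebraMap A B) ∧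
      r * algebraMap A R t - algebraMap A R a ∈ maximalIdeal R ^ k)
    (hRm : maximalIdeal R = (n.comap (algebraMap A B)).map (algebraMap A R))
    (hunit : ∀ b ∉ n, IsUnit (algebraMap B D b))
    (hDm : maximalIdeal D = n.map (algebraMap B D))
    (hD : ∀ (k : ℕ) (d : D), ∃ b t : B, t ∉ n ∧
      d * algebraMap B D t - algebraMap B D b ∈ maximalIdeal D ^ k)
    (hDc : ∀ (k : ℕ) (b : B), algebraMap B D b ∈ maximalIdeal D ^ k → ∃ t ∉ n, t * b ∈ n ^ k)
    (ρ : R →ₐ[A] D) :
    ∃ (φ : R ⊗[A] B →ₐ[A] D), (∀ b : B, φ (1 ⊗ₜ b) = algebraMap B D b) ∧ (∀ r : R, φ (r ⊗ₜ 1) = ρ r) ∧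
      (letI := (φ : R ⊗[A] B →+* D).toAlgebra; IsLocalization ((maximalIdeal D).comap φ).primeCompl D) ∧
      ∀ (q : Ideal D) [q.IsPrime],
        Nonempty (Localization.AtPrime (q.comap φ) ≃+* Localization.AtPrime q) := by
  classical
  let φ : R ⊗[A] B →ₐ[A] D :=
    Algebra.TensorProduct.lift ρ (IsScalarTower.toAlgHom A B D) fun _ _ => Commute.all _ _
  have hφB : ∀ b : B, φ (1 ⊗ₜ b) = algebraMap B D b := fun b => by simp [φ]
  have hφR : ∀ r : R, φ (r ⊗ₜ 1) = ρ r := fun r => by simp [φ]
  let p := n.comap (algebraMap A B)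
  let iB : B →ₐ[A] R ⊗[A] B := Algebra.TensorProduct.includeRight
  have hiBA : ∀ a : A, iB (algebraMap A B a) = algebraMap R (R ⊗[A] B) (algebraMap A R a) := fun a => by
    rw [AlgHom.commutes, ← IsScalarTower.algebraMap_apply]
  -- density of `B`
  have hdense : ∀ (k : ℕ) (z : R ⊗[A] B), ∃ (b : B) (t : A), t ∉ p ∧
      z * iB (algebraMap A B t) - iB b ∈ (maximalIdeal R ^ k).map (algebraMap R (R ⊗[A] B)) := by
    intro k z
    induction z using TensorProduct.induction_on with
    | zero => exact ⟨0, 1, fun h => ‹n.IsPrime›.ne_top ((Ideal.eq_top_iff_one n).2 (by simpa [p] using h)),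
        by simp⟩
    | tmul r b =>
      obtain ⟨a, t, ht, h⟩ := hR k r
      refine ⟨algebraMap A B a * b, t, ht, ?_⟩
      have h1 := Ideal.mul_mem_left _ (iB b) (Ideal.mem_map_of_mem (algebraMap R (R ⊗[A] B)) h)
      convert h1 using 1
      rw [map_mul iB, hiBA, hiBA, map_sub, map_mul, mul_sub, ← mul_assoc]
      congr 1
      · congr 1
        simp [iB, Algebra.TensorProduct.algebraMap_apply]
      · ring
    | add x y hx hy =>
      obtain ⟨b, t, ht, h⟩ := hx
      obtain ⟨b', t', ht', h'⟩ := hy
      refine ⟨b * algebraMap A B t' + b' * algebraMap A B t, t * t', fun hh =>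
        ((‹n.IsPrime›.comap (algebraMap A B)).mem_or_mem hh).elim ht ht', ?_⟩
      have h1 := add_mem (Ideal.mul_mem_right (iB (algebraMap A B t')) _ h)
        (Ideal.mul_mem_right (iB (algebraMap A B t)) _ h')
      convert h1 using 1
      simp only [map_add, map_mul]
      ring
  have hpD : ∀ a ∈ p, algebraMap A D a ∈ maximalIdeal D := fun a ha => by
    rw [IsScalarTower.algebraMap_apply A B D, hDm]; exact Ideal.mem_map_of_mem _ ha
  have hρm : (maximalIdeal R).map (ρ : R →+* D) ≤ maximalIdeal D := by
    rw [hRm, Ideal.map_map, Ideal.map_le_iff_le_comap]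
    intro a ha
    rw [Ideal.mem_comap, RingHom.comp_apply, RingHom.coe_coe, AlgHom.commutes]
    exact hpD a ha
  -- surjectivity
  have hφ : Function.Surjective φ := by
    letI : Algebra R D := (ρ : R →+* D).toAlgebra
    let l : R ⊗[A] B →ₗ[R] D :=
      { toFun := φ
        map_add' := map_add φ
        map_smul' := fun r z => by
          rw [RingHom.id_apply, Algebra.smul_def, Algebra.smul_def, map_mul]
          exact congrArg (· * φ z) (hφR r) }
    haveI : IsAdicComplete (maximalIdeal R) (R ⊗[A] B) :=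
      Groth.Agent.CplFin.isAdicComplete_of_finite R (maximalIdeal R) (R ⊗[A] B)
    let J : Ideal D := (maximalIdeal R).map (algebraMap R D)
    haveI : IsHausdorff (maximalIdeal D) D := inferInstance
    haveI : IsHausdorff (maximalIdeal R) D := IsHausdorff.map_algebraMap_iff.1
      ⟨fun x hx => IsHausdorff.haus (I := maximalIdeal D) inferInstance x fun m =>
        SModEq.mono (Submodule.smul_mono_left (Ideal.pow_right_mono hρm m)) (hx m)⟩
    -- `pD` contains a power of the maximal ideal
    have hrad : maximalIdeal D ≤ J.radical := by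
      rw [hDm, Ideal.map_le_iff_le_comap]
      intro b hb
      rw [Ideal.mem_comap]
      have h3 : ∃ t ∉ n, t * b ∈ (p.map (algebraMap A B)).radical := by
        by_contra hne
        push Not at hne
        obtain ⟨P, hP, hPp, hbP⟩ : ∃ P : Ideal B, P.IsPrime ∧ p.map (algebraMap A B) ≤ P ∧
            Disjoint (↑(n.primeCompl ⊔ Submonoid.powers b) : Set B) P := by
          obtain ⟨P, hP, hle, hdisj⟩ := Ideal.exists_le_prime_disjoint (p.map (algebraMap A B))
            (n.primeCompl ⊔ Submonoid.powers b) (Set.disjoint_left.2 fun x hxp hx => by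
              obtain ⟨t, ht, y, ⟨m, rfl⟩, rfl⟩ := Submonoid.mem_sup.1 hx
              refine hne t ht ⟨m + 1, ?_⟩
              rw [mul_pow, pow_succ' t, pow_succ b, mul_assoc, ← mul_assoc (t ^ m), mul_comm (t ^ m) (b ^ m),
                mul_assoc (b ^ m), ← mul_assoc t]
              exact Ideal.mul_mem_right _ _ hxp)
          exact ⟨P, hP, hle, hdisj.symm⟩
        have hPn : P ≤ n := fun x hx => by
          by_contra hxn
          exact Set.disjoint_left.1 hbP (Submonoid.mem_sup_left (show x ∈ n.primeCompl from hxn)) hx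
        have hbn : b ∉ P := fun hbP' =>
          Set.disjoint_left.1 hbP (Submonoid.mem_sup_right (Submonoid.mem_powers b)) hbP'
        haveI := hP
        have hlt : P < n := lt_of_le_of_ne hPn fun h => hbn (h ▸ hb)
        exact (lt_irrefl p) (lt_of_le_of_lt (Ideal.map_le_iff_le_comap.1 hPp)
          (Ideal.IsIntegral.comap_lt_comap hlt))
      obtain ⟨t, ht, m, hm⟩ := h3
      refine ⟨m, ?_⟩
      have h4 := Ideal.mem_map_of_mem (algebraMap B D) hm
      rw [map_pow, map_mul, mul_pow] at h4
      have h5 := (Ideal.unit_mul_mem_iff_mem _ ((hunit t ht).pow m)).1 h4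
      rw [Ideal.map_map, ← IsScalarTower.algebraMap_eq] at h5
      refine Ideal.map_le_iff_le_comap.2 (fun a ha => ?_) h5
      rw [Ideal.mem_comap, ← ρ.commutes a]
      refine Ideal.mem_map_of_mem (algebraMap R D) ?_
      rw [hRm]; exact Ideal.mem_map_of_mem _ ha
    obtain ⟨N, hN⟩ := Ideal.exists_pow_le_of_le_radical_of_fg hrad (IsNoetherian.noetherian _)
    have hJ : maximalIdeal R • (⊤ : Submodule R D) = Submodule.restrictScalars R J := by
      rw [Ideal.smul_top_eq_map]
    -- the image is finite, hence units descend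
    let π : R ⊗[A] B →+* D ⧸ J := (Ideal.Quotient.mk J).comp (φ : R ⊗[A] B →+* D)
    have hinv : ∀ t ∉ n, ∃ z : R ⊗[A] B, π z * π (iB t) = 1 := by
      intro t ht
      let I : Ideal (R ⊗[A] B) := (maximalIdeal R).map (algebraMap R (R ⊗[A] B))
      letI : Field (R ⧸ maximalIdeal R) := Ideal.Quotient.field _
      haveI : Module.Finite (R ⧸ maximalIdeal R) ((R ⊗[A] B) ⧸ I) :=
        Module.Finite.of_restrictScalars_finite R (R ⧸ maximalIdeal R) _
      haveI : IsArtinianRing ((R ⊗[A] B) ⧸ I) := IsArtinianRing.of_finite (R ⧸ maximalIdeal R) _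
      obtain ⟨m, y, hy⟩ := IsArtinian.exists_pow_succ_smul_dvd
        (Ideal.Quotient.mk I (iB t)) (1 : (R ⊗[A] B) ⧸ I)
      obtain ⟨y, rfl⟩ := Ideal.Quotient.mk_surjective y
      have hy2 : Ideal.Quotient.mk I (iB t ^ (m + 1) * y) = Ideal.Quotient.mk I (iB t ^ m) := by
        rw [map_mul, map_pow, map_pow]
        simpa [smul_eq_mul] using hy
      rw [Ideal.Quotient.eq] at hy2
      have hI : I ≤ RingHom.ker π := Ideal.map_le_iff_le_comap.2 fun r hr => by
        show π (algebraMap R (R ⊗[A] B) r) = 0
        show Ideal.Quotient.mk J (φ (r ⊗ₜ 1)) = 0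
        rw [hφR, Ideal.Quotient.eq_zero_iff_mem]
        exact Ideal.mem_map_of_mem (algebraMap R D) hr
      have h1 := hI hy2
      rw [RingHom.mem_ker, map_sub, map_mul, map_pow, map_pow, sub_eq_zero, pow_succ, mul_assoc] at h1
      have hu : IsUnit (π (iB t)) := by
        show IsUnit (Ideal.Quotient.mk J (φ (1 ⊗ₜ t)))
        rw [hφB]; exact (hunit t ht).map _
      exact ⟨y, by rw [mul_comm]; exact (hu.pow m).mul_left_cancel (h1.trans (mul_one _).symm)⟩
    refine surjective_of_mkQ_comp_surjective (I := maximalIdeal R) (f := l) fun x => ?_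
    obtain ⟨d, rfl⟩ := Submodule.mkQ_surjective _ x
    obtain ⟨b, t, ht, hbt⟩ := hD N d
    obtain ⟨z, hz⟩ := hinv t ht
    refine ⟨z * iB b, ?_⟩
    rw [LinearMap.comp_apply, Submodule.mkQ_apply, Submodule.mkQ_apply, Submodule.Quotient.eq, hJ,
      Submodule.restrictScalars_mem]
    show φ (z * iB b) - d ∈ J
    rw [← Ideal.Quotient.eq]
    have h6 : Ideal.Quotient.mk J d * π (iB t) = π (iB b) := by
      show Ideal.Quotient.mk J d * Ideal.Quotient.mk J (φ (iB t)) = Ideal.Quotient.mk J (φ (iB b))
      rw [← map_mul, Ideal.Quotient.eq]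
      show d * φ (1 ⊗ₜ t) - φ (1 ⊗ₜ b) ∈ J
      rw [hφB, hφB]
      exact hN hbt
    show π (z * iB b) = _
    rw [map_mul π, ← h6, mul_left_comm, hz, mul_one]
  -- the local ring of the base change
  let N : Ideal (R ⊗[A] B) := (maximalIdeal D).comap φ
  haveI : N.IsPrime := Ideal.comap_isPrime _ _
  haveI : IsNoetherianRing (R ⊗[A] B) := Algebra.FiniteType.isNoetherianRing R _
  let S := Localization.AtPrime N
  have hφu : ∀ y : N.primeCompl, IsUnit ((φ : R ⊗[A] B →+* D) y) := fun y => notMem_maximalIdeal.1 y.2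
  let φS : S →+* D := IsLocalization.lift hφu
  have hφS : ∀ z, φS (algebraMap _ S z) = φ z := fun z => IsLocalization.lift_eq _ z
  have hφSs : Function.Surjective φS := fun d => by
    obtain ⟨z, rfl⟩ := hφ d; exact ⟨_, hφS z⟩
  have hloc' : ∀ x : S, IsUnit (φS x) → IsUnit x := fun x hx => by
    obtain ⟨⟨z, w⟩, hzw⟩ := IsLocalization.surj N.primeCompl x
    have h3 : φS x * φ (w : R ⊗[A] B) = φ z := by rw [← hφS, ← hφS, ← map_mul, hzw]
    have hz : z ∈ N.primeCompl := fun hz => (mem_maximalIdeal _).1 (Ideal.mem_comap.1 hz)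
      (h3 ▸ hx.mul (hφu w))
    exact (IsUnit.mul_iff.1 (hzw ▸ IsLocalization.map_units S (⟨z, hz⟩ : N.primeCompl))).1
  let jB : B →+* S := (algebraMap _ S).comp (iB : B →+* R ⊗[A] B)
  have hjB : ∀ b, φS (jB b) = algebraMap B D b := fun b => by
    show φS (algebraMap _ S (iB b)) = _
    rw [hφS]; exact hφB b
  have hSm : ∀ s : S, φS s ∈ maximalIdeal D → s ∈ maximalIdeal S := fun s hs => by
    by_contra h
    exact (mem_maximalIdeal _).1 hs ((notMem_maximalIdeal.1 h).map φS)
  have hjn : n.map jB ≤ maximalIdeal S := Ideal.map_le_iff_le_comap.2 fun b hb =>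
    hSm _ (by rw [hjB, hDm]; exact Ideal.mem_map_of_mem _ hb)
  have hjt : ∀ t ∉ n, IsUnit (jB t) := fun t ht => hloc' _ (hjB t ▸ hunit t ht)
  -- `B` is dense in `S`
  have hpk : ∀ k, ((maximalIdeal R ^ k).map (algebraMap R (R ⊗[A] B))).map (algebraMap _ S) ≤
      maximalIdeal S ^ k := fun k => by
    rw [Ideal.map_pow, Ideal.map_pow, hRm, Ideal.map_map, Ideal.map_map]
    refine Ideal.pow_right_mono (le_trans ?_ hjn) k
    refine Ideal.map_le_iff_le_comap.2 fun a ha => ?_
    rw [Ideal.mem_comap, RingHom.comp_apply, RingHom.comp_apply, ← hiBA]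
    exact Ideal.mem_map_of_mem jB (show algebraMap A B a ∈ n from ha)
  have hSd : ∀ (k : ℕ) (s : S), ∃ b t, t ∉ n ∧ s * jB t - jB b ∈ maximalIdeal S ^ k := by
    intro k s
    rcases Nat.eq_zero_or_pos k with rfl | hk
    · exact ⟨0, 1, fun h => ‹n.IsPrime›.ne_top ((Ideal.eq_top_iff_one n).2 h), by simp⟩
    obtain ⟨⟨z, w⟩, hzw⟩ := IsLocalization.surj N.primeCompl s
    obtain ⟨b1, t1, ht1, h1⟩ := hdense k z
    obtain ⟨b2, t2, ht2, h2⟩ := hdense k (w : R ⊗[A] B)
    have h1' := hpk k (Ideal.mem_map_of_mem _ h1)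
    have h2' := hpk k (Ideal.mem_map_of_mem _ h2)
    rw [map_sub, map_mul, ← hzw] at h1'
    rw [map_sub, map_mul] at h2'
    refine ⟨b1 * algebraMap A B t2, b2 * algebraMap A B t1, fun hh => ?_, ?_⟩
    · rcases ‹n.IsPrime›.mem_or_mem hh with h | h
      · have h3 := add_mem (Ideal.pow_le_self hk.ne' h2') (hjn (Ideal.mem_map_of_mem jB h))
        rw [show jB b2 = algebraMap _ S (iB b2) from rfl, sub_add_cancel] at h3
        exact (mem_maximalIdeal _).1 h3 (IsUnit.mul (IsLocalization.map_units S w) (hjt _ ht2))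
      · exact ht1 h
    · have h3 := sub_mem (Ideal.mul_mem_right (jB (algebraMap A B t2)) _ h1')
        (Ideal.mul_mem_left _ (s * jB (algebraMap A B t1)) h2')
      convert h3 using 1
      simp only [map_mul, jB, RingHom.comp_apply, RingHom.coe_coe]
      ring
  have hker : ∀ (k : ℕ) (s : S), φS s ∈ maximalIdeal D ^ k → s ∈ maximalIdeal S ^ k := by
    intro k s hs
    obtain ⟨b, t, ht, h⟩ := hSd k s
    have hmapm : (maximalIdeal S).map φS ≤ maximalIdeal D := Ideal.map_le_iff_le_comap.2 fun x hx => (mem_maximalIdeal _).2 fun h2 => (mem_maximalIdeal _).1 hx (hloc' x h2)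
    have h1 : φS (s * jB t - jB b) ∈ maximalIdeal D ^ k := by
      have := Ideal.mem_map_of_mem φS h
      rw [Ideal.map_pow] at this
      exact Ideal.pow_right_mono hmapm k this
    rw [map_sub, map_mul, hjB b] at h1
    have h2 := sub_mem (Ideal.mul_mem_right (φS (jB t)) _ hs) h1
    rw [sub_sub_cancel] at h2
    obtain ⟨t', ht', hb⟩ := hDc k b h2
    have h3 : jB t' * jB b ∈ maximalIdeal S ^ k := by
      rw [← map_mul]
      have := Ideal.mem_map_of_mem jB hb
      rw [Ideal.map_pow] at this
      exact Ideal.pow_right_mono hjn k this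
    have h4 := add_mem h ((Ideal.unit_mul_mem_iff_mem _ (hjt t' ht')).1 h3)
    rw [sub_add_cancel] at h4
    exact (Ideal.mul_unit_mem_iff_mem _ (hjt t ht)).1 h4
  haveI : IsNoetherianRing S := IsLocalization.isNoetherianRing N.primeCompl _ inferInstance
  have hmax : (maximalIdeal S).map φS = maximalIdeal D :=
    IsLocalRing.map_maximalIdeal_of_surjective φS hφSs
  have hflat : φS.Flat := Groth.Agent.GrpSch.FlatStalk.flat_of_bijective φS hmax.le fun k => by
    refine ⟨fun x y hxy => ?_, fun y => ?_⟩
    · obtain ⟨x, rfl⟩ := Ideal.Quotient.mk_surjective x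
      obtain ⟨y, rfl⟩ := Ideal.Quotient.mk_surjective y
      rw [Ideal.quotientMap_mk, Ideal.quotientMap_mk, Ideal.Quotient.eq, ← map_sub, Ideal.map_pow, hmax] at hxy
      exact Ideal.Quotient.eq.2 (hker k _ hxy)
    · obtain ⟨y, rfl⟩ := Ideal.Quotient.mk_surjective y
      obtain ⟨x, rfl⟩ := hφSs y
      exact ⟨Ideal.Quotient.mk _ x, rfl⟩
  have hinj : Function.Injective φS := by
    letI := φS.toAlgebra
    haveI : Module.Flat S D := hflat
    haveI : IsLocalHom (algebraMap S D) := ⟨fun a ha => notMem_maximalIdeal.1 fun h => by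
      have := hmax.le (Ideal.mem_map_of_mem φS h)
      exact (mem_maximalIdeal _).1 this ha⟩
    haveI : Module.FaithfullyFlat S D := Module.FaithfullyFlat.of_flat_of_isLocalHom
    exact FaithfulSMul.algebraMap_injective S D
  let e : S ≃+* D := RingEquiv.ofBijective φS ⟨hinj, hφSs⟩
  refine ⟨φ, hφB, hφR, ?_, fun q _ => ?_⟩
  · letI := (φ : R ⊗[A] B →+* D).toAlgebra
    let e' : S ≃ₐ[R ⊗[A] B] D := { e with commutes' := fun z => hφS z }
    exact IsLocalization.isLocalization_of_algEquiv N.primeCompl e'
  let q' : Ideal S := q.comap φS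
  haveI : q'.IsPrime := Ideal.comap_isPrime _ _
  haveI hloc := IsLocalization.isLocalization_isLocalization_atPrime_isLocalization N.primeCompl
    (T := Localization.AtPrime q') q'
  have hcq : q'.comap (algebraMap (R ⊗[A] B) S) = q.comap φ := Ideal.ext fun x => by
    simp only [q', Ideal.mem_comap, hφS]
  haveI : IsLocalization.AtPrime (Localization.AtPrime q') (q.comap φ) := by
    have h := hloc
    simp only [IsLocalization.AtPrime] at h ⊢
    convert h using 2
    exact Ideal.ext fun x => by rw [hcq]
  refine ⟨(IsLocalization.algEquiv (q.comap φ).primeCompl (Localization.AtPrime (q.comap φ))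
    (Localization.AtPrime q')).toRingEquiv.trans
      (IsLocalization.ringEquivOfRingEquiv _ _ e (show q'.primeCompl.map e.toMonoidHom = q.primeCompl from ?_))⟩
  ext y
  constructor
  · rintro ⟨x, hx, rfl⟩; exact fun h => hx h
  · intro hy
    obtain ⟨x, rfl⟩ := e.surjective y
    exact ⟨x, fun h => hy h, rfl⟩

/-- The generic fibre of a base change of a finite extension of domains is regular. -/
theorem isRegularLocalRing_generic {A B R : Type u} [CommRing A] [IsDomain A] [CharZero A] [CommRing B]
    [IsDomain B] [Algebra A B] [Module.Finite A B] (hinj : Function.Injective (algebraMap A B))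
    [CommRing R] [IsRegularRing R] [Algebra A R] (Q : Ideal (R ⊗[A] B)) [Q.IsPrime]
    (hQ : ∀ b : B, (1 : R) ⊗ₜ[A] b ∈ Q → b = 0) : IsRegularLocalRing (Localization.AtPrime Q) := by
  let K := FractionRing A
  let L := FractionRing B
  haveI : FaithfulSMul A B := (faithfulSMul_iff_algebraMap_injective A B).2 hinj
  letI : Algebra K L := FractionRing.liftAlgebra A L
  haveI : IsScalarTower A K L := FractionRing.isScalarTower_liftAlgebra A L
  haveI : Algebra.IsAlgebraic A B := inferInstance
  haveI : IsLocalization (Algebra.algebraMapSubmonoid B (nonZeroDivisors A)) L :=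
    (IsLocalization.iff_of_le_of_exists_dvd (Algebra.algebraMapSubmonoid B (nonZeroDivisors A))
      (nonZeroDivisors B) (by
        rintro _ ⟨a, ha, rfl⟩
        exact mem_nonZeroDivisors_of_ne_zero fun h => nonZeroDivisors.ne_zero ha (hinj (h.trans (map_zero _).symm)))
      fun b hb => by
        obtain ⟨a, ha, hd⟩ := (Algebra.IsAlgebraic.isAlgebraic (R := A) b).exists_nonzero_dvd hb
        exact ⟨_, ⟨a, mem_nonZeroDivisors_of_ne_zero ha, rfl⟩, hd⟩).2 inferInstance
  haveI : Module.Finite K L := Module.Finite.of_isLocalization A B (nonZeroDivisors A)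
  haveI : CharZero K := charZero_of_injective_algebraMap (IsFractionRing.injective A K)
  -- the fibre over the generic point of `A`
  let W0 := K ⊗[A] R
  letI : Algebra R W0 := Algebra.TensorProduct.rightAlgebra
  haveI : IsLocalization (Algebra.algebraMapSubmonoid R (nonZeroDivisors A)) W0 :=
    IsLocalization.tensorRight (A := K) (S := R) (nonZeroDivisors A)
  haveI : IsRegularRing W0 := isRegularRing_of_isLocalization (Algebra.algebraMapSubmonoid R (nonZeroDivisors A))
  haveI : IsRegularRing (L ⊗[K] W0) := isRegularRing_tensor_charZero K L W0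
  haveI hW : IsRegularRing (R ⊗[A] L) := IsRegularRing.of_ringEquiv
    (((Algebra.TensorProduct.cancelBaseChange A K L L R).toRingEquiv).trans
      (Algebra.TensorProduct.comm A L R).toRingEquiv)
  letI : Algebra (R ⊗[A] B) (R ⊗[A] L) :=
    (Algebra.TensorProduct.map (AlgHom.id A R) (IsScalarTower.toAlgHom A B L)).toRingHom.toAlgebra
  haveI : IsScalarTower R (R ⊗[A] B) (R ⊗[A] L) := IsScalarTower.of_algebraMap_eq fun c => by
    show c ⊗ₜ[A] (1 : L) = c ⊗ₜ[A] (algebraMap B L 1)
    rw [map_one]
  let M := (nonZeroDivisors B).map (Algebra.TensorProduct.includeRight (R := A) (A := R) (B := B))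
  haveI : IsLocalization M (R ⊗[A] L) :=
    IsLocalization.tensorProduct_tensorProduct_right (R := A) (S := R) (nonZeroDivisors B) L
      (RingHom.ext fun a => rfl)
  have hdisj : Disjoint (↑M : Set (R ⊗[A] B)) Q := Set.disjoint_left.2 fun x ⟨y, hy, hyx⟩ hx =>
    nonZeroDivisors.ne_zero hy (hQ y (by
      rw [← hyx] at hx
      exact hx))
  let Q' := Q.map (algebraMap (R ⊗[A] B) (R ⊗[A] L))
  haveI : Q'.IsPrime := IsLocalization.isPrime_of_isPrime_disjoint M _ Q ‹_› hdisj
  haveI hloc := IsLocalization.isLocalization_isLocalization_atPrime_isLocalization M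
    (T := Localization.AtPrime Q') Q'
  have hc : Q'.comap (algebraMap (R ⊗[A] B) (R ⊗[A] L)) = Q :=
    IsLocalization.comap_map_of_isPrime_disjoint M _ ‹_› hdisj
  haveI : IsLocalization.AtPrime (Localization.AtPrime Q') Q := by
    have h := hloc
    simp only [IsLocalization.AtPrime] at h ⊢
    convert h using 2
    exact Ideal.ext fun x => by rw [hc]
  haveI : IsRegularLocalRing (Localization.AtPrime Q') := (isRegularRing_iff.1 hW) Q'
  exact IsRegularLocalRing.of_ringEquiv (R := Localization.AtPrime Q')
    (IsLocalization.algEquiv Q.primeCompl (Localization.AtPrime Q') (Localization.AtPrime Q)).toRingEquiv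

/-- Local rings of generic formal fibres of finite extensions of regular local rings are regular. -/
theorem isRegularLocalRing_completion_generic {A B C D : Type u} [CommRing A] [IsRegularLocalRing A]
    [CharZero A] [CommRing B] [IsDomain B] [Algebra A B] [Module.Finite A B]
    (hinj : Function.Injective (algebraMap A B)) (n : Ideal B) [n.IsPrime] [CommRing C] [IsLocalRing C]
    [IsNoetherianRing C] [Algebra B C] [IsLocalization.AtPrime C n] [CommRing D] [IsLocalRing D]
    [IsNoetherianRing D] [IsAdicComplete (maximalIdeal D) D] [Algebra B D] [Algebra C D] [IsScalarTower B C D]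
    (hDm : maximalIdeal D = (maximalIdeal C).map (algebraMap C D))
    (hd : ∀ (k : ℕ) (d : D), ∃ c : C, d - algebraMap C D c ∈ maximalIdeal D ^ k)
    (hc : ∀ (k : ℕ) (c : C), algebraMap C D c ∈ maximalIdeal D ^ k → c ∈ maximalIdeal C ^ k)
    (q : Ideal D) [q.IsPrime] (hq : q.comap (algebraMap C D) = ⊥) :
    IsRegularLocalRing (Localization.AtPrime q) := by
  letI : Algebra A D := ((algebraMap B D).comp (algebraMap A B)).toAlgebra
  haveI : IsScalarTower A B D := IsScalarTower.of_algebraMap_eq' rfl
  haveI : IsDomain A := Groth.Agent.CAlgReg.isDomain (R := A)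
  haveI : IsRegularRing A := Groth.Agent.RegLocus.isRegularRing_of_regular_local A
  let p := n.comap (algebraMap A B)
  let A0 := Localization.AtPrime p
  haveI : IsRegularLocalRing A0 := (isRegularRing_iff.1 ‹IsRegularRing A›) p
  let R := AdicCompletion (maximalIdeal A0) A0
  haveI : IsNoetherianRing R := Groth.Agent.AdicNoeth.isNoetherianRing_adicCompletion _
  haveI : IsRegularLocalRing R := (Groth.Agent.CAlgCompl.isRegularLocalRing_adicCompletion_iff A0).1 inferInstance
  haveI : IsRegularRing R := Groth.Agent.RegLocus.isRegularRing_of_regular_local R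
  have hu : ∀ b ∉ n, IsUnit (algebraMap B D b) := fun b hb => by
    rw [IsScalarTower.algebraMap_apply B C D]
    exact (IsLocalization.map_units C (⟨b, hb⟩ : n.primeCompl)).map _
  have hDn : maximalIdeal D = n.map (algebraMap B D) := by
    rw [hDm, ← IsLocalization.AtPrime.map_eq_maximalIdeal n C, Ideal.map_map, ← IsScalarTower.algebraMap_eq]
  -- the map of completions
  let g : A0 →+* D := IsLocalization.lift (M := p.primeCompl) (g := algebraMap A D) fun t => hu _ t.2
  have hg : ∀ a, g (algebraMap A A0 a) = algebraMap A D a := fun a => IsLocalization.lift_eq _ a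
  have hgm : maximalIdeal A0 ≤ (maximalIdeal D).comap g := by
    rw [← Localization.AtPrime.map_eq_maximalIdeal, Ideal.map_le_iff_le_comap]
    intro a ha
    rw [Ideal.mem_comap, Ideal.mem_comap, hg, hDn]
    exact Ideal.mem_map_of_mem (algebraMap B D) (show algebraMap A B a ∈ n from ha)
  let f : (k : ℕ) → R →+* D ⧸ maximalIdeal D ^ k := fun k =>
    (Ideal.quotientMap (maximalIdeal D ^ k) g
      ((Ideal.pow_right_mono hgm k).trans (Ideal.le_comap_pow g k))).comp
      (AdicCompletion.evalₐ (maximalIdeal A0) k).toRingHom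
  have hf : ∀ {m k : ℕ} (hle : m ≤ k), (Ideal.Quotient.factorPow (maximalIdeal D) hle).comp (f k) = f m := by
    intro m k hle
    ext x
    obtain ⟨y, hy⟩ := Ideal.Quotient.mk_surjective (AdicCompletion.evalₐ (maximalIdeal A0) k x)
    have hym : AdicCompletion.evalₐ (maximalIdeal A0) m x = Ideal.Quotient.mk _ y := by
      have h1 : x - algebraMap A0 R y ∈ RingHom.ker (AdicCompletion.evalₐ (maximalIdeal A0) k).toRingHom := by
        rw [RingHom.mem_ker, map_sub, sub_eq_zero]
        exact hy.symm.trans (AlgHom.commutes _ y).symm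
      rw [Groth.Agent.FSAdic.ker_evalₐ _ (IsNoetherian.noetherian _)] at h1
      have h2 := Ideal.pow_le_pow_right hle h1
      rw [← Groth.Agent.FSAdic.ker_evalₐ _ (IsNoetherian.noetherian _), RingHom.mem_ker, map_sub, sub_eq_zero] at h2
      exact h2.trans (AlgHom.commutes _ y)
    simp only [f, RingHom.comp_apply, AlgHom.toRingHom_eq_coe, RingHom.coe_coe, hym, ← hy, Ideal.quotientMap_mk]
    rfl
  let ρ0 : R →+* D := IsAdicComplete.liftRingHom (maximalIdeal D) f hf
  letI : Algebra A R := inferInstance
  have hρ : ∀ a, ρ0 (algebraMap A R a) = algebraMap A D a := fun a => by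
    refine sub_eq_zero.1 (IsHausdorff.haus (I := maximalIdeal D) inferInstance _ fun k => ?_)
    rw [SModEq.zero, smul_eq_mul, Ideal.mul_top, ← Ideal.Quotient.eq, IsAdicComplete.mk_liftRingHom]
    simp only [f, RingHom.comp_apply, AlgHom.toRingHom_eq_coe, RingHom.coe_coe]
    rw [IsScalarTower.algebraMap_apply A A0 R, AlgHom.commutes, Ideal.Quotient.algebraMap_eq, Ideal.quotientMap_mk, hg]
  let ρ : R →ₐ[A] D := { ρ0 with commutes' := hρ }
  have hR : ∀ (k : ℕ) (r : R), ∃ a t : A, t ∉ p ∧
      r * algebraMap A R t - algebraMap A R a ∈ maximalIdeal R ^ k := by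
    intro k r
    obtain ⟨x, hx⟩ := Ideal.Quotient.mk_surjective (AdicCompletion.evalₐ (maximalIdeal A0) k r)
    obtain ⟨⟨a, t⟩, hat⟩ := IsLocalization.surj p.primeCompl x
    refine ⟨a, t, t.2, ?_⟩
    have h1 : r - algebraMap A0 R x ∈ RingHom.ker (AdicCompletion.evalₐ (maximalIdeal A0) k).toRingHom := by
      rw [RingHom.mem_ker, map_sub, sub_eq_zero]
      exact hx.symm.trans (AlgHom.commutes _ x).symm
    rw [Groth.Agent.FSAdic.ker_evalₐ _ (IsNoetherian.noetherian _)] at h1
    rw [AdicCompletion.maximalIdeal_eq_map]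
    have h2 := Ideal.mul_mem_right (algebraMap A R (t : A)) _ h1
    convert h2 using 1
    rw [sub_mul, IsScalarTower.algebraMap_apply A A0 R (t : A), ← map_mul, hat,
      IsScalarTower.algebraMap_apply A A0 R a]
  have hRm : maximalIdeal R = p.map (algebraMap A R) := by
    have h1 : maximalIdeal R = (p.map (algebraMap A A0)).map (algebraMap A0 R) :=
      (AdicCompletion.maximalIdeal_eq_map (R := A0)).trans
        (congrArg (Ideal.map (algebraMap A0 R)) (Localization.AtPrime.map_eq_maximalIdeal (I := p)).symm)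
    rw [h1, Ideal.map_map, ← IsScalarTower.algebraMap_eq]
  obtain ⟨φ, hφ, -, -, hiso⟩ := exists_iso_completion n hR hRm hu hDn
    (fun k d => by
      obtain ⟨c, hc'⟩ := hd k d
      obtain ⟨⟨b, t⟩, hbt⟩ := IsLocalization.surj n.primeCompl c
      refine ⟨b, t, t.2, ?_⟩
      have h := Ideal.mul_mem_right (algebraMap B D (t : B)) _ hc'
      convert h using 1
      rw [sub_mul, IsScalarTower.algebraMap_apply B C D (t : B), ← map_mul, hbt,
        IsScalarTower.algebraMap_apply B C D b])
    (fun k b hb => by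
      rw [IsScalarTower.algebraMap_apply B C D] at hb
      have h := hc k _ hb
      rw [← IsLocalization.AtPrime.map_eq_maximalIdeal n C, ← Ideal.map_pow] at h
      obtain ⟨t, ht, h'⟩ := (IsLocalization.algebraMap_mem_map_algebraMap_iff n.primeCompl C _ _).1 h
      exact ⟨t, ht, h'⟩) ρ
  haveI : IsRegularLocalRing (Localization.AtPrime (q.comap φ)) :=
    isRegularLocalRing_generic hinj (q.comap φ) fun b hb => by
      rw [Ideal.mem_comap, hφ, IsScalarTower.algebraMap_apply B C D, ← Ideal.mem_comap, hq, Ideal.mem_bot] at hb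
      exact (IsLocalization.injective C n.primeCompl_le_nonZeroDivisors) (hb.trans (map_zero _).symm)
  exact IsRegularLocalRing.of_ringEquiv (hiso q).some

end Groth.Agent.SymGr
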