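import Groth.Agent.SymGr.Basic

/-! `SymGrBijective` in terms of the maps `Sym(J/J²) → B/Jⁿ`. -/

set_option autoImplicit false

namespace Groth.Agent.SymGr

universe u

open MvPolynomial Groth.Agent.PParts

variable {B : Type u} [CommRing B] {J : Ideal B}

local notation "C" => B ⧸ J
local notation "V" => Ideal.Cotangent J
local notation "P" => SymmetricAlgebra (B ⧸ J) (Ideal.Cotangent J)

theorem smul_cotangent_eq_zero {b : B} (hb : b ∈ J) (v : V) : b • v = 0 := by
  obtain ⟨k, rfl⟩ := J.toCotangent_surjective v
  rw [← map_smul, Ideal.toCotangent_eq_zero]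
  simpa [sq] using Ideal.mul_mem_mul hb k.2

theorem smul_symPow_eq_zero (κ : Type u) [Nonempty κ] {b : B} (hb : b ∈ J)
    (y : SymmetricPower B κ V) : b • y = 0 := by
  classical
  have h : y ∈ Submodule.span B (Set.range (SymmetricPower.tprod B (ι := κ) (M := V))) := by
    rw [SymmetricPower.span_tprod_eq_top]; trivial
  induction h using Submodule.span_induction with
  | mem x hx =>
    obtain ⟨x, rfl⟩ := hx
    obtain ⟨i⟩ := ‹Nonempty κ›
    rw [← Function.update_eq_self i x, ← MultilinearMap.map_update_smul, smul_cotangent_eq_zero hb]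
    exact MultilinearMap.map_update_zero _ _ _
  | zero => simp
  | add x y _ _ hx hy => rw [smul_add, hx, hy, add_zero]
  | smul c x _ hx => rw [smul_comm, hx, smul_zero]

section Split

variable {σ : Type u}

/-- Linear forms. -/
noncomputable def linC (s : V →ₗ[C] (σ →₀ C)) : V →ₗ[C] MvPolynomial σ C :=
  Finsupp.linearCombination C (fun i => X i) ∘ₗ s

theorem isHomogeneous_linComb (w : σ →₀ C) :
    (Finsupp.linearCombination C (fun i => (X i : MvPolynomial σ C)) w).IsHomogeneous 1 := by
  rw [Finsupp.linearCombination_apply, Finsupp.sum]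
  exact IsHomogeneous.sum _ _ _ fun i _ => by rw [smul_eq_C_mul]; exact isHomogeneous_C_mul_X _ _

/-- Products of linear elements are independent modulo higher degree. -/
theorem eq_zero_of_gP_mem [Module.Projective C V] {κ : Type u} [Fintype κ] [Nonempty κ]
    {y : SymmetricPower B κ V} (hy : gP κ y ∈ aug J ^ (Fintype.card κ + 1)) : y = 0 := by
  classical
  obtain ⟨s, hs⟩ := (Module.Projective.out : ∃ s : V →ₗ[C] (V →₀ C),
    Function.LeftInverse (Finsupp.linearCombination C id) s)
  let r : (V →₀ C) →ₗ[C] V := Finsupp.linearCombination C id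
  let L : P →ₐ[C] MvPolynomial V C := SymmetricAlgebra.lift (linC s)
  -- the image is homogeneous
  have hhom : ∀ y : SymmetricPower B κ V, (L (gP κ y)).IsHomogeneous (Fintype.card κ) := fun y => by
    have h : y ∈ Submodule.span B (Set.range (SymmetricPower.tprod B (ι := κ) (M := V))) := by
      rw [SymmetricPower.span_tprod_eq_top]; trivial
    induction h using Submodule.span_induction with
    | mem x hx =>
      obtain ⟨x, rfl⟩ := hx
      rw [gP_tprod, map_prod, show Fintype.card κ = ∑ _j : κ, 1 by simp]
      exact IsHomogeneous.prod _ _ _ fun j _ => by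
        rw [SymmetricAlgebra.lift_ι_apply]; exact isHomogeneous_linComb _
    | zero => simpa using isHomogeneous_zero _ _ _
    | add x y _ _ hx hy => rw [map_add, map_add]; exact hx.add hy
    | smul b x _ hx =>
      rw [map_smul, IsScalarTower.algebraMap_smul C b (gP κ x) |>.symm, map_smul]
      exact (homogeneousSubmodule V C _).smul_mem _ hx
  have hzero : L (gP κ y) = 0 := by
    have h1 : (aug J).map L ≤ idealOfVars V C := by
      rw [aug_eq_span, Ideal.map_span, Ideal.span_le]
      rintro _ ⟨_, ⟨v, rfl⟩, rfl⟩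
      rw [SymmetricAlgebra.lift_ι_apply, SetLike.mem_coe, ← pow_one (idealOfVars V C),
        mem_pow_idealOfVars_iff']
      exact fun p hp => (isHomogeneous_linComb _).coeff_eq_zero (by omega)
    have h2 := Ideal.mem_map_of_mem L hy
    rw [Ideal.map_pow] at h2
    have h3 := Ideal.pow_right_mono h1 _ h2
    rw [mem_pow_idealOfVars_iff'] at h3
    ext p
    rw [coeff_zero]
    by_cases hp : Finsupp.degree p = Fintype.card κ
    · exact h3 p (by omega)
    · exact (hhom y).coeff_eq_zero hp
  -- the left inverse on monomials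
  let t : (V →₀ ℕ) → SymmetricPower B κ V := fun p =>
    if hp : ∃ f : κ → V, mset f = p then
      SymmetricPower.tprod B fun j => r (Finsupp.single (hp.choose j) 1)
    else 0
  let h : MvPolynomial V C →ₗ[B] SymmetricPower B κ V :=
    (Finsupp.lsum B fun p => Submodule.liftQ J (LinearMap.toSpanSingleton B _ (t p))
      (fun b hb => smul_symPow_eq_zero κ hb _)) ∘ₗ ((basisMonomials V C).repr.toLinearMap.restrictScalars B)
  have hh : ∀ f : κ → V, h (monomial (mset f) 1) =
      SymmetricPower.tprod B fun j => r (Finsupp.single (f j) 1) := by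
    intro f
    have hp : ∃ f' : κ → V, mset f' = mset f := ⟨f, rfl⟩
    have h1 : h (monomial (mset f) 1) = t (mset f) := by
      simp only [h, LinearMap.comp_apply, LinearMap.restrictScalars_apply, LinearEquiv.coe_coe]
      rw [show monomial (mset f) (1 : C) = basisMonomials V C (mset f) from
        (congrFun (coe_basisMonomials V C) _).symm, Module.Basis.repr_self, Finsupp.lsum_single]
      exact (Submodule.liftQ_apply _ _ (1 : B)).trans (one_smul B _)
    rw [h1]
    simp only [t]
    rw [dif_pos hp]
    obtain ⟨e, he⟩ := exists_perm_of_mset_eq hp.choose_spec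
    rw [← SymmetricPower.tprod_equiv e]
    exact congrArg _ (funext fun j => by rw [he j])
  let q : (V →₀ B) →ₗ[B] (V →₀ C) := Finsupp.mapRange.linearMap (Algebra.linearMap B C)
  have hq : Function.Surjective q :=
    Finsupp.mapRange_surjective _ (map_zero _) Ideal.Quotient.mk_surjective
  clear_value h
  have key : h.compMultilinearMap ((MultilinearMap.mkPiAlgebra B κ (MvPolynomial V C)).compLinearMap
      fun _ => ((Finsupp.linearCombination C (fun i => X i)).restrictScalars B) ∘ₗ q) =
      (SymmetricPower.tprod B).compLinearMap fun _ : κ => r.restrictScalars B ∘ₗ q := by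
    refine Module.Basis.ext_multilinear (fun _ => Finsupp.basisSingleOne) fun v => ?_
    simp only [LinearMap.compMultilinearMap_apply, MultilinearMap.compLinearMap_apply,
      MultilinearMap.mkPiAlgebra_apply, Finsupp.coe_basisSingleOne, LinearMap.comp_apply, q,
      Finsupp.mapRange.linearMap_apply, Finsupp.mapRange_single, LinearMap.restrictScalars_apply,
      Algebra.linearMap_apply, map_one, Finsupp.linearCombination_single, one_smul]
    rw [prod_monomial_mset, hh]
  have hid : h ∘ₗ ((L.toLinearMap.restrictScalars B) ∘ₗ gP κ) = LinearMap.id := sym_ext fun x => by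
    choose w hw using fun j => hq (s (x j))
    have := congrArg (fun m : MultilinearMap B (fun _ : κ => (V →₀ B)) (SymmetricPower B κ V) => m w) key
    simp only [LinearMap.compMultilinearMap_apply, MultilinearMap.compLinearMap_apply,
      MultilinearMap.mkPiAlgebra_apply, LinearMap.comp_apply, LinearMap.restrictScalars_apply, hw] at this
    rw [LinearMap.comp_apply, LinearMap.comp_apply, LinearMap.restrictScalars_apply,
      AlgHom.toLinearMap_apply, gP_tprod, map_prod, LinearMap.id_apply]
    simp only [L, SymmetricAlgebra.lift_ι_apply, linC, LinearMap.comp_apply]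
    rw [this]
    exact congrArg _ (funext fun j => hs (x j))
  have := LinearMap.congr_fun hid y
  rw [LinearMap.comp_apply, LinearMap.comp_apply, LinearMap.restrictScalars_apply,
    AlgHom.toLinearMap_apply, hzero, map_zero] at this
  exact this.symm

/-- Existence of lifts, given a ring map splitting `B/Jⁿ → B/J`. -/
theorem exists_isLift [Module.Projective C V] {n : ℕ} (hn : n ≠ 0) (sn : C →+* B ⧸ J ^ n)
    (hsn : ∀ c, Ideal.Quotient.factor (Ideal.pow_le_self hn) (sn c) = c) :
    ∃ α : P →+* B ⧸ J ^ n, IsLift J n hn α ∧ ∀ c, α (algebraMap C P c) = sn c := by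
  classical
  obtain ⟨s, hs⟩ := (Module.Projective.out : ∃ s : V →ₗ[C] (V →₀ C),
    Function.LeftInverse (Finsupp.linearCombination C id) s)
  choose rep hrep using J.toCotangent_surjective
  let e : MvPolynomial V C →+* B ⧸ J ^ n := eval₂Hom sn fun v => Ideal.Quotient.mk _ (rep v : B)
  let α : P →+* B ⧸ J ^ n := e.comp (SymmetricAlgebra.lift (linC s)).toRingHom
  have hC : ∀ c, α (algebraMap C P c) = sn c := fun c => by simp [α, e]
  have key : ∀ w : V →₀ C, ∃ jj : J, J.toCotangent jj = Finsupp.linearCombination C id w ∧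
      e (Finsupp.linearCombination C (fun i => X i) w) - Ideal.Quotient.mk _ (jj : B) ∈
        (J ^ 2).map (Ideal.Quotient.mk (J ^ n)) := fun w => by
    induction w using Finsupp.induction_linear with
    | zero => exact ⟨0, by simp, by simp⟩
    | add f g hf hg =>
      obtain ⟨a, ha, ha'⟩ := hf
      obtain ⟨b, hb, hb'⟩ := hg
      exact ⟨a + b, by rw [map_add, map_add, ha, hb], by
        rw [map_add, map_add, Submodule.coe_add, map_add, add_sub_add_comm]; exact add_mem ha' hb'⟩
    | single i c =>
      obtain ⟨b, rfl⟩ := Ideal.Quotient.mk_surjective c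
      refine ⟨b • rep i, ?_, ?_⟩
      · rw [map_smul, hrep, Finsupp.linearCombination_single, id_eq]
        exact (algebraMap_smul C b i).symm
      · rw [Finsupp.linearCombination_single, smul_eq_C_mul, map_mul, eval₂Hom_C, eval₂Hom_X',
          Submodule.coe_smul, smul_eq_mul, map_mul, ← sub_mul, sq, Ideal.map_mul]
        refine Ideal.mul_mem_mul ?_ (Ideal.mem_map_of_mem _ (rep i).2)
        obtain ⟨y, hy⟩ := Ideal.Quotient.mk_surjective (sn (Ideal.Quotient.mk J b))
        have h0 := hsn (Ideal.Quotient.mk J b)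
        rw [← hy, Ideal.Quotient.factor_mk, Ideal.Quotient.eq] at h0
        rw [← hy, ← map_sub]
        exact Ideal.mem_map_of_mem _ h0
  refine ⟨α, ⟨fun x => ?_, fun j => ?_⟩, hC⟩
  · induction x using SymmetricAlgebra.induction with
    | algebraMap c => rw [hC, hsn, SymmetricAlgebra.algebraMap_leftInverse]
    | ι v =>
      rw [SymmetricAlgebra.algebraMapInv_ι]
      obtain ⟨jj, -, hjj⟩ := key (s v)
      have h2 := Ideal.map_mono (Ideal.pow_le_self two_ne_zero) hjj
      obtain ⟨z, hz⟩ := Ideal.Quotient.mk_surjective (α (SymmetricAlgebra.ι C V v))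
      have h1 : α (SymmetricAlgebra.ι C V v) = e (Finsupp.linearCombination C (fun i => X i) (s v)) := by
        simp [α, linC, SymmetricAlgebra.lift_ι_apply]
      rw [← h1, ← hz, ← map_sub, Ideal.mem_quotient_iff_mem (Ideal.pow_le_self hn)] at h2
      rw [← hz, Ideal.Quotient.factor_mk, Ideal.Quotient.eq_zero_iff_mem]
      simpa using add_mem h2 jj.2
    | mul a b ha hb => rw [map_mul, map_mul, map_mul, ha, hb]
    | add a b ha hb => rw [map_add, map_add, map_add, ha, hb]
  · obtain ⟨jj, hjj, hjj'⟩ := key (s (J.toCotangent j))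
    rw [hs, Ideal.toCotangent_eq] at hjj
    have h1 : α (SymmetricAlgebra.ι C V (J.toCotangent j)) =
        e (Finsupp.linearCombination C (fun i => X i) (s (J.toCotangent j))) := by
      simp [α, linC, SymmetricAlgebra.lift_ι_apply]
    have := add_mem hjj' (Ideal.mem_map_of_mem (Ideal.Quotient.mk (J ^ n)) hjj)
    rw [← h1, map_sub, sub_add_sub_cancel] at this
    exact this

end Split

/-- The inclusion of the graded piece into a quotient of `B`. -/
noncomputable def toQ (J : Ideal B) (k : ℕ) : PP16.grJ B J k →ₗ[B] B ⧸ J ^ (k + 1) :=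
  Submodule.mapQ _ (J ^ (k + 1)) (J ^ k).subtype le_rfl

theorem toQ_injective (k : ℕ) : Function.Injective (toQ J k) := by
  rw [← LinearMap.ker_eq_bot, toQ, Submodule.mapQ, Submodule.ker_liftQ_eq_bot]
  rw [LinearMap.ker_comp, Submodule.ker_mkQ]

/-- The map `Sym^κ(J/J²) → B/J^{k+1}` induced by a lift. -/
noncomputable def grMap {κ : Type u} [Fintype κ] {α : P →+* B ⧸ J ^ (Fintype.card κ + 1)}
    (h : IsLift J (Fintype.card κ + 1) (Nat.succ_ne_zero _) α) :
    SymmetricPower B κ V →ₗ[B] B ⧸ J ^ (Fintype.card κ + 1) where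
  toFun y := α (gP κ y)
  map_add' x y := by rw [map_add, map_add]
  map_smul' b y := by
    rw [RingHom.id_apply, map_smul, Algebra.smul_def, map_mul, IsScalarTower.algebraMap_apply B C P,
      Algebra.smul_def, Ideal.Quotient.algebraMap_eq, Ideal.Quotient.algebraMap_eq, ← sub_eq_zero,
      ← sub_mul]
    have h0 := h.deg0 (algebraMap C P (Ideal.Quotient.mk J b))
    rw [SymmetricAlgebra.algebraMap_leftInverse] at h0
    obtain ⟨z, hz⟩ := Ideal.Quotient.mk_surjective (α (algebraMap C P (Ideal.Quotient.mk J b)))
    rw [← hz, Ideal.Quotient.factor_mk, Ideal.Quotient.eq] at h0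
    have h1 := Ideal.mul_mem_mul (Ideal.mem_map_of_mem (Ideal.Quotient.mk (J ^ (Fintype.card κ + 1))) h0)
      (h.map_aug_pow (gP_mem κ y))
    rwa [← Ideal.map_mul, ← pow_succ', Ideal.map_quotient_self, Ideal.mem_bot, map_sub, hz] at h1

theorem grMap_toCotangent {κ : Type u} [Fintype κ] {α : P →+* B ⧸ J ^ (Fintype.card κ + 1)}
    (h : IsLift J (Fintype.card κ + 1) (Nat.succ_ne_zero _) α) (x : κ → J) :
    grMap h (SymmetricPower.tprod B fun i => J.toCotangent (x i)) =
      toQ J _ (PP16.zetaJ B J x) := by
  show α (gP κ _) = Ideal.Quotient.mk _ (∏ i, (x i : B))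
  rw [gP_tprod, map_prod, map_prod, ← sub_eq_zero]
  have := prod_sub_prod_mem (I := J.map (Ideal.Quotient.mk (J ^ (Fintype.card κ + 1)))) Finset.univ
    (fun i => α (SymmetricAlgebra.ι C V (J.toCotangent (x i)))) (fun i => Ideal.Quotient.mk _ (x i : B))
    (fun i => h.map_aug (ι_mem_aug J _)) (fun i => Ideal.mem_map_of_mem _ (x i).2)
    (fun i => by rw [← Ideal.map_pow]; exact h.deg1 (x i))
  rwa [← Ideal.map_pow, Finset.card_univ, Ideal.map_quotient_self, Ideal.mem_bot] at this

/-- Bijectivity of the graded maps makes every lift injective modulo the powers of the augmentation. -/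
theorem ker_le_of_symGrBijective [Module.Projective C V] (H : PP16.SymGrBijective B J) {n : ℕ}
    {hn : n ≠ 0} {α : P →+* B ⧸ J ^ n} (h : IsLift J n hn α) : RingHom.ker α ≤ aug J ^ n := by
  intro x hx
  rw [RingHom.mem_ker] at hx
  suffices ∀ k, k ≤ n → x ∈ aug J ^ k from this n le_rfl
  intro k
  induction k with
  | zero => intro _; simp
  | succ k ih =>
    intro hk
    rcases Nat.eq_zero_or_pos k with rfl | hkp
    · rw [zero_add, pow_one, aug, RingHom.mem_ker, ← h.deg0, hx, map_zero]
    · let κ := ULift.{u} (Fin k)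
      have hκ : Fintype.card κ = k := by simp [κ]
      haveI : Nonempty κ := ⟨⟨⟨0, hkp⟩⟩⟩
      have hxk : x ∈ aug J ^ Fintype.card κ := by rw [hκ]; exact ih (by omega)
      obtain ⟨y, hy⟩ := exists_gP_sub_mem κ hxk
      have h' := h.factor (k := Fintype.card κ + 1) (Nat.succ_ne_zero _) (by omega)
      obtain ⟨φ, hφ, hφb⟩ := H κ
      have heq : grMap h' = toQ J _ ∘ₗ φ := sym_ext fun v => by
        choose j hj using fun i => J.toCotangent_surjective (v i)
        rw [← funext hj, LinearMap.comp_apply, hφ, grMap_toCotangent]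
      have h1 : grMap h' y = 0 := by
        have h2 := h'.eq_zero_of_mem_pow hy
        rw [map_sub, RingHom.comp_apply, hx, map_zero, zero_sub, neg_eq_zero] at h2
        exact h2
      rw [heq, LinearMap.comp_apply] at h1
      have h3 : y = 0 := hφb.1 ((toQ_injective _ (h1.trans (map_zero _).symm)).trans (map_zero φ).symm)
      rw [h3, map_zero, sub_zero, hκ] at hy
      exact hy

/-- Lifts injective modulo the powers of the augmentation give bijective graded maps. -/
theorem symGrBijective_of_ker_le [Module.Projective C V]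
    (H : ∀ (n : ℕ) (hn : n ≠ 0), ∃ α : P →+* B ⧸ J ^ n, IsLift J n hn α ∧ RingHom.ker α ≤ aug J ^ n) :
    PP16.SymGrBijective B J := by
  intro κ _ _
  obtain ⟨α, h, hker⟩ := H (Fintype.card κ + 1) (Nat.succ_ne_zero _)
  have hmem : ∀ y, grMap h y ∈ LinearMap.range (toQ J (Fintype.card κ)) := fun y => by
    obtain ⟨b, hb, hb'⟩ := (Ideal.mem_map_iff_of_surjective _ Ideal.Quotient.mk_surjective).1
      (h.map_aug_pow (gP_mem κ y))
    exact ⟨Submodule.Quotient.mk ⟨b, hb⟩, hb'⟩
  let e := LinearEquiv.ofInjective _ (toQ_injective (J := J) (Fintype.card κ))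
  let φ := e.symm.toLinearMap ∘ₗ (grMap h).codRestrict _ hmem
  have hφ : ∀ y, toQ J _ (φ y) = grMap h y := fun y =>
    congrArg Subtype.val (e.apply_symm_apply ⟨grMap h y, hmem y⟩)
  refine ⟨φ, fun x => toQ_injective _ ((hφ _).trans (grMap_toCotangent h x)), ?_, ?_⟩
  · rw [injective_iff_map_eq_zero]
    intro y hy
    have h1 := hφ y
    rw [hy, map_zero] at h1
    exact eq_zero_of_gP_mem (hker h1.symm)
  · intro z
    obtain ⟨⟨b, hb⟩, rfl⟩ := Submodule.Quotient.mk_surjective _ z
    have key : ∀ b ∈ J ^ Fintype.card κ, ∃ y, grMap h y = Ideal.Quotient.mk _ b := by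
      intro b hb
      rw [← Ideal.span_eq J, Ideal.span, Submodule.span_pow] at hb
      induction hb using Submodule.span_induction with
      | mem b hb =>
        obtain ⟨f, rfl⟩ := Set.mem_pow.1 hb
        refine ⟨SymmetricPower.tprod B fun j => J.toCotangent ⟨_, (f (Fintype.equivFin κ j)).2⟩, ?_⟩
        rw [grMap_toCotangent, List.prod_ofFn, ← (Fintype.equivFin κ).prod_comp]
        rfl
      | zero => exact ⟨0, by simp⟩
      | add x y _ _ hx hy =>
        obtain ⟨a, ha⟩ := hx
        obtain ⟨b, hb⟩ := hy
        exact ⟨a + b, by rw [map_add, map_add, ha, hb]⟩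
      | smul c x _ hx =>
        obtain ⟨a, ha⟩ := hx
        exact ⟨c • a, by rw [map_smul, ha]; rfl⟩
    obtain ⟨y, hy⟩ := key b hb
    exact ⟨y, toQ_injective _ ((hφ y).trans hy)⟩

end Groth.Agent.SymGr
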