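import Groth.Prelude.Def_CAlgX
import Groth.Agent.SymGr.Equiv
import Groth.Agent.FSAdic.Basic

/-! Adic formal smoothness when `B/J` is formally smooth: projectivity and `SymGrBijective`. -/

set_option autoImplicit false

namespace Groth.Agent.SymGr

universe u

variable {A B : Type u} [CommRing A] [CommRing B] [Algebra A B] {J : Ideal B}

local notation "C" => B ⧸ J
local notation "V" => Ideal.Cotangent J
local notation "P" => SymmetricAlgebra (B ⧸ J) (Ideal.Cotangent J)

theorem factorₐ_ker_nilpotent {n : ℕ} {k : ℕ} (hk : k ≠ 0) (hkn : k ≤ n) :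
    IsNilpotent (RingHom.ker (Ideal.Quotient.factorₐ A (Ideal.pow_le_pow_right hkn (I := J)) :
      B ⧸ J ^ n →+* B ⧸ J ^ k)) := by
  refine ⟨n, le_bot_iff.1 ?_⟩
  intro x hx
  have hker : RingHom.ker (Ideal.Quotient.factorₐ A (Ideal.pow_le_pow_right hkn (I := J)) :
      B ⧸ J ^ n →+* B ⧸ J ^ k) = (J ^ k).map (Ideal.Quotient.mk (J ^ n)) :=
    Ideal.Quotient.factor_ker (Ideal.pow_le_pow_right hkn)
  rw [hker, ← Ideal.map_pow, ← pow_mul] at hx
  have h := Ideal.map_mono (Ideal.pow_le_pow_right (Nat.le_mul_of_pos_left n (by omega))) hx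
  rwa [Ideal.map_quotient_self] at h

/-- The `A`-algebra splitting `B/J → B/Jⁿ` given by formal smoothness. -/
theorem exists_splitting [Algebra.FormallySmooth A C] {n : ℕ} (hn : n ≠ 0) :
    ∃ sn : C →ₐ[A] B ⧸ J ^ n, ∀ c, Ideal.Quotient.factor (Ideal.pow_le_self hn) (sn c) = c := by
  let g : (B ⧸ J ^ n) →ₐ[A] C := Ideal.Quotient.factorₐ A (Ideal.pow_le_self hn)
  have hg : Function.Surjective g := Ideal.Quotient.factor_surjective (Ideal.pow_le_self hn)
  have hnil : IsNilpotent (RingHom.ker (g : B ⧸ J ^ n →+* C)) := by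
    have hker : RingHom.ker (g : B ⧸ J ^ n →+* C) = J.map (Ideal.Quotient.mk (J ^ n)) :=
      Ideal.Quotient.factor_ker (Ideal.pow_le_self hn)
    exact ⟨n, by rw [hker, ← Ideal.map_pow, Ideal.map_quotient_self]; rfl⟩
  exact ⟨Algebra.FormallySmooth.liftOfSurjective (AlgHom.id A C) g hg hnil,
    fun c => Algebra.FormallySmooth.liftOfSurjective_apply (AlgHom.id A C) g hg hnil c⟩

variable [Algebra A (SymmetricAlgebra (B ⧸ J) (Ideal.Cotangent J))]
  [IsScalarTower A (B ⧸ J) (SymmetricAlgebra (B ⧸ J) (Ideal.Cotangent J))]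

theorem exists_isLift_algHom [Algebra.FormallySmooth A C] [Module.Projective C V] {n : ℕ} (hn : n ≠ 0) :
    ∃ α : P →ₐ[A] B ⧸ J ^ n, IsLift J n hn α.toRingHom := by
  obtain ⟨sn, hsn⟩ := exists_splitting (A := A) (J := J) hn
  obtain ⟨α, hα, hC⟩ := exists_isLift hn sn.toRingHom hsn
  refine ⟨{ α with commutes' := fun a => ?_ }, hα⟩
  show α (algebraMap A P a) = _
  rw [IsScalarTower.algebraMap_apply A C P, hC]
  exact sn.commutes a

omit [Algebra A (SymmetricAlgebra (B ⧸ J) (Ideal.Cotangent J))]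
  [IsScalarTower A (B ⧸ J) (SymmetricAlgebra (B ⧸ J) (Ideal.Cotangent J))] in
theorem formallySmooth_symmetricAlgebra [Module.Projective C V] :
    Algebra.FormallySmooth C P := by
  refine Algebra.FormallySmooth.of_comp_surjective fun T _ _ I _ f => ?_
  obtain ⟨g, hg⟩ := Module.projective_lifting_property (Ideal.Quotient.mkₐ C I).toLinearMap
    (f.toLinearMap.comp (SymmetricAlgebra.ι C V)) Ideal.Quotient.mk_surjective
  refine ⟨SymmetricAlgebra.lift g, SymmetricAlgebra.algHom_ext ?_⟩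
  refine LinearMap.ext fun v => ?_
  have h := LinearMap.congr_fun hg v
  simpa using h

/-- Sufficiency. -/
theorem isAdicFormallySmooth_of_symGr [Algebra.FormallySmooth A C] [Module.Projective C V]
    (H : PP16.SymGrBijective B J) : CAlgX.IsAdicFormallySmooth A B J := by
  intro T _ _ I hI ψ hψ
  obtain ⟨k, hk⟩ := hψ
  have hk' : ∀ x ∈ J ^ (k + 1), ψ x = 0 := fun x hx => hk x (Ideal.pow_le_pow_right (Nat.le_succ k) hx)
  haveI := formallySmooth_symmetricAlgebra (J := J)
  haveI : Algebra.FormallySmooth A P := Algebra.FormallySmooth.comp A C P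
  set n := (k + 1) * 2 with hn
  obtain ⟨α, hα⟩ := exists_isLift_algHom (A := A) (J := J) (n := n) (by omega)
  have hα1 := hα.factor (k := k + 1) (Nat.succ_ne_zero k) (by omega)
  let ψb : B ⧸ J ^ (k + 1) →ₐ[A] T ⧸ I := Ideal.Quotient.liftₐ _ ψ hk'
  let β : P →ₐ[A] B ⧸ J ^ (k + 1) := (Ideal.Quotient.factorₐ A (Ideal.pow_le_pow_right (by omega))).comp α
  obtain ⟨w, hw⟩ := Algebra.FormallySmooth.exists_lift I ⟨2, hI⟩ (ψb.comp β)
  have hker : ∀ x, α x = 0 → w x = 0 := fun x hx => by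
    have h1 : x ∈ aug J ^ n := ker_le_of_symGrBijective H hα hx
    refine Groth.Agent.FSAdic.vanish_of_maps_into (m := 2) (k := k + 1) hI w.toRingHom (aug J) ?_ x h1
    intro y hy
    rw [← Ideal.Quotient.eq_zero_iff_mem]
    refine (AlgHom.congr_fun hw y).trans ?_
    show ψb (β y) = 0
    have h2 : β y = 0 := hα1.eq_zero_of_mem_pow hy
    rw [h2, map_zero]
  let χ0 : B ⧸ J ^ n →ₐ[A] T := (Ideal.Quotient.liftₐ (RingHom.ker α.toRingHom) w hker).comp
    (Ideal.quotientKerAlgEquivOfSurjective (f := α) hα.surjective).symm.toAlgHom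
  refine ⟨χ0.comp (Ideal.Quotient.mkₐ A _), AlgHom.ext fun b => ?_⟩
  obtain ⟨x, hx⟩ := hα.surjective (Ideal.Quotient.mk _ b)
  have hx' : α x = Ideal.Quotient.mk _ b := hx
  have h3 : χ0 (α x) = w x := by
    have h4 : (Ideal.quotientKerAlgEquivOfSurjective (f := α) hα.surjective).symm (α x) =
        Ideal.Quotient.mk _ x := by
      rw [AlgEquiv.symm_apply_eq, Ideal.quotientKerAlgEquivOfSurjective_mk]
    exact (congrArg (Ideal.Quotient.liftₐ (RingHom.ker α.toRingHom) w hker) h4).trans rfl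
  simp only [AlgHom.comp_apply, Ideal.Quotient.mkₐ_eq_mk]
  rw [← hx', h3]
  refine (AlgHom.congr_fun hw x).trans ?_
  simp [ψb, β, hx']

set_option maxHeartbeats 800000 in
omit [Algebra A (SymmetricAlgebra (B ⧸ J) (Ideal.Cotangent J))]
  [IsScalarTower A (B ⧸ J) (SymmetricAlgebra (B ⧸ J) (Ideal.Cotangent J))] in
/-- The conormal module is projective. -/
theorem projective_of_adic [Algebra.FormallySmooth A C] (h : CAlgX.IsAdicFormallySmooth A B J) :
    Module.Projective C V := by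
  refine Module.Projective.of_lifting_property fun {M N} _ _ _ _ f g hf => ?_
  letI : Module Cᵐᵒᵖ M := Module.compHom M ((RingHom.id C).fromOpposite mul_comm)
  letI : Module Cᵐᵒᵖ N := Module.compHom N ((RingHom.id C).fromOpposite mul_comm)
  haveI : IsCentralScalar C M := ⟨fun _ _ => rfl⟩
  haveI : IsCentralScalar C N := ⟨fun _ _ => rfl⟩
  letI : Module A M := Module.compHom M (algebraMap A C)
  letI : Module A N := Module.compHom N (algebraMap A C)
  letI : Module Aᵐᵒᵖ M := Module.compHom M ((RingHom.id A).fromOpposite mul_comm)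
  letI : Module Aᵐᵒᵖ N := Module.compHom N ((RingHom.id A).fromOpposite mul_comm)
  haveI : IsCentralScalar A M := ⟨fun _ _ => rfl⟩
  haveI : IsCentralScalar A N := ⟨fun _ _ => rfl⟩
  haveI : IsScalarTower A C M := ⟨fun a c m => by rw [Algebra.smul_def, mul_smul]; rfl⟩
  haveI : IsScalarTower A C N := ⟨fun a c m => by rw [Algebra.smul_def, mul_smul]; rfl⟩
  obtain ⟨s, hs⟩ := exists_splitting (A := A) (J := J) (n := 2) two_ne_zero
  let q : TrivSqZeroExt C M →ₐ[A] TrivSqZeroExt C N :=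
    (TrivSqZeroExt.map f).restrictScalars A
  have hq : Function.Surjective q := fun z => by
    obtain ⟨m, hm⟩ := hf z.snd
    exact ⟨TrivSqZeroExt.inl z.fst + TrivSqZeroExt.inr m, by ext <;> simp [q, hm]⟩
  -- the first-order part of `b`
  let lift2 : B → J := fun b => ⟨(Function.surjInv Ideal.Quotient.mk_surjective
      (Ideal.Quotient.mk (J ^ 2) b - s (Ideal.Quotient.mk J b))), by
    obtain ⟨z, hz⟩ := Ideal.Quotient.mk_surjective (s (Ideal.Quotient.mk J b))
    have h1 := Function.surjInv_eq Ideal.Quotient.mk_surjective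
      (Ideal.Quotient.mk (J ^ 2) b - s (Ideal.Quotient.mk J b))
    set y := Function.surjInv Ideal.Quotient.mk_surjective
      (Ideal.Quotient.mk (J ^ 2) b - s (Ideal.Quotient.mk J b))
    rw [← hz, ← map_sub, Ideal.Quotient.eq] at h1
    have h2 := hs (Ideal.Quotient.mk J b)
    rw [← hz, Ideal.Quotient.factor_mk, Ideal.Quotient.eq] at h2
    have := add_mem (Ideal.pow_le_self two_ne_zero h1) (neg_mem h2)
    simpa using this⟩
  let δ : B → V := fun b => J.toCotangent (lift2 b)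
  have hδ : ∀ b, Ideal.Quotient.mk (J ^ 2) (lift2 b : B) =
      Ideal.Quotient.mk (J ^ 2) b - s (Ideal.Quotient.mk J b) := fun b =>
    Function.surjInv_eq Ideal.Quotient.mk_surjective _
  have hinj : ∀ x y : J, Ideal.Quotient.mk (J ^ 2) (x : B) = Ideal.Quotient.mk (J ^ 2) (y : B) →
      J.toCotangent x = J.toCotangent y := fun x y hxy =>
    (Ideal.toCotangent_eq J).2 (Ideal.Quotient.eq.1 hxy)
  have hadd : ∀ a b, δ (a + b) = δ a + δ b := fun a b => by
    simp only [δ, ← map_add]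
    refine hinj _ _ ?_
    rw [Submodule.coe_add, map_add, hδ, hδ, hδ, map_add, map_add, map_add]
    ring
  have hmul : ∀ a b, δ (a * b) = Ideal.Quotient.mk J a • δ b + Ideal.Quotient.mk J b • δ a := fun a b => by
    have e : ∀ (c : B) (v : V), Ideal.Quotient.mk J c • v = c • v := fun c v => algebraMap_smul C c v
    simp only [δ, e, ← map_smul, ← map_add]
    refine hinj _ _ ?_
    have h0 : Ideal.Quotient.mk (J ^ 2) (lift2 a : B) * Ideal.Quotient.mk (J ^ 2) (lift2 b : B) = 0 := by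
      rw [← map_mul, Ideal.Quotient.eq_zero_iff_mem, sq]
      exact Ideal.mul_mem_mul (lift2 a).2 (lift2 b).2
    simp only [Submodule.coe_add, Submodule.coe_smul, smul_eq_mul, map_add, map_mul, hδ]
    rw [hδ, hδ] at h0
    linear_combination -h0
  have hδC : ∀ a : A, δ (algebraMap A B a) = 0 := fun a => by
    rw [← map_zero J.toCotangent]
    refine hinj _ _ ?_
    rw [hδ, Submodule.coe_zero, map_zero, Ideal.Quotient.mk_algebraMap, Ideal.Quotient.mk_algebraMap,
      s.commutes, sub_self]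
  have hδJ : ∀ j : J, δ (j : B) = J.toCotangent j := fun j => by
    refine hinj _ _ ?_
    rw [hδ, Ideal.Quotient.eq_zero_iff_mem.2 j.2, map_zero, sub_zero]
  let ψ : B →ₐ[A] TrivSqZeroExt C N :=
    { toFun := fun b => TrivSqZeroExt.inl (Ideal.Quotient.mk J b) + TrivSqZeroExt.inr (g (δ b))
      map_one' := by
        have h1 := hδC 1
        rw [map_one] at h1
        ext <;> simp [h1]
      map_zero' := by
        have h1 := hδC 0
        rw [map_zero] at h1
        ext <;> simp [h1]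
      map_add' := fun a b => by
        ext <;> simp [hadd]
      map_mul' := fun a b => by
        ext
        · simp
        · simp only [TrivSqZeroExt.snd_add, TrivSqZeroExt.snd_inl, TrivSqZeroExt.snd_inr, zero_add,
            TrivSqZeroExt.snd_mul, TrivSqZeroExt.fst_add, TrivSqZeroExt.fst_inl, TrivSqZeroExt.fst_inr,
            add_zero, hmul, map_add, map_smul, op_smul_eq_smul]
      commutes' := fun a => by
        ext
        · simp [TrivSqZeroExt.algebraMap_eq_inl']
        · simp [TrivSqZeroExt.algebraMap_eq_inl', hδC] }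
  let e := Ideal.quotientKerAlgEquivOfSurjective (f := q) hq
  have hker : RingHom.ker q ^ 2 = ⊥ := by
    rw [eq_bot_iff, sq, Ideal.mul_le]
    intro x hx y hy
    have hx' : q x = 0 := hx
    have hy' : q y = 0 := hy
    have h1 := congrArg TrivSqZeroExt.fst hx'
    have h2 := congrArg TrivSqZeroExt.fst hy'
    simp [q] at h1 h2
    rw [Ideal.mem_bot]
    ext <;> simp [h1, h2]
  obtain ⟨v, hv⟩ := h _ (RingHom.ker q) hker (e.symm.toAlgHom.comp ψ) ⟨2, fun x hx => by
    have hx1 : x ∈ J := Ideal.pow_le_self two_ne_zero hx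
    have h1 := hδJ ⟨x, hx1⟩
    rw [(Ideal.toCotangent_eq_zero J _).2 hx] at h1
    have h2 : ψ x = 0 := by
      show TrivSqZeroExt.inl (Ideal.Quotient.mk J x) + TrivSqZeroExt.inr (g (δ x)) = 0
      have h1' : δ x = 0 := h1
      rw [h1', Ideal.Quotient.eq_zero_iff_mem.2 hx1]
      simp
    simp [h2]⟩
  have hqv : ∀ b, q (v b) = ψ b := fun b => by
    have := congrArg e (AlgHom.congr_fun hv b)
    simp only [AlgHom.comp_apply, AlgEquiv.toAlgHom_apply] at this
    rw [e.apply_symm_apply] at this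
    exact this
  have hfst : ∀ b, (v b).fst = Ideal.Quotient.mk J b := fun b => by
    have := congrArg TrivSqZeroExt.fst (hqv b)
    simpa [q, ψ] using this
  letI : Module B M := Module.compHom M (Ideal.Quotient.mk J)
  haveI : IsScalarTower B C M := ⟨fun b c m => by
    show (b • c) • m = Ideal.Quotient.mk J b • c • m
    rw [Algebra.smul_def, mul_smul]; rfl⟩
  let L : J →ₗ[B] M :=
    { toFun := fun j => (v j).snd
      map_add' := fun a b => by simp
      map_smul' := fun c j => by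
        simp [hfst, Ideal.Quotient.eq_zero_iff_mem.2 j.2]
        rfl }
  let L' : V →ₗ[B] M := Submodule.liftQ _ L (Submodule.smul_le.2 fun a ha b _ => by
    show (v ((a * (b : B) : B))).snd = 0
    rw [map_mul, TrivSqZeroExt.snd_mul, hfst, hfst, Ideal.Quotient.eq_zero_iff_mem.2 ha,
      Ideal.Quotient.eq_zero_iff_mem.2 b.2]
    simp)
  refine ⟨LinearMap.extendScalarsOfSurjective Ideal.Quotient.mk_surjective L', LinearMap.ext fun x => ?_⟩
  obtain ⟨j, rfl⟩ := J.toCotangent_surjective x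
  have h1 := congrArg TrivSqZeroExt.snd (hqv j)
  simp [q, ψ, hδJ] at h1
  show f (L' (J.toCotangent j)) = _
  exact h1

/-- Necessity, abstractly: a map to `B/Jⁿ` which is exact modulo `J²` is exact. -/
theorem ker_le_of_adic_aux (h : CAlgX.IsAdicFormallySmooth A B J) {Q : Type u} [CommRing Q]
    [Algebra A Q] (𝔞 : Ideal Q) {n : ℕ} (hn : 2 ≤ n) (α : Q →ₐ[A] B ⧸ J ^ n)
    (α2 : Q →ₐ[A] B ⧸ J ^ 2)
    (hα2 : α2 = (Ideal.Quotient.factorₐ A (Ideal.pow_le_pow_right hn)).comp α)
    (hsurj : Function.Surjective α2) (hker2 : RingHom.ker α2 = 𝔞 ^ 2)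
    (hdeg0 : ∀ p, Ideal.Quotient.factor (Ideal.pow_le_self two_ne_zero) (α2 p) = 0 → p ∈ 𝔞) :
    RingHom.ker α.toRingHom ≤ 𝔞 ^ n := by
  let g : (Q ⧸ 𝔞 ^ n) →ₐ[A] B ⧸ J ^ 2 := Ideal.Quotient.liftₐ (𝔞 ^ n) α2 fun x hx =>
    (hker2.ge (Ideal.pow_le_pow_right hn hx) : _)
  have hg : Function.Surjective g := fun y => by
    obtain ⟨x, hx⟩ := hsurj y
    exact ⟨Ideal.Quotient.mk _ x, hx⟩
  let I : Ideal (Q ⧸ 𝔞 ^ n) := RingHom.ker g
  have hI' : I = (𝔞 ^ 2).map (Ideal.Quotient.mk (𝔞 ^ n)) := by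
    ext z
    obtain ⟨p, rfl⟩ := Ideal.Quotient.mk_surjective z
    rw [Ideal.mem_quotient_iff_mem (Ideal.pow_le_pow_right hn), ← hker2]
    rfl
  let t : ((Q ⧸ 𝔞 ^ n) ⧸ I) ≃ₐ[A] B ⧸ J ^ 2 := Ideal.quotientKerAlgEquivOfSurjective (f := g) hg
  let u : B →ₐ[A] (Q ⧸ 𝔞 ^ n) ⧸ I := t.symm.toAlgHom.comp (Ideal.Quotient.mkₐ A (J ^ 2))
  have hInil : IsNilpotent I := ⟨n, by
    rw [Ideal.zero_eq_bot, eq_bot_iff]
    intro z hz
    obtain ⟨p, rfl⟩ := Ideal.Quotient.mk_surjective z
    have h1 : ((𝔞 ^ 2).map (Ideal.Quotient.mk (𝔞 ^ n))) ^ n ≤ ⊥ := by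
      refine (le_of_eq (Ideal.map_pow (Ideal.Quotient.mk (𝔞 ^ n)) (𝔞 ^ 2) n).symm).trans ?_
      rw [← pow_mul, Ideal.map_le_iff_le_comap]
      intro y hy
      exact Ideal.Quotient.eq_zero_iff_mem.2 (Ideal.pow_le_pow_right (by omega : n ≤ 2 * n) hy)
    rw [hI'] at hz
    exact h1 hz⟩
  have hfs : EGA41.IsFormallySmoothAdic A ⊥ B J :=
    Groth.Agent.FSAdic.of_sq_zero ⊥ J fun T' _ _ I' hI' _ ψ hψ => h T' I' hI' ψ hψ
  obtain ⟨γ, hγ⟩ := hfs (Q ⧸ 𝔞 ^ n) I hInil ⟨1, by rw [pow_one, Ideal.map_bot]⟩ u ⟨2, fun x hx => by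
    simp [u, Ideal.Quotient.eq_zero_iff_mem.2 hx]⟩
  have hγb : ∀ b, g (γ b) = Ideal.Quotient.mk _ b := fun b => by
    have h1 := congrArg (fun z => t z) (AlgHom.congr_fun hγ b)
    simp only [u, AlgHom.comp_apply, AlgEquiv.toAlgHom_apply, Ideal.Quotient.mkₐ_eq_mk] at h1
    rw [t.apply_symm_apply] at h1
    exact h1
  -- `γ` kills `J ^ n`
  have hγJ : ∀ j ∈ J, γ j ∈ (𝔞).map (Ideal.Quotient.mk (𝔞 ^ n)) := fun j hj => by
    obtain ⟨p, hp⟩ := Ideal.Quotient.mk_surjective (γ j)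
    have h1 : α2 p = Ideal.Quotient.mk (J ^ 2) j := by
      rw [← hγb j, ← hp]; rfl
    rw [← hp]
    refine Ideal.mem_map_of_mem _ (hdeg0 p ?_)
    rw [h1, Ideal.Quotient.factor_mk, Ideal.Quotient.eq_zero_iff_mem]
    exact hj
  have hγJn : ∀ x ∈ J ^ n, γ x = 0 := fun x hx => by
    have h1 : (J ^ n).map γ ≤ ((𝔞).map (Ideal.Quotient.mk (𝔞 ^ n))) ^ n := by
      rw [Ideal.map_pow]
      exact Ideal.pow_right_mono (Ideal.map_le_iff_le_comap.2 hγJ) n
    have h3 := h1 (Ideal.mem_map_of_mem γ hx)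
    rwa [← Ideal.map_pow, Ideal.map_quotient_self, Ideal.mem_bot] at h3
  let δ : Q →+* (Q ⧸ 𝔞 ^ n) := (Ideal.Quotient.lift (J ^ n) γ.toRingHom hγJn).comp α.toRingHom
  have hδ0 : ∀ x, δ x - Ideal.Quotient.mk _ x ∈ I := fun x => by
    obtain ⟨b, hb⟩ := Ideal.Quotient.mk_surjective (α x)
    have h1 : δ x = γ b := by
      show Ideal.Quotient.lift (J ^ n) γ.toRingHom hγJn (α x) = γ b
      rw [← hb]; rfl
    rw [h1, RingHom.mem_ker, map_sub, sub_eq_zero]
    rw [hγb]
    show _ = α2 x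
    rw [hα2]
    show _ = Ideal.Quotient.factorₐ A (Ideal.pow_le_pow_right hn) (α x)
    rw [← hb]
    rfl
  let m : Ideal (Q ⧸ 𝔞 ^ n) := (𝔞).map (Ideal.Quotient.mk (𝔞 ^ n))
  have hI : I = m ^ 2 := hI'.trans (Ideal.map_pow _ _ _)
  have hδk : ∀ (k : ℕ) (x : Q), x ∈ 𝔞 ^ k → δ x - Ideal.Quotient.mk _ x ∈ m ^ (k + 1) := by
    intro k
    induction k with
    | zero =>
      intro x _
      rw [zero_add, pow_one]
      exact Ideal.pow_le_self two_ne_zero (hI ▸ hδ0 x)
    | succ k ih =>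
      intro x hx
      rw [pow_succ] at hx
      refine Submodule.mul_induction_on hx (fun a ha b hb => ?_) fun a b ha hb => ?_
      · rw [map_mul, map_mul, show ∀ a' a b' b : (Q ⧸ 𝔞 ^ n), a' * b' - a * b = (a' - a) * b' + a * (b' - b) from
          fun a' a b' b => by ring]
        have hb' : δ b ∈ m := by
          have := add_mem (Ideal.pow_le_self two_ne_zero (hI ▸ hδ0 b))
            (Ideal.mem_map_of_mem (Ideal.Quotient.mk (𝔞 ^ n)) hb)
          rwa [sub_add_cancel] at this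
        refine add_mem ?_ ?_
        · rw [pow_succ]
          exact Ideal.mul_mem_mul (ih a ha) hb'
        · rw [show k + 1 + 1 = k + 2 from rfl, pow_add]
          refine Ideal.mul_mem_mul ?_ (hI ▸ hδ0 b)
          have := Ideal.mem_map_of_mem (Ideal.Quotient.mk (𝔞 ^ n)) ha
          rwa [Ideal.map_pow] at this
      · rw [map_add, map_add, add_sub_add_comm]
        exact add_mem ha hb
  intro x hx
  have hx0 : δ x = 0 := by
    show Ideal.Quotient.lift (J ^ n) γ.toRingHom hγJn (α x) = 0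
    rw [show α x = 0 from hx, map_zero]
  suffices ∀ k, k ≤ n → x ∈ 𝔞 ^ k from this n le_rfl
  intro k
  induction k with
  | zero => intro _; simp
  | succ k ih =>
    intro hk
    have h1 := hδk k x (ih (by omega))
    rw [hx0, zero_sub, neg_mem_iff, ← Ideal.map_pow,
      Ideal.mem_quotient_iff_mem (Ideal.pow_le_pow_right hk)] at h1
    exact h1

/-- Necessity: lifts are injective modulo the powers of the augmentation. -/
theorem ker_le_of_adic [Algebra.FormallySmooth A C] [Module.Projective C V]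
    (h : CAlgX.IsAdicFormallySmooth A B J) {n : ℕ} (hn : 2 ≤ n) {α : P →ₐ[A] B ⧸ J ^ n}
    (hα : IsLift J n (by omega) α.toRingHom) : RingHom.ker α.toRingHom ≤ aug J ^ n := by
  have h2 := hα.factor (k := 2) two_ne_zero hn
  refine ker_le_of_adic_aux h (aug J) hn α _ rfl h2.surjective
    (le_antisymm (IsLift.ker_le_sq h2) fun x hx => h2.eq_zero_of_mem_pow hx) fun p hp => ?_
  exact (h2.deg0 p).symm.trans hp

/-- The criterion. -/
theorem isAdicFormallySmooth_iff [Algebra.FormallySmooth A C] :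
    CAlgX.IsAdicFormallySmooth A B J ↔ Module.Projective C V ∧ PP16.SymGrBijective B J := by
  refine ⟨fun h => ?_, fun ⟨hV, hS⟩ => isAdicFormallySmooth_of_symGr hS⟩
  haveI := projective_of_adic h
  refine ⟨inferInstance, symGrBijective_of_ker_le fun n hn => ?_⟩
  obtain ⟨α, hα⟩ := exists_isLift_algHom (A := A) (J := J) hn
  rcases Nat.lt_or_ge n 2 with h1 | h1
  · obtain rfl : n = 1 := by omega
    refine ⟨α.toRingHom, hα, fun x hx => ?_⟩
    rw [pow_one, aug, RingHom.mem_ker, ← hα.deg0, RingHom.mem_ker.1 hx, map_zero]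
  · exact ⟨α.toRingHom, hα, ker_le_of_adic h h1 hα⟩

end Groth.Agent.SymGr
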