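import Groth.Prelude.Def_CAlgX
import Groth.Agent.QRegLib.Basic
import Groth.Agent.CAlgReg.Basic
import Mathlib

/-! Quasi-regular sequences in the Jacobson radical are regular. -/

set_option autoImplicit false

namespace Groth.Agent.SymGr

universe u

open MvPolynomial

theorem mul_mem_cancel {A : Type u} [CommRing A] {c : ℕ} {f : Fin c → A}
    (hq : CAlgX.IsQuasiRegular f) (i : Fin c) :
    ∀ (n : ℕ) (a : A), f i * a ∈ Ideal.span (Set.range f) ^ (n + 1) → a ∈ Ideal.span (Set.range f) ^ n := by
  intro n
  induction n with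
  | zero => intro a _; simp
  | succ n ih =>
    intro a ha
    obtain ⟨Q, hQ, rfl⟩ := (Ideal.mem_span_pow_iff_exists_isHomogeneous f a).mp
      (ih a (Ideal.pow_le_pow_right (Nat.le_succ _) ha))
    have h1 : ∀ d, Q.coeff d ∈ Ideal.span (Set.range f) := fun d => by
      have h2 := hq (n + 1) (X i * Q) (by simpa [add_comm] using (isHomogeneous_X A i).mul hQ)
        (by rw [map_mul, eval_X]; exact ha) (Finsupp.single i 1 + d)
      rwa [coeff_X_mul] at h2
    rw [pow_succ']
    exact QRegLib.eval_mem_mul_pow f _ n Q hQ h1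

theorem isWeaklyRegular_of_isQuasiRegular : ∀ (c : ℕ) (A : Type u) [CommRing A] [IsNoetherianRing A]
    (f : Fin c → A), (∀ i, f i ∈ Ring.jacobson A) → CAlgX.IsQuasiRegular f →
    RingTheory.Sequence.IsWeaklyRegular A (List.ofFn f) := by
  intro c
  induction c with
  | zero => intro A _ _ f _ _; simpa using RingTheory.Sequence.IsWeaklyRegular.nil A A
  | succ c ih =>
    intro A _ _ f hf hq
    have hJ : Ideal.span (Set.range f) ≤ Ideal.jacobson ⊥ := by
      rw [Ideal.span_le]
      rintro _ ⟨i, rfl⟩
      simpa [Ring.jacobson_eq_sInf_isMaximal, Ideal.jacobson] using hf i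
    rw [List.ofFn_succ]
    refine .cons' ?_ ?_
    · intro a b hab
      rw [← sub_eq_zero, ← Submodule.mem_bot A, ← Ideal.iInf_pow_smul_eq_bot_of_le_jacobson _ hJ,
        Submodule.mem_iInf]
      intro n
      rw [smul_eq_mul, Ideal.mul_top]
      refine mul_mem_cancel hq 0 n _ ?_
      have : f 0 * (a - b) = 0 := by
        simp only [smul_eq_mul] at hab
        rw [mul_sub, hab, sub_self]
      rw [this]
      exact zero_mem _
    · let π := Ideal.Quotient.mk (Ideal.span {f 0})
      let g : Fin c → A ⧸ Ideal.span {f 0} := fun i => π (f i.succ)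
      have hjac : ∀ i, g i ∈ Ring.jacobson (A ⧸ Ideal.span {f 0}) := fun i =>
        Ring.le_comap_jacobson π (hf i.succ)
      have hqg : CAlgX.IsQuasiRegular g := by
        intro n P hP he d
        rcases Nat.eq_zero_or_pos n with rfl | hn
        · obtain ⟨r, rfl⟩ : ∃ r, P = C r := ⟨P.coeff 0, totalDegree_eq_zero_iff_eq_C.1 (Nat.le_zero.1 hP.totalDegree_le)⟩
          rw [eval_C, zero_add, pow_one] at he
          rw [coeff_C]
          split_ifs
          · exact he
          · exact zero_mem _
        obtain ⟨m, rfl⟩ : ∃ m, n = m + 1 := ⟨n - 1, by omega⟩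
        obtain ⟨P₁, hP₁⟩ := map_surjective π Ideal.Quotient.mk_surjective P
        let P₂ := homogeneousComponent (m + 1) P₁
        have hP₂ : MvPolynomial.map π P₂ = P := by
          ext e
          rw [coeff_map, coeff_homogeneousComponent]
          split_ifs with h
          · rw [← coeff_map, hP₁]
          · rw [map_zero, hP.coeff_eq_zero h]
        let P' := rename Fin.succ P₂
        have hP'hom : P'.IsHomogeneous (m + 1) := (homogeneousComponent_isHomogeneous _ _).rename_isHomogeneous
        have hP'ev : π (eval f P') = eval g P := by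
          rw [eval_rename, ← hP₂, eval_map]
          exact eval₂_comp π (f ∘ Fin.succ) P₂
        have hspan : Ideal.span (Set.range g) ≤ (Ideal.span (Set.range f)).map π := by
          rw [Ideal.span_le]
          rintro _ ⟨i, rfl⟩
          exact Ideal.mem_map_of_mem π (Ideal.subset_span ⟨i.succ, rfl⟩)
        rw [← hP'ev] at he
        have he' := Ideal.pow_right_mono hspan _ he
        rw [← Ideal.map_pow, Ideal.mem_quotient_iff_mem_sup] at he'
        obtain ⟨z, hz, w, hw, hzw⟩ := Submodule.mem_sup.1 he'
        obtain ⟨a, rfl⟩ := Ideal.mem_span_singleton.1 hw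
        have ha : a ∈ Ideal.span (Set.range f) ^ m := by
          refine mul_mem_cancel hq 0 m a ?_
          have h2 : eval f P' ∈ Ideal.span (Set.range f) ^ (m + 1) :=
            (Ideal.mem_span_pow_iff_exists_isHomogeneous f _).mpr ⟨P', hP'hom, rfl⟩
          have h3 := sub_mem h2 (Ideal.pow_le_pow_right (Nat.le_succ _) hz)
          rwa [← hzw, add_sub_cancel_left] at h3
        obtain ⟨Q, hQ, rfl⟩ := (Ideal.mem_span_pow_iff_exists_isHomogeneous f a).mp ha
        have h4 := hq (m + 1) (P' - X 0 * Q) (hP'hom.sub (by simpa [add_comm] using (isHomogeneous_X A 0).mul hQ))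
          (by rw [map_sub, map_mul, eval_X, ← hzw, add_sub_cancel_right]; exact hz) (d.mapDomain Fin.succ)
        rw [coeff_sub, show coeff (d.mapDomain Fin.succ) (X 0 * Q) = 0 by
            rw [coeff_X_mul', if_neg]
            rw [Finsupp.mem_support_iff, Finsupp.mapDomain_notin_range d 0 (by simp [Fin.succ_ne_zero])]
            simp, sub_zero,
          coeff_rename_mapDomain _ (Fin.succ_injective _)] at h4
        rw [← hP₂, coeff_map]
        refine (Ideal.map_le_iff_le_comap.2 ?_) (Ideal.mem_map_of_mem π h4)
        rw [Ideal.span_le]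
        rintro _ ⟨i, rfl⟩
        cases i using Fin.cases with
        | zero => simp [π, g, Ideal.Quotient.eq_zero_iff_mem.2 (Ideal.mem_span_singleton_self (f 0))]
        | succ i => exact Ideal.subset_span ⟨i, rfl⟩
      have h1 := ih (A ⧸ Ideal.span {f 0}) g hjac hqg
      have e : QuotSMulTop (f 0) A ≃ₗ[A] A ⧸ Ideal.span {f 0} :=
        Submodule.quotEquivOfEq _ _ (by rw [← Submodule.ideal_span_singleton_smul, smul_eq_mul, Ideal.mul_top])
      rw [← Ideal.Quotient.algebraMap_eq, RingTheory.Sequence.isWeaklyRegular_map_algebraMap_iff,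
        e.isWeaklyRegular_congr,
        ← RingTheory.Sequence.isWeaklyRegular_map_algebraMap_iff (A ⧸ Ideal.span {f 0}), List.map_ofFn]
      exact h1

theorem isRegularLocalRing_of_isWeaklyRegular : ∀ (l : List ℕ) (R : Type u) [CommRing R]
    [IsLocalRing R] [IsNoetherianRing R] (f : List R), f.length = l.length →
    RingTheory.Sequence.IsWeaklyRegular R f → Ideal.ofList f = IsLocalRing.maximalIdeal R →
    IsRegularLocalRing R := by
  intro l
  induction l with
  | nil =>
    intro R _ _ _ f hl _ hm
    rw [List.length_nil, List.length_eq_zero_iff] at hl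
    subst hl
    rw [Ideal.ofList_nil] at hm
    letI := (IsLocalRing.isField_iff_maximalIdeal_eq.2 hm.symm).toField
    infer_instance
  | cons a l ih =>
    intro R _ _ _ f hl hreg hm
    match f, hl with
    | x :: rs, hl =>
      simp only [List.length_cons, Nat.add_right_cancel_iff] at hl
      rw [RingTheory.Sequence.isWeaklyRegular_cons_iff] at hreg
      obtain ⟨hx, hrs⟩ := hreg
      have hxm : x ∈ IsLocalRing.maximalIdeal R := hm ▸ Ideal.subset_span (by simp)
      haveI : Nontrivial (R ⧸ Ideal.span {x}) := Ideal.Quotient.nontrivial_iff.2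
        (fun h => (IsLocalRing.maximalIdeal.isMaximal R).ne_top (top_unique (h ▸ (Ideal.span_singleton_le_iff_mem _).2 hxm)))
      haveI : IsLocalRing (R ⧸ Ideal.span {x}) := .of_surjective' _ Ideal.Quotient.mk_surjective
      haveI : IsLocalHom (Ideal.Quotient.mk (Ideal.span {x})) :=
        IsLocalHom.of_surjective _ Ideal.Quotient.mk_surjective
      let e : QuotSMulTop x R ≃ₗ[R] R ⧸ Ideal.span {x} :=
        Submodule.quotEquivOfEq _ _ (by rw [← Submodule.ideal_span_singleton_smul, smul_eq_mul, Ideal.mul_top])
      rw [e.isWeaklyRegular_congr, ← RingTheory.Sequence.isWeaklyRegular_map_algebraMap_iff (R ⧸ Ideal.span {x}),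
        Ideal.Quotient.algebraMap_eq] at hrs
      haveI := ih (R ⧸ Ideal.span {x}) _ (by simpa using hl) hrs (by
        rw [← Ideal.map_ofList, ← IsLocalRing.map_maximalIdeal_of_surjective (Ideal.Quotient.mk (Ideal.span {x}))
            Ideal.Quotient.mk_surjective, ← hm, Ideal.ofList_cons, Ideal.map_sup, Ideal.map_quotient_self,
          bot_sup_eq])
      exact CAlgReg.of_quotient_span_singleton hxm
        (mem_nonZeroDivisors_iff_right.2 fun a ha => hx.right_eq_zero_of_smul (by rw [smul_eq_mul, mul_comm]; exact ha))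

end Groth.Agent.SymGr
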