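import Groth.Agent.SymGr.Equiv
import Groth.Agent.SymGr.Adic
import Groth.Agent.SymGr.WeaklyReg

/-! `SymGrBijective` for the maximal ideal: regularity. -/

set_option autoImplicit false

namespace Groth.Agent.SymGr

universe u

open MvPolynomial Groth.Agent.PParts

variable {B : Type u} [CommRing B] {J : Ideal B}

local notation "C" => B ⧸ J
local notation "V" => Ideal.Cotangent J
local notation "P" => SymmetricAlgebra (B ⧸ J) (Ideal.Cotangent J)

/-- A lift evaluates polynomials at the generators modulo higher powers. -/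
theorem sub_eval_mem {c : ℕ} {f : Fin c → B} (hf : ∀ i, f i ∈ J) {k : ℕ}
    {α : P →+* B ⧸ J ^ (k + 1)} (h : IsLift J (k + 1) (Nat.succ_ne_zero k) α)
    {q : MvPolynomial (Fin c) B} (hq : q.IsHomogeneous k) :
    α (aeval (fun i => SymmetricAlgebra.ι C V (J.toCotangent ⟨f i, hf i⟩))
      (MvPolynomial.map (Ideal.Quotient.mk J) q)) = Ideal.Quotient.mk _ (eval f q) := by
  classical
  conv_lhs => rw [q.as_sum]
  conv_rhs => rw [q.as_sum]
  rw [map_sum, map_sum, map_sum, map_sum, map_sum]
  refine Finset.sum_congr rfl fun p hp => ?_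
  obtain ⟨r, hr⟩ := exists_count_eq (κ := Fin k) p (by
    rw [Fintype.card_fin]
    by_contra hne
    exact (mem_support_iff.1 hp) (hq.coeff_eq_zero hne))
  have hm : monomial p (coeff p q) = MvPolynomial.C (coeff p q) * ∏ j, X (r j) := by
    rw [prod_monomial_count, hr, C_mul_monomial, mul_one]
  rw [hm]
  simp only [map_mul, map_prod, map_C, map_X, aeval_C, aeval_X, eval_C, eval_X]
  rw [← sub_eq_zero, show ∀ a b x y : B ⧸ J ^ (k + 1), a * x - b * y = (a - b) * x + b * (x - y) from
    fun a b x y => by ring]
  have hI : ∀ z ∈ (J ^ (k + 1)).map (Ideal.Quotient.mk (J ^ (k + 1))), z = 0 := fun z hz => by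
    rwa [Ideal.map_quotient_self, Ideal.mem_bot] at hz
  refine hI _ (add_mem ?_ ?_)
  · rw [show (J ^ (k + 1)).map (Ideal.Quotient.mk (J ^ (k + 1))) =
        J.map (Ideal.Quotient.mk (J ^ (k + 1))) * (J ^ k).map (Ideal.Quotient.mk (J ^ (k + 1))) by
      rw [← Ideal.map_mul, ← pow_succ']]
    refine Ideal.mul_mem_mul ?_ ?_
    · have h0 := h.deg0 (algebraMap C P (Ideal.Quotient.mk J (coeff p q)))
      rw [SymmetricAlgebra.algebraMap_leftInverse] at h0
      obtain ⟨y, hy⟩ := Ideal.Quotient.mk_surjective (α (algebraMap C P (Ideal.Quotient.mk J (coeff p q))))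
      rw [← hy, Ideal.Quotient.factor_mk, Ideal.Quotient.eq] at h0
      rw [← hy, ← map_sub]
      exact Ideal.mem_map_of_mem _ h0
    · have h1 := h.map_aug_pow (x := ∏ j : Fin k, SymmetricAlgebra.ι C V (J.toCotangent ⟨f (r j), hf (r j)⟩))
        (k := k) (by
          have h2 : ∏ j : Fin k, SymmetricAlgebra.ι C V (J.toCotangent ⟨f (r j), hf (r j)⟩) ∈
              ∏ _j : Fin k, aug J := Ideal.prod_mem_prod fun j _ => ι_mem_aug J _
          rwa [Finset.prod_const, Finset.card_univ, Fintype.card_fin] at h2)
      rwa [map_prod] at h1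
  · refine Ideal.mul_mem_left _ _ ?_
    have := prod_sub_prod_mem (I := J.map (Ideal.Quotient.mk (J ^ (k + 1)))) Finset.univ
      (fun j => α (SymmetricAlgebra.ι C V (J.toCotangent ⟨f (r j), hf (r j)⟩)))
      (fun j => Ideal.Quotient.mk _ (f (r j)))
      (fun j => h.map_aug (ι_mem_aug J _)) (fun j => Ideal.mem_map_of_mem _ (hf _))
      (fun j => by rw [← Ideal.map_pow]; exact h.deg1 ⟨f (r j), hf (r j)⟩)
    rwa [← Ideal.map_pow, Finset.card_univ, Fintype.card_fin] at this

/-- Quasi-regular generators inducing a basis of the conormal module and bijectivity of the graded maps. -/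
theorem symGrBijective_iff_isQuasiRegular {c : ℕ} {f : Fin c → B} (hf : ∀ i, f i ∈ J)
    (hspan : Ideal.span (Set.range f) = J) (bas : Module.Basis (Fin c) C V)
    (hbas : ∀ i, bas i = J.toCotangent ⟨f i, hf i⟩) :
    (∀ (n : ℕ) (hn : n ≠ 0), ∃ α : P →+* B ⧸ J ^ n, IsLift J n hn α) →
    (PP16.SymGrBijective B J ↔ CAlgX.IsQuasiRegular f) := by
  classical
  intro hlift
  haveI : Module.Free C V := Module.Free.of_basis bas
  let Φ : MvPolynomial (Fin c) C →ₐ[C] P :=
    aeval fun i => SymmetricAlgebra.ι C V (J.toCotangent ⟨f i, hf i⟩)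
  let L : P →ₐ[C] MvPolynomial (Fin c) C :=
    SymmetricAlgebra.lift (bas.constr C fun i => (X i : MvPolynomial (Fin c) C))
  have hLΦ : ∀ q, L (Φ q) = q := fun q => by
    have : L.comp Φ = AlgHom.id C _ := algHom_ext fun i => by
      rw [AlgHom.comp_apply, show Φ (X i) = SymmetricAlgebra.ι C V (bas i) by simp [Φ, hbas i]]
      simp [L]
    exact AlgHom.congr_fun this q
  have hΦL : ∀ x, Φ (L x) = x := fun x => by
    have : Φ.comp L = AlgHom.id C _ := SymmetricAlgebra.algHom_ext (bas.ext fun i => by simp [Φ, L, ← hbas])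
    exact AlgHom.congr_fun this x
  have hLaug : ∀ (k : ℕ) x, x ∈ aug J ^ k → L x ∈ idealOfVars (Fin c) C ^ k := by
    intro k x hx
    have h1 : (aug J).map L ≤ idealOfVars (Fin c) C := by
      rw [aug_eq_span, Ideal.map_span, Ideal.span_le]
      rintro _ ⟨_, ⟨v, rfl⟩, rfl⟩
      simp only [SetLike.mem_coe, L, SymmetricAlgebra.lift_ι_apply]
      rw [Module.Basis.constr_apply_fintype]
      exact Ideal.sum_mem _ fun i _ => by
        rw [smul_eq_C_mul]; exact Ideal.mul_mem_left _ _ (Ideal.subset_span ⟨i, rfl⟩)
    have h2 := Ideal.mem_map_of_mem L hx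
    rw [Ideal.map_pow] at h2
    exact Ideal.pow_right_mono h1 k h2
  have hΦaug : ∀ (k : ℕ) q, q ∈ idealOfVars (Fin c) C ^ k → Φ q ∈ aug J ^ k := by
    intro k q hq
    have h1 : (idealOfVars (Fin c) C).map Φ ≤ aug J := by
      rw [idealOfVars, Ideal.map_span, Ideal.span_le]
      rintro _ ⟨_, ⟨i, rfl⟩, rfl⟩
      simp only [SetLike.mem_coe, Φ, aeval_X]
      exact ι_mem_aug J _
    have h2 := Ideal.mem_map_of_mem Φ hq
    rw [Ideal.map_pow] at h2
    exact Ideal.pow_right_mono h1 k h2
  constructor
  · intro H n Q hQ he d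
    rw [hspan] at he ⊢
    obtain ⟨α, hα⟩ := hlift (n + 1) (Nat.succ_ne_zero n)
    have h1 := sub_eval_mem hf hα hQ
    rw [Ideal.Quotient.eq_zero_iff_mem.2 he] at h1
    have h2 := hLaug _ _ (ker_le_of_symGrBijective H hα h1)
    change L (Φ _) ∈ _ at h2
    rw [hLΦ, mem_pow_idealOfVars_iff'] at h2
    by_cases hd : Finsupp.degree d = n
    · have h3 := h2 d (by omega)
      rw [coeff_map, Ideal.Quotient.eq_zero_iff_mem] at h3
      exact h3
    · rw [hQ.coeff_eq_zero hd]; exact zero_mem _
  · intro hqr
    refine symGrBijective_of_ker_le fun n hn => ?_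
    obtain ⟨α, hα⟩ := hlift n hn
    refine ⟨α, hα, fun x hx => ?_⟩
    rw [RingHom.mem_ker] at hx
    suffices ∀ k, k ≤ n → x ∈ aug J ^ k from this n le_rfl
    intro k
    induction k with
    | zero => intro _; simp
    | succ k ih =>
      intro hk
      have hxk := ih (by omega)
      set q := L x with hqdef
      let qk := homogeneousComponent k q
      have hrest : q - qk ∈ idealOfVars (Fin c) C ^ (k + 1) := by
        rw [mem_pow_idealOfVars_iff']
        intro e he
        rw [coeff_sub, coeff_homogeneousComponent]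
        split_ifs with h
        · exact sub_self _
        · have h2 := hLaug k x hxk
          rw [mem_pow_idealOfVars_iff'] at h2
          rw [sub_zero]
          exact h2 e (by omega)
      obtain ⟨Q₁, hQ₁⟩ := map_surjective (Ideal.Quotient.mk J) Ideal.Quotient.mk_surjective qk
      let Q := homogeneousComponent k Q₁
      have hQ : MvPolynomial.map (Ideal.Quotient.mk J) Q = qk := by
        ext e
        rw [coeff_map, coeff_homogeneousComponent]
        split_ifs with h
        · rw [← coeff_map, hQ₁]
        · rw [map_zero, coeff_homogeneousComponent, if_neg h]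
      have h5 : x - Φ qk ∈ aug J ^ (k + 1) := by
        have := hΦaug _ _ hrest
        rwa [map_sub, hΦL] at this
      have hα' := hα.factor (k := k + 1) (Nat.succ_ne_zero k) hk
      have h6 : (Ideal.Quotient.factor (Ideal.pow_le_pow_right hk)).comp α (Φ qk) = 0 := by
        have h7 := hα'.eq_zero_of_mem_pow h5
        rw [map_sub, RingHom.comp_apply, hx, map_zero, zero_sub, neg_eq_zero] at h7
        exact h7
      have h8 := sub_eval_mem hf hα' (homogeneousComponent_isHomogeneous k Q₁)
      rw [hQ] at h8
      change ((Ideal.Quotient.factor (Ideal.pow_le_pow_right hk)).comp α) (Φ qk) = _ at h8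
      rw [h6, eq_comm, Ideal.Quotient.eq_zero_iff_mem, ← hspan] at h8
      have h9 : qk = 0 := by
        rw [← hQ]
        ext e
        rw [coeff_map, coeff_zero, Ideal.Quotient.eq_zero_iff_mem]
        have := hqr k Q (homogeneousComponent_isHomogeneous k Q₁) h8 e
        rwa [hspan] at this
      rwa [h9, map_zero, sub_zero] at h5

section Local

open IsLocalRing

variable {R : Type u} [CommRing R] [IsLocalRing R] [IsNoetherianRing R]

/-- For a Noetherian local ring, the graded algebra is a symmetric algebra iff the ring is regular. -/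
theorem symGrBijective_maximalIdeal_iff {A : Type u} [CommRing A] [Algebra A R]
    [Algebra.FormallySmooth A (R ⧸ maximalIdeal R)] :
    PP16.SymGrBijective R (maximalIdeal R) ↔ IsRegularLocalRing R := by
  classical
  letI : Field (R ⧸ maximalIdeal R) := Ideal.Quotient.field _
  haveI : Module.Finite (R ⧸ maximalIdeal R) (maximalIdeal R).Cotangent :=
    inferInstanceAs (Module.Finite (ResidueField R) (CotangentSpace R))
  let d := Module.finrank (R ⧸ maximalIdeal R) (maximalIdeal R).Cotangent
  let bas : Module.Basis (Fin d) (R ⧸ maximalIdeal R) (maximalIdeal R).Cotangent := Module.finBasis _ _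
  choose g hg using fun i => (maximalIdeal R).toCotangent_surjective (bas i)
  let f : Fin d → R := fun i => g i
  have hspan : Ideal.span (Set.range f) = maximalIdeal R := by
    have h1 : Submodule.span R (Set.range g) = ⊤ := by
      refine IsLocalRing.CotangentSpace.span_image_eq_top_iff.1 ?_
      rw [← Set.range_comp]
      refine (congrArg _ (congrArg Set.range (funext hg))).trans ?_
      exact bas.span_eq
    have h2 := congrArg (Submodule.map (maximalIdeal R).subtype) h1
    rw [Submodule.map_span, Submodule.map_top, Submodule.range_subtype, ← Set.range_comp] at h2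
    exact h2
  have hd : (maximalIdeal R).spanFinrank = d := spanFinrank_maximalIdeal_eq_finrank_cotangentSpace R
  letI : Algebra A (SymmetricAlgebra (R ⧸ maximalIdeal R) (maximalIdeal R).Cotangent) :=
    ((algebraMap (R ⧸ maximalIdeal R) (SymmetricAlgebra (R ⧸ maximalIdeal R) (maximalIdeal R).Cotangent)).comp
      (algebraMap A (R ⧸ maximalIdeal R))).toAlgebra
  haveI : IsScalarTower A (R ⧸ maximalIdeal R)
      (SymmetricAlgebra (R ⧸ maximalIdeal R) (maximalIdeal R).Cotangent) :=
    IsScalarTower.of_algebraMap_eq' rfl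
  haveI : Module.Free (R ⧸ maximalIdeal R) (maximalIdeal R).Cotangent := Module.Free.of_basis bas
  have hiff := symGrBijective_iff_isQuasiRegular (f := f) (fun i => (g i).2) hspan bas
    (fun i => (hg i).symm) fun n hn => ⟨_, (exists_isLift_algHom (A := A) (J := maximalIdeal R) hn).choose_spec⟩
  rw [hiff]
  constructor
  · intro hq
    refine isRegularLocalRing_of_isWeaklyRegular (List.replicate d 0) R (List.ofFn f) (by simp)
      (isWeaklyRegular_of_isQuasiRegular d R f (fun i => ?_) hq) ?_
    · rw [Ring.jacobson_eq_sInf_isMaximal, Ideal.mem_sInf]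
      intro M hM
      have hM' : M.IsMaximal := hM
      rw [IsLocalRing.eq_maximalIdeal hM']
      exact (g i).2
    · rw [← hspan, Ideal.ofList]
      congr 1
      ext x
      simp [List.mem_ofFn]
  · intro hreg
    have hdim : ringKrullDim R = d := by rw [CAlgReg.dim_eq_spanFinrank, hd]
    refine QRegLib.isQuasiRegular_of_isWeaklyRegular d f
      (CAlgReg.isRegular_generators hdim _ (by simp) ?_).toIsWeaklyRegular
    rw [← hspan, Ideal.ofList]
    congr 1
    ext x
    simp [List.mem_ofFn]

end Local

end Groth.Agent.SymGr
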