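import Groth.Agent.SymGr.Relative
import Groth.Agent.SymGr.Local
import Groth.Agent.PBasis.Separable
import Groth.Agent.GeomRed.Alg
import Mathlib

/-! Formal smoothness of local algebras over a field. -/

set_option autoImplicit false

namespace Groth.Agent.SymGr

universe u

open TensorProduct IsLocalRing

/-- Over a perfect field every extension is formally smooth. -/
theorem formallySmooth_of_perfect {Λ K : Type u} [Field Λ] [PerfectField Λ] [Field K] [Algebra Λ K] :
    Algebra.FormallySmooth Λ K := by
  rw [Groth.Agent.PBasis.formallySmooth_iff_isGeometricallyReduced, Algebra.isGeometricallyReduced_field_iff]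
  exact Groth.Agent.GeomRed.isReduced_baseChange_algebraic _ (AlgebraicClosure Λ)

/-- A perfect prime field. -/
theorem exists_prime_field (k : Type u) [Field k] :
    ∃ (Λ : Type u) (_ : Field Λ) (_ : PerfectField Λ) (_ : Algebra Λ k),
      Algebra.FormallyUnramified ℤ Λ := by
  rcases CharP.exists' k with h0 | ⟨p, hp, hk⟩
  · haveI := h0
    letI : Field (ULift.{u} ℚ) := ULift.field
    haveI : CharZero (ULift.{u} ℚ) := charZero_of_injective_ringHom
      (f := (ULift.ringEquiv.symm : ℚ ≃+* ULift.{u} ℚ).toRingHom) (RingEquiv.injective _)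
    letI : Algebra (ULift.{u} ℚ) k :=
      ((algebraMap ℚ k).comp (ULift.ringEquiv : ULift.{u} ℚ ≃+* ℚ).toRingHom).toAlgebra
    refine ⟨ULift.{u} ℚ, inferInstance, inferInstance, inferInstance, ?_⟩
    haveI : Algebra.FormallyUnramified ℤ ℚ := Algebra.FormallyUnramified.of_isLocalization (nonZeroDivisors ℤ)
    exact Algebra.FormallyUnramified.of_equiv (RingEquiv.toIntAlgEquiv (ULift.ringEquiv.symm : ℚ ≃+* ULift.{u} ℚ))
  · haveI := hk
    letI : Field (ULift.{u} (ZMod p)) := ULift.field
    haveI : Finite (ULift.{u} (ZMod p)) := inferInstance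
    letI : Algebra (ULift.{u} (ZMod p)) k :=
      ((ZMod.castHom (dvd_refl p) k).comp (ULift.ringEquiv : ULift.{u} (ZMod p) ≃+* ZMod p).toRingHom).toAlgebra
    refine ⟨ULift.{u} (ZMod p), inferInstance, inferInstance, inferInstance, ?_⟩
    refine Algebra.FormallyUnramified.of_surjective (Algebra.ofId ℤ (ULift.{u} (ZMod p))) fun x => ?_
    obtain ⟨n, hn⟩ := ZMod.intCast_surjective x.down
    exact ⟨n, by
      show algebraMap ℤ (ULift.{u} (ZMod p)) n = x
      rw [eq_intCast]
      apply ULift.ext
      rw [← hn]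
      simp⟩

/-- Absolute differentials and differentials over an unramified base ring agree. -/
theorem map_bijective (Λ A : Type u) [CommRing Λ] [CommRing A] [Algebra Λ A]
    [Algebra.FormallyUnramified ℤ Λ] :
    Function.Bijective (KaehlerDifferential.map ℤ Λ A A) := by
  refine ⟨?_, KaehlerDifferential.map_surjective ℤ Λ A⟩
  rw [← LinearMap.ker_eq_bot, ← KaehlerDifferential.range_mapBaseChange, LinearMap.range_eq_bot]
  refine LinearMap.ext fun x => ?_
  induction x using TensorProduct.induction_on with
  | zero => simp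
  | add x y hx hy => rw [map_add, hx, hy]; simp
  | tmul a ω => rw [Subsingleton.elim ω 0, TensorProduct.tmul_zero, map_zero]; rfl

/-- Injectivity after base change does not depend on the absolute base. -/
theorem injective_iff_of_unramified (Λ k A : Type u) [CommRing Λ] [CommRing k] [CommRing A]
    [Algebra k A] [Algebra Λ k] [Algebra Λ A] [IsScalarTower Λ k A] [Algebra.FormallyUnramified ℤ Λ]
    (J : Ideal A) :
    Function.Injective ((KaehlerDifferential.mapBaseChange ℤ k A).lTensor (A ⧸ J)) ↔
      Function.Injective (iota Λ k J) := by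
  let e1 : A ⊗[k] Ω[k⁄ℤ] ≃ₗ[A] A ⊗[k] Ω[k⁄Λ] :=
    (LinearEquiv.ofBijective _ (map_bijective Λ k)).baseChange k A
  let e2 : Ω[A⁄ℤ] ≃ₗ[A] Ω[A⁄Λ] := LinearEquiv.ofBijective _ (map_bijective Λ A)
  have hcomm : (KaehlerDifferential.mapBaseChange Λ k A) ∘ₗ e1.toLinearMap =
      e2.toLinearMap ∘ₗ KaehlerDifferential.mapBaseChange ℤ k A := by
    refine LinearMap.ext fun x => ?_
    induction x using TensorProduct.induction_on with
    | zero => simp
    | add x y hx hy => rw [map_add, map_add, hx, hy]
    | tmul a ω =>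
      have h1 : ω ∈ Submodule.span k (Set.range (KaehlerDifferential.D ℤ k)) := by
        rw [KaehlerDifferential.span_range_derivation]; trivial
      induction h1 using Submodule.span_induction generalizing a with
      | mem w hw =>
        obtain ⟨b, rfl⟩ := hw
        simp [e1, e2, KaehlerDifferential.mapBaseChange_tmul, KaehlerDifferential.map_D]
      | zero => simp
      | add v w _ _ hv hw => rw [TensorProduct.tmul_add, map_add, map_add, hv, hw]
      | smul c w _ hw => rw [← TensorProduct.smul_tmul]; exact hw (c • a)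
  have h2 : ∀ x, iota Λ k J ((e1.toLinearMap).lTensor (A ⧸ J) x) =
      e2.toLinearMap.lTensor (A ⧸ J) ((KaehlerDifferential.mapBaseChange ℤ k A).lTensor (A ⧸ J) x) := fun x => by
    rw [iota_eq, ← LinearMap.comp_apply, ← LinearMap.comp_apply, ← LinearMap.lTensor_comp,
      ← LinearMap.lTensor_comp, hcomm]
  have hb1 : Function.Bijective (e1.toLinearMap.lTensor (A ⧸ J)) := (e1.lTensor (A ⧸ J)).bijective
  have hb2 : Function.Bijective (e2.toLinearMap.lTensor (A ⧸ J)) := (e2.lTensor (A ⧸ J)).bijective
  constructor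
  · intro h x y hxy
    obtain ⟨x, rfl⟩ := hb1.2 x
    obtain ⟨y, rfl⟩ := hb1.2 y
    rw [h2, h2] at hxy
    exact congrArg _ (h (hb2.1 hxy))
  · intro h x y hxy
    refine hb1.1 (h ?_)
    rw [h2, h2, hxy]

/-- Formal smoothness over a field of a local algebra. -/
theorem isAdicFormallySmooth_field_iff {k A : Type u} [Field k] [CommRing A] [IsLocalRing A] [Algebra k A] :
    CAlgX.IsAdicFormallySmooth k A (maximalIdeal A) ↔
      (PP16.SymGrBijective A (maximalIdeal A) ∧
        Function.Injective ((KaehlerDifferential.mapBaseChange ℤ k A).lTensor (ResidueField A))) := by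
  obtain ⟨Λ, _, _, _, hu⟩ := exists_prime_field k
  haveI := hu
  letI : Algebra Λ A := ((algebraMap k A).comp (algebraMap Λ k)).toAlgebra
  haveI : IsScalarTower Λ k A := IsScalarTower.of_algebraMap_eq' rfl
  letI : Field (A ⧸ maximalIdeal A) := Ideal.Quotient.field _
  haveI : Algebra.FormallySmooth Λ k := formallySmooth_of_perfect
  haveI : Algebra.FormallySmooth Λ (A ⧸ maximalIdeal A) := formallySmooth_of_perfect
  letI : Algebra Λ (SymmetricAlgebra (A ⧸ maximalIdeal A) (maximalIdeal A).Cotangent) :=
    ((algebraMap (A ⧸ maximalIdeal A) (SymmetricAlgebra (A ⧸ maximalIdeal A) (maximalIdeal A).Cotangent)).comp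
      (algebraMap Λ (A ⧸ maximalIdeal A))).toAlgebra
  haveI : IsScalarTower Λ (A ⧸ maximalIdeal A)
      (SymmetricAlgebra (A ⧸ maximalIdeal A) (maximalIdeal A).Cotangent) :=
    IsScalarTower.of_algebraMap_eq' rfl
  refine Iff.trans ?_ (and_congr_right fun _ => (injective_iff_of_unramified Λ k A (maximalIdeal A)).symm)
  constructor
  · intro h
    obtain ⟨r, hr⟩ := exists_retraction_iota Λ h
    exact ⟨(isAdicFormallySmooth_iff.1 (trans_of_formallySmooth Λ h)).2,
      fun x y hxy => (LinearMap.congr_fun hr x).symm.trans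
        ((congrArg r hxy).trans (LinearMap.congr_fun hr y))⟩
  · rintro ⟨h1, h2⟩
    haveI : Module.Projective (A ⧸ maximalIdeal A) (maximalIdeal A).Cotangent := Module.Projective.of_free
    haveI : Module.Projective (A ⧸ maximalIdeal A) ((A ⧸ maximalIdeal A) ⊗[A] Ω[A⁄k]) :=
      Module.Projective.of_free
    obtain ⟨r, hr⟩ := exists_retraction_of_injective (A := k) (J := maximalIdeal A) Λ h2
    exact isAdicFormallySmooth_of_retraction Λ (isAdicFormallySmooth_iff.2 ⟨inferInstance, h1⟩) r hr

/-- The Noetherian case. -/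
theorem isAdicFormallySmooth_field_iff_regular {k A : Type u} [Field k] [CommRing A] [IsLocalRing A]
    [IsNoetherianRing A] [Algebra k A] :
    CAlgX.IsAdicFormallySmooth k A (maximalIdeal A) ↔
      (IsRegularLocalRing A ∧
        Function.Injective ((KaehlerDifferential.mapBaseChange ℤ k A).lTensor (ResidueField A))) := by
  obtain ⟨Λ, _, _, _, _⟩ := exists_prime_field k
  letI : Algebra Λ A := ((algebraMap k A).comp (algebraMap Λ k)).toAlgebra
  letI : Field (A ⧸ maximalIdeal A) := Ideal.Quotient.field _
  haveI : Algebra.FormallySmooth Λ (A ⧸ maximalIdeal A) := formallySmooth_of_perfect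
  rw [isAdicFormallySmooth_field_iff, symGrBijective_maximalIdeal_iff (A := Λ)]

end Groth.Agent.SymGr
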