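import Groth.Agent.SymGr.CharZeroFibre
import Groth.Agent.MvPSLib.Basic
import Groth.Agent.FSAdic.PowerSeries
import Groth.Agent.DimTheory.Algebra
import Groth.Agent.LocDuality.Propagate
import Groth.Agent.LocCohBasic.FaltingsRegular
import Groth.Agent.CAlgJac.Basic
import Mathlib

/-! Nagata's Jacobian criterion for quotients of power series rings. -/

set_option autoImplicit false

namespace Groth.Agent.SymGr

universe u

open TensorProduct IsLocalRing

/-- A regular local algebra with formally smooth residue field is formally smooth. -/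
theorem isAdicFormallySmooth_of_regular_residue {k A : Type u} [Field k] [CommRing A]
    [IsRegularLocalRing A] [Algebra k A] [Algebra.FormallySmooth k (ResidueField A)] :
    CAlgX.IsAdicFormallySmooth k A (maximalIdeal A) := by
  refine isAdicFormallySmooth_field_iff_regular.2 ⟨inferInstance, ?_⟩
  let K := ResidueField A
  have hinj : Function.Injective (KaehlerDifferential.mapBaseChange ℤ k K) :=
    LinearMap.ker_eq_bot.1 (by
      rw [← LinearMap.range_eq_bot.2 (Subsingleton.elim (Algebra.H1Cotangent.δ ℤ k K) 0)]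
      exact (Algebra.H1Cotangent.exact_δ_mapBaseChange ℤ k K).linearMap_ker_eq)
  have hmap : ∀ w : Ω[k⁄ℤ],
      KaehlerDifferential.map ℤ ℤ A K (KaehlerDifferential.map ℤ ℤ k A w) =
        KaehlerDifferential.map ℤ ℤ k K w := by
    intro w
    have hw : w ∈ Submodule.span k (Set.range (KaehlerDifferential.D ℤ k)) := by
      rw [KaehlerDifferential.span_range_derivation]; trivial
    induction hw using Submodule.span_induction with
    | mem x hx =>
      obtain ⟨c, rfl⟩ := hx
      simp only [KaehlerDifferential.map_D]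
      rw [← IsScalarTower.algebraMap_apply]
    | zero => simp
    | add x y _ _ hx hy => simp [hx, hy]
    | smul c x _ hx =>
      rw [map_smul, ← IsScalarTower.algebraMap_smul A c (KaehlerDifferential.map ℤ ℤ k A x), map_smul, hx,
        map_smul, IsScalarTower.algebraMap_smul A c]
  have key : ∀ z : ResidueField A ⊗[A] (A ⊗[k] Ω[k⁄ℤ]),
      KaehlerDifferential.mapBaseChange ℤ A K ((KaehlerDifferential.mapBaseChange ℤ k A).lTensor K z) =
        KaehlerDifferential.mapBaseChange ℤ k K
          (TensorProduct.AlgebraTensorModule.cancelBaseChange k A K K (Ω[k⁄ℤ]) z) := by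
    intro z
    induction z using TensorProduct.induction_on with
    | zero => simp
    | add x y hx hy => simp only [map_add, hx, hy]
    | tmul x y =>
      induction y using TensorProduct.induction_on with
      | zero => simp
      | add a b ha hb => simp only [TensorProduct.tmul_add, map_add, ha, hb]
      | tmul a w =>
        rw [LinearMap.lTensor_tmul, KaehlerDifferential.mapBaseChange_tmul,
          TensorProduct.AlgebraTensorModule.cancelBaseChange_tmul, KaehlerDifferential.mapBaseChange_tmul,
          KaehlerDifferential.mapBaseChange_tmul, map_smul, hmap, ← IsScalarTower.algebraMap_smul K a,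
          smul_smul, Algebra.smul_def a x, mul_comm]
  intro z z' hzz
  exact (TensorProduct.AlgebraTensorModule.cancelBaseChange k A K K (Ω[k⁄ℤ])).injective
    (hinj (by rw [← key, ← key, hzz]))

/-- A derivation of power series killing the variables vanishes. -/
theorem mvPowerSeries_derivation_eq_zero {k : Type u} [Field k] {s : ℕ} {M : Type u} [AddCommGroup M]
    [Module (MvPowerSeries (Fin s) k) M] [Module k M] [IsScalarTower k (MvPowerSeries (Fin s) k) M]
    [IsHausdorff (maximalIdeal (MvPowerSeries (Fin s) k)) M]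
    (D : Derivation k (MvPowerSeries (Fin s) k) M) (hD : ∀ i, D (MvPowerSeries.X i) = 0) : D = 0 := by
  let B := MvPowerSeries (Fin s) k
  have hm : maximalIdeal B = Groth.Agent.FSAdic.augIdeal k s :=
    (IsLocalRing.eq_maximalIdeal (RingHom.ker_isMaximal_of_surjective _ fun c =>
      ⟨MvPowerSeries.C c, MvPowerSeries.constantCoeff_C c⟩)).symm
  have hX : ∀ a : B, ∃ q : Fin s → B, a = algebraMap k B (MvPowerSeries.constantCoeff a) +
      ∑ i, q i * MvPowerSeries.X i := fun a => by
    have h1 : a - MvPowerSeries.C (MvPowerSeries.constantCoeff a) ∈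
        Ideal.span (Set.range (MvPowerSeries.X : Fin s → B)) := by
      rw [← pow_one (Ideal.span _)]
      refine Groth.Agent.FSAdic.mem_spanX_pow fun d hd => ?_
      obtain rfl : d = 0 := (Finsupp.degree_eq_zero_iff d).1 (by omega)
      simp
    obtain ⟨q, hq⟩ := (Ideal.mem_span_range_iff_exists_fun).1 h1
    exact ⟨q, by rw [hq, MvPowerSeries.algebraMap_apply, Algebra.algebraMap_self, RingHom.id_apply,
      add_sub_cancel]⟩
  have key : ∀ (N : ℕ) (a : B), D a ∈ (maximalIdeal B ^ N • ⊤ : Submodule B M) := by
    intro N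
    induction N with
    | zero => intro a; simp
    | succ N ih =>
      intro a
      obtain ⟨q, hq⟩ := hX a
      rw [hq, map_add, Derivation.map_algebraMap, zero_add, map_sum]
      refine Submodule.sum_mem _ fun i _ => ?_
      rw [Derivation.leibniz, hD, smul_zero, zero_add, pow_succ', Submodule.mul_smul]
      refine Submodule.smul_mem_smul ?_ (ih _)
      rw [hm]; exact Groth.Agent.FSAdic.X_mem_augIdeal i
  ext a
  exact IsHausdorff.haus (I := maximalIdeal B) inferInstance _ fun N => SModEq.zero.2 (key N a)

variable {k : Type u} [Field k] {r : ℕ}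

/-- The gradient modulo a prime, in the fraction field. -/
noncomputable def grad (p : Ideal (MvPowerSeries (Fin r) k)) (L : Type u) [Field L]
    [Algebra (MvPowerSeries (Fin r) k ⧸ p) L] (f : MvPowerSeries (Fin r) k) : Fin r → L :=
  fun i => algebraMap (MvPowerSeries (Fin r) k ⧸ p) L (Ideal.Quotient.mk p (MvPowerSeries.pderiv k i f))

variable (p : Ideal (MvPowerSeries (Fin r) k)) {L : Type u} [Field L]
  [Algebra (MvPowerSeries (Fin r) k ⧸ p) L]

theorem grad_add (f g : MvPowerSeries (Fin r) k) : grad p L (f + g) = grad p L f + grad p L g := by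
  funext i; simp [grad]

theorem grad_mul {a f : MvPowerSeries (Fin r) k} (hf : f ∈ p) :
    grad p L (a * f) = algebraMap _ L (Ideal.Quotient.mk p a) • grad p L f := by
  funext i
  simp [grad, Derivation.leibniz, Ideal.Quotient.eq_zero_iff_mem.2 hf]

theorem grad_eq_zero {f : MvPowerSeries (Fin r) k} (hf : f ∈ p ^ 2) : grad p L f = 0 := by
  rw [pow_two] at hf
  induction hf using Submodule.mul_induction_on' with
  | mem_mul_mem a ha b hb => rw [grad_mul p hb, Ideal.Quotient.eq_zero_iff_mem.2 ha, map_zero, zero_smul]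
  | add x _ y _ hx hy => rw [grad_add, hx, hy, add_zero]

theorem grad_sum {ι : Type*} (t : Finset ι) (a f : ι → MvPowerSeries (Fin r) k) (hf : ∀ i, f i ∈ p) :
    grad p L (∑ i ∈ t, a i * f i) = ∑ i ∈ t, algebraMap _ L (Ideal.Quotient.mk p (a i)) • grad p L (f i) := by
  classical
  induction t using Finset.induction_on with
  | empty => funext i; simp [grad]
  | insert x t hx ih => rw [Finset.sum_insert hx, Finset.sum_insert hx, grad_add, grad_mul p (hf x), ih]

variable [IsFractionRing (MvPowerSeries (Fin r) k ⧸ p) L]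

/-- The rank of the Jacobian matrix of a prime. -/
theorem le_finrank_span_grad [p.IsPrime] {s : ℕ} [Algebra (MvPowerSeries (Fin s) k) (MvPowerSeries (Fin r) k ⧸ p)]
    [IsScalarTower k (MvPowerSeries (Fin s) k) (MvPowerSeries (Fin r) k ⧸ p)]
    [Module.Finite (MvPowerSeries (Fin s) k) (MvPowerSeries (Fin r) k ⧸ p)]
    {L' : Type u} [Field L'] [Algebra (MvPowerSeries (Fin s) k) L'] [IsFractionRing (MvPowerSeries (Fin s) k) L']
    [Algebra L' L] [Algebra (MvPowerSeries (Fin s) k) L]
    [IsScalarTower (MvPowerSeries (Fin s) k) (MvPowerSeries (Fin r) k ⧸ p) L]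
    [IsScalarTower (MvPowerSeries (Fin s) k) L' L] [Algebra.IsSeparable L' L] :
    r ≤ Module.finrank L (Submodule.span L (grad p L '' p)) + s := by
  classical
  let S := Submodule.span L (grad p L '' p)
  let dot : (Fin r → L) →ₗ[L] Module.Dual L S :=
    { toFun := fun v => (Fintype.linearCombination L v).comp S.subtype
      map_add' := fun v w => LinearMap.ext fun x => by
        simp [Fintype.linearCombination_apply, mul_add, Finset.sum_add_distrib]
      map_smul' := fun c v => LinearMap.ext fun x => by
        simp [Fintype.linearCombination_apply, Finset.mul_sum, mul_left_comm] }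
  -- lifts of the variables of the small power series ring
  choose x hx using fun j : Fin s => Ideal.Quotient.mk_surjective
    (algebraMap (MvPowerSeries (Fin s) k) (MvPowerSeries (Fin r) k ⧸ p) (MvPowerSeries.X j))
  let Φ : (LinearMap.ker dot) →ₗ[L] (Fin s → L) :=
    (LinearMap.pi fun j => Fintype.linearCombination L (grad p L (x j))).comp (LinearMap.ker dot).subtype
  have hΦ : Function.Injective Φ := by
    rw [← LinearMap.ker_eq_bot, eq_bot_iff]
    rintro ⟨v, hv⟩ hv0
    rw [LinearMap.mem_ker] at hv hv0
    rw [Submodule.mem_bot]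
    -- clear denominators
    obtain ⟨⟨c, hc⟩, hca⟩ := IsLocalization.exist_integer_multiples_of_finite
      (nonZeroDivisors (MvPowerSeries (Fin r) k ⧸ p)) v
    choose b hb using hca
    choose a ha using fun i => Ideal.Quotient.mk_surjective (b i)
    let D : Derivation k (MvPowerSeries (Fin r) k) (MvPowerSeries (Fin r) k) :=
      ∑ i, a i • MvPowerSeries.pderiv k i
    have hDf : ∀ f, algebraMap _ L (Ideal.Quotient.mk p (D f)) =
        algebraMap _ L c * ∑ i, v i * grad p L f i := fun f => by
      have h1 : D f = ∑ i, a i * MvPowerSeries.pderiv k i f := by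
        have key : ∀ T : Finset (Fin r), (∑ i ∈ T, a i • MvPowerSeries.pderiv k i) f =
            ∑ i ∈ T, a i * MvPowerSeries.pderiv k i f := fun T => by
          induction T using Finset.induction_on with
          | empty => simp
          | insert x T hx ih => rw [Finset.sum_insert hx, Finset.sum_insert hx, Derivation.add_apply, ih,
              Derivation.smul_apply, smul_eq_mul]
        exact key Finset.univ
      rw [h1, map_sum, map_sum, Finset.mul_sum]
      refine Finset.sum_congr rfl fun i _ => ?_
      rw [map_mul, map_mul, ha i, hb i, Algebra.smul_def, mul_assoc]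
      rfl
    have hR : Function.Injective (algebraMap (MvPowerSeries (Fin r) k ⧸ p) L) := IsFractionRing.injective _ _
    have hDp : ∀ f, Ideal.Quotient.mkₐ k p f = 0 → Ideal.Quotient.mkₐ k p (D f) = 0 := fun f hf => hR (by
      rw [Ideal.Quotient.mkₐ_eq_mk, hDf, map_zero]
      have h2 := LinearMap.congr_fun hv ⟨grad p L f, Submodule.subset_span ⟨f, Ideal.Quotient.eq_zero_iff_mem.1 hf, rfl⟩⟩
      simp only [dot, LinearMap.coe_mk, AddHom.coe_mk, LinearMap.comp_apply, Submodule.coe_subtype,
        Fintype.linearCombination_apply, LinearMap.zero_apply, smul_eq_mul] at h2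
      rw [show ∑ i, v i * grad p L f i = 0 by simpa [mul_comm] using h2, mul_zero])
    let δ : Derivation k (MvPowerSeries (Fin r) k ⧸ p) (MvPowerSeries (Fin r) k ⧸ p) :=
      Derivation.liftOfSurjective (Ideal.Quotient.mkₐ_surjective k p) hDp
    have hδ : ∀ f, δ (Ideal.Quotient.mk p f) = Ideal.Quotient.mk p (D f) := fun f =>
      Derivation.liftOfSurjective_apply (Ideal.Quotient.mkₐ_surjective k p) hDp f
    haveI : IsAdicComplete (maximalIdeal (MvPowerSeries (Fin s) k)) (MvPowerSeries (Fin s) k) := by
      rw [Groth.Agent.MvPSLib.maximalIdeal_eq]; infer_instance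
    haveI : IsHausdorff (maximalIdeal (MvPowerSeries (Fin s) k)) (MvPowerSeries (Fin r) k ⧸ p) :=
      CAlgH.Decay.isHausdorff_of_finite _ _
    have hδs : δ.compAlgebraMap (MvPowerSeries (Fin s) k) = 0 := mvPowerSeries_derivation_eq_zero _ fun j => by
      show δ (algebraMap _ _ (MvPowerSeries.X j)) = 0
      refine hR ?_
      rw [← hx j, hδ, hDf, map_zero]
      have h2 := congrFun hv0 j
      simp only [Φ, LinearMap.comp_apply, Submodule.coe_subtype, LinearMap.pi_apply,
        Fintype.linearCombination_apply, smul_eq_mul, Pi.zero_apply] at h2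
      rw [h2, mul_zero]
    have hδs' : ∀ b, δ (algebraMap (MvPowerSeries (Fin s) k) _ b) = 0 := fun b =>
      LinearMap.congr_fun (congrArg Derivation.toLinearMap hδs) b
    let δ' : Derivation (MvPowerSeries (Fin s) k) (MvPowerSeries (Fin r) k ⧸ p) (MvPowerSeries (Fin r) k ⧸ p) :=
      Derivation.mk'
        { toFun := δ
          map_add' := map_add δ
          map_smul' := fun b y => by
            rw [Algebra.smul_def, Derivation.leibniz, hδs', smul_zero, add_zero, RingHom.id_apply,
              Algebra.smul_def, smul_eq_mul] }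
        fun y z => δ.leibniz y z
    have hδ0 : ∀ y, δ y = 0 := fun y => by
      let α := algebraMap _ L y
      let g := minpoly L' α
      have hint : IsIntegral L' α := (Algebra.IsSeparable.isSeparable L' α).isIntegral
      let G := IsLocalization.integerNormalization (nonZeroDivisors (MvPowerSeries (Fin s) k)) g
      obtain ⟨⟨e, he⟩, hG⟩ := IsLocalization.integerNormalization_map_to_map
        (nonZeroDivisors (MvPowerSeries (Fin s) k)) g
      replace hG := hG.trans (IsScalarTower.algebraMap_smul L' e g).symm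
      have he0 : algebraMap (MvPowerSeries (Fin s) k) L e ≠ 0 := by
        rw [IsScalarTower.algebraMap_apply _ L' L, map_ne_zero_iff _ (algebraMap L' L).injective,
          map_ne_zero_iff _ (IsFractionRing.injective _ _)]
        exact nonZeroDivisors.ne_zero he
      have hev : ∀ (P : Polynomial (MvPowerSeries (Fin s) k)),
          algebraMap _ L (Polynomial.aeval y P) = Polynomial.aeval α (P.map (algebraMap _ L')) := fun P => by
        rw [Polynomial.aeval_map_algebraMap, ← Polynomial.aeval_algebraMap_apply]
      have h0 : Polynomial.aeval y G = 0 := hR (by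
        rw [hev, hG, map_zero, map_smul, minpoly.aeval, smul_zero])
      have h1 := congrArg δ' h0
      rw [Derivation.map_aeval, map_zero, smul_eq_mul, mul_eq_zero] at h1
      refine (h1.resolve_left fun h2 => ?_ : δ' y = 0)
      have h3 := congrArg (algebraMap _ L) h2
      rw [hev, map_zero, ← Polynomial.derivative_map, hG,
        Polynomial.derivative_smul, map_smul,
        Algebra.smul_def, ← IsScalarTower.algebraMap_apply, mul_eq_zero] at h3
      exact (Algebra.IsSeparable.isSeparable L' α).aeval_derivative_ne_zero (minpoly.aeval L' α)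
        (h3.resolve_left he0)
    refine Subtype.ext (funext fun i => ?_)
    show v i = 0
    have h4 := hDf (MvPowerSeries.X i)
    rw [← hδ, hδ0, map_zero, Finset.sum_eq_single i, eq_comm, mul_eq_zero] at h4
    · rcases h4 with h4 | h4
      · exact absurd h4 ((map_ne_zero_iff _ hR).2 (nonZeroDivisors.ne_zero hc))
      · simpa [grad] using h4
    · intro j _ hj
      simp [grad, MvPowerSeries.pderiv_X_of_ne hj.symm]
    · simp
  have h1 : Module.finrank L (LinearMap.ker dot) ≤ s := by
    simpa using LinearMap.finrank_le_finrank_of_injective hΦ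
  have h2 := LinearMap.finrank_range_add_finrank_ker dot
  have h3 : Module.finrank L (LinearMap.range dot) ≤ Module.finrank L S :=
    (Submodule.finrank_le _).trans_eq Subspace.dual_finrank_eq
  rw [Module.finrank_fintype_fun_eq_card, Fintype.card_fin] at h2
  show r ≤ Module.finrank L S + s
  omega

/-- Independence of gradients from independence in the cotangent space of the local ring. -/
theorem linearIndependent_grad [p.IsPrime] {s : ℕ} (hs : ringKrullDim (MvPowerSeries (Fin r) k ⧸ p) = s)
    (hr : r ≤ Module.finrank L (Submodule.span L (grad p L '' p)) + s)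
    {m : ℕ} (f : Fin m → MvPowerSeries (Fin r) k) (hf : ∀ i, f i ∈ p)
    (hli : ∀ a : Fin m → MvPowerSeries (Fin r) k,
      algebraMap _ (Localization.AtPrime p) (∑ i, a i * f i) ∈ maximalIdeal (Localization.AtPrime p) ^ 2 →
        ∀ i, a i ∈ p) :
    LinearIndependent L (fun i => grad p L (f i)) := by
  classical
  let A := MvPowerSeries (Fin r) k
  let Ap := Localization.AtPrime p
  haveI : IsRegularRing A := Groth.Agent.RegLocus.isRegularRing_of_regular_local A
  haveI : IsRegularLocalRing Ap := (isRegularRing_iff.1 ‹IsRegularRing A›) p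
  obtain ⟨h, hh⟩ := Groth.Agent.CAlgReg.exists_dim (R := Ap)
  -- the height of `p`
  have hhp : p.height = h := by
    have h1 := IsLocalization.AtPrime.ringKrullDim_eq_height p Ap
    rw [hh] at h1
    exact_mod_cast h1.symm
  have hrs : r = h + s := by
    haveI : IsLocalRing (A ⧸ p) := .of_surjective' _ Ideal.Quotient.mk_surjective
    have h1 := LocDuality.height_eq_add (LocCohBasic.isCohenMacaulayRing_of_isRegularRing (S := A)) p
      (maximalIdeal A) (IsLocalRing.le_maximalIdeal Ideal.IsPrime.ne_top')
    have h2 : ((maximalIdeal A).height : WithBot ℕ∞) = r := by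
      rw [IsLocalRing.maximalIdeal_height_eq_ringKrullDim, Groth.Agent.MvPSLib.ringKrullDim_eq]
    have h3 : (((maximalIdeal A).map (Ideal.Quotient.mk p)).height : WithBot ℕ∞) = s := by
      rw [IsLocalRing.map_maximalIdeal_of_surjective _ Ideal.Quotient.mk_surjective,
        IsLocalRing.maximalIdeal_height_eq_ringKrullDim, hs]
    rw [h1, WithBot.coe_add, h3, hhp] at h2
    exact_mod_cast h2.symm
  have hrank : (maximalIdeal Ap).spanFinrank = h := Groth.Agent.CAlgReg.spanFinrank_eq_of_dim hh
  -- generators of `p` in the local ring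
  obtain ⟨g, hg⟩ : ∃ g : Fin h → Ap, Ideal.span (Set.range g) = maximalIdeal Ap := by
    obtain ⟨U, hU1, hU2⟩ := Submodule.FG.exists_span_set_encard_eq_spanFinrank
      (p := maximalIdeal Ap) (IsNoetherian.noetherian _)
    have hUfin : U.Finite := Set.finite_of_encard_eq_coe hU1
    haveI := hUfin.fintype
    have hc : Fintype.card U = h := by
      rw [← hrank]
      have := hU1
      rw [Set.encard_eq_coe_toFinset_card, Set.toFinset_card] at this
      exact_mod_cast this
    exact ⟨fun i => (((Fintype.equivFinOfCardEq hc).symm i : U) : Ap), by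
      rw [← hU2]
      exact congrArg _ (((Fintype.equivFinOfCardEq hc).symm.surjective.range_comp ((↑) : U → Ap)).trans Subtype.range_coe)⟩
  choose n hn using fun i => IsLocalization.surj p.primeCompl (g i)
  have hnp : ∀ i, (n i).1 ∈ p := fun i => by
    rw [← IsLocalization.AtPrime.to_map_mem_maximal_iff Ap p, ← hn i]
    exact Ideal.mul_mem_right _ _ (hg ▸ Ideal.subset_span (Set.mem_range_self i))
  let G : Fin h → Fin r → L := fun i => grad p L (n i).1
  have hcoef : ∀ y ∈ p, ∃ (t : A) (c : Fin h → A), t ∉ p ∧ t * y = ∑ i, c i * (n i).1 := by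
    intro y hy
    have h1 : algebraMap A Ap y ∈ (Ideal.span (Set.range fun i => (n i).1)).map (algebraMap A Ap) := by
      have h2 : maximalIdeal Ap ≤ (Ideal.span (Set.range fun i => (n i).1)).map (algebraMap A Ap) := by
        rw [← hg, Ideal.span_le]
        rintro _ ⟨i, rfl⟩
        refine (Ideal.mul_unit_mem_iff_mem _ (IsLocalization.map_units Ap (n i).2)).1 ?_
        rw [hn i]
        exact Ideal.mem_map_of_mem _ (Ideal.subset_span (Set.mem_range_self i))
      exact h2 ((IsLocalization.AtPrime.to_map_mem_maximal_iff Ap p y).2 hy)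
    obtain ⟨t, ht, h3⟩ := (IsLocalization.algebraMap_mem_map_algebraMap_iff p.primeCompl Ap _ _).1 h1
    obtain ⟨c, hc⟩ := Ideal.mem_span_range_iff_exists_fun.1 h3
    exact ⟨t, c, ht, hc.symm⟩
  have hG : LinearIndependent L G := by
    refine linearIndependent_iff_card_le_finrank_span.2 ?_
    rw [Fintype.card_fin]
    refine le_trans (by omega) (Submodule.finrank_mono (Submodule.span_le.2 ?_) :
      Module.finrank L (Submodule.span L (grad p L '' p)) ≤ _)
    rintro _ ⟨y, hy, rfl⟩
    obtain ⟨t, c, ht, htc⟩ := hcoef y hy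
    have h4 := congrArg (grad p L) htc
    rw [grad_mul p hy, grad_sum p _ _ _ hnp] at h4
    have ht0 : algebraMap (A ⧸ p) L (Ideal.Quotient.mk p t) ≠ 0 :=
      (map_ne_zero_iff _ (IsFractionRing.injective _ _)).2 fun h5 => ht (Ideal.Quotient.eq_zero_iff_mem.1 h5)
    rw [SetLike.mem_coe, ← Submodule.smul_mem_iff _ ht0, h4]
    exact Submodule.sum_mem _ fun i _ => Submodule.smul_mem _ _ (Submodule.subset_span ⟨i, rfl⟩)
  choose t c ht htc using fun i => hcoef (f i) (hf i)
  rw [Fintype.linearIndependent_iff]
  intro e he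
  -- clear denominators
  obtain ⟨⟨d, hd⟩, hde⟩ := IsLocalization.exist_integer_multiples_of_finite
    (nonZeroDivisors (A ⧸ p)) (fun i => e i / algebraMap (A ⧸ p) L (Ideal.Quotient.mk p (t i)))
  choose b hb using hde
  choose a ha using fun i => Ideal.Quotient.mk_surjective (b i)
  have ht0 : ∀ i, algebraMap (A ⧸ p) L (Ideal.Quotient.mk p (t i)) ≠ 0 := fun i =>
    (map_ne_zero_iff _ (IsFractionRing.injective _ _)).2 fun h5 => ht i (Ideal.Quotient.eq_zero_iff_mem.1 h5)
  have hd0 : algebraMap (A ⧸ p) L d ≠ 0 :=
    (map_ne_zero_iff _ (IsFractionRing.injective _ _)).2 (nonZeroDivisors.ne_zero hd)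
  have hsum : ∀ l, ∑ i, a i * c i l ∈ p := by
    have h6 : ∑ l, algebraMap (A ⧸ p) L (Ideal.Quotient.mk p (∑ i, a i * c i l)) • G l = 0 := by
      have h7 : (algebraMap (A ⧸ p) L d) • ∑ i, e i • grad p L (f i) = 0 := by rw [he, smul_zero]
      rw [← h7, Finset.smul_sum]
      simp only [map_sum, Finset.sum_smul, map_mul]
      rw [Finset.sum_comm]
      refine Finset.sum_congr rfl fun i _ => ?_
      have h4 := congrArg (grad p L) (htc i)
      rw [grad_mul p (hf i), grad_sum p _ _ _ hnp] at h4
      simp only [mul_smul, ← Finset.smul_sum]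
      rw [← h4, smul_smul, smul_smul, ha i]
      congr 1
      rw [hb i, Algebra.smul_def]
      field_simp [ht0 i]
      rfl
    intro l
    have h8 := Fintype.linearIndependent_iff.1 hG _ h6 l
    exact Ideal.Quotient.eq_zero_iff_mem.1 ((map_eq_zero_iff _ (IsFractionRing.injective (A ⧸ p) L)).1 h8)
  have hmem := hli (fun i => a i * t i) (by
    have h9 : ∑ i, a i * t i * f i = ∑ l, (∑ i, a i * c i l) * (n l).1 := by
      simp only [Finset.sum_mul (R := A)]
      rw [Finset.sum_comm]
      exact Finset.sum_congr rfl fun i _ => by rw [mul_assoc, htc i, Finset.mul_sum]; simp [mul_assoc]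
    rw [h9, map_sum, pow_two]
    refine Ideal.sum_mem _ fun l _ => ?_
    rw [map_mul]
    exact Ideal.mul_mem_mul ((IsLocalization.AtPrime.to_map_mem_maximal_iff Ap p _).2 (hsum l))
      ((IsLocalization.AtPrime.to_map_mem_maximal_iff Ap p _).2 (hnp l)))
  intro i
  have h10 : algebraMap (A ⧸ p) L (b i) = 0 := by
    rw [← ha i, Ideal.Quotient.eq_zero_iff_mem.2 (((‹p.IsPrime›).mem_or_mem (hmem i)).resolve_right (ht i)), map_zero]
  rw [hb i, Algebra.smul_def, mul_eq_zero] at h10
  exact (div_eq_zero_iff.1 (h10.resolve_left hd0)).resolve_right (ht0 i)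

/-- Localisation of a quotient. -/
theorem nonempty_localization_quotient_equiv {A : Type u} [CommRing A] (q P : Ideal A) [P.IsPrime] (h : q ≤ P)
    [(P.map (Ideal.Quotient.mk q)).IsPrime] :
    Nonempty ((Localization.AtPrime P ⧸ q.map (algebraMap A (Localization.AtPrime P))) ≃+*
      Localization.AtPrime (P.map (Ideal.Quotient.mk q))) := by
  have hS : Algebra.algebraMapSubmonoid (A ⧸ q) P.primeCompl = (P.map (Ideal.Quotient.mk q)).primeCompl := by
    ext z
    constructor
    · rintro ⟨y, hy, rfl⟩ hz
      exact hy ((Ideal.mem_quotient_iff_mem h).1 hz)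
    · intro hz
      obtain ⟨y, rfl⟩ := Ideal.Quotient.mk_surjective z
      exact ⟨y, fun hy => hz ((Ideal.mem_quotient_iff_mem h).2 hy), rfl⟩
  have h' : IsLocalization (Algebra.algebraMapSubmonoid (A ⧸ q) P.primeCompl)
      (Localization.AtPrime P ⧸ q.map (algebraMap A (Localization.AtPrime P))) := inferInstance
  rw [hS] at h'
  exact ⟨(IsLocalization.algEquiv (P.map (Ideal.Quotient.mk q)).primeCompl _ _).toRingEquiv⟩

/-- Generators with independent classes of an ideal with regular quotient. -/
theorem exists_generators_of_regular_quotient {A S : Type u} [CommRing A] [CommRing S] [IsRegularLocalRing S]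
    [Algebra A S] (q : Ideal A) (hle : q.map (algebraMap A S) ≤ maximalIdeal S)
    (hreg : IsRegularLocalRing (S ⧸ q.map (algebraMap A S))) :
    ∃ (m : ℕ) (f : Fin m → A), (∀ i, f i ∈ q) ∧
      q.map (algebraMap A S) = Ideal.span (Set.range fun i => algebraMap A S (f i)) ∧
      ∀ a : Fin m → S, ∑ i, a i * algebraMap A S (f i) ∈ maximalIdeal S ^ 2 → ∀ i, a i ∈ maximalIdeal S := by
  classical
  let W : Set (CotangentSpace S) := Set.range fun x : q =>
    (maximalIdeal S).toCotangent ⟨algebraMap A S x, hle (Ideal.mem_map_of_mem _ x.2)⟩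
  obtain ⟨v, hvW, hspan, hvind⟩ := exists_linearIndependent (ResidueField S) W
  haveI := hvind.setFinite.fintype
  choose g hg using fun x : v => hvW x.2
  let e := (Fintype.equivFin v).symm
  refine ⟨Fintype.card v, fun i => (g (e i) : A), fun i => (g (e i)).2, ?_, ?_⟩
  · refine le_antisymm ?_ (Ideal.span_le.2 (by
      rintro _ ⟨i, rfl⟩; exact Ideal.mem_map_of_mem _ (g (e i)).2))
    let I := q.map (algebraMap A S)
    let J := Ideal.span (Set.range fun i => algebraMap A S (g (e i) : A))
    have hJI : J ≤ I := Ideal.span_le.2 (by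
      rintro _ ⟨i, rfl⟩; exact Ideal.mem_map_of_mem _ (g (e i)).2)
    have hIJ : I ≤ J ⊔ maximalIdeal S ^ 2 := Ideal.map_le_iff_le_comap.2 fun y hy => by
      have h1 : (maximalIdeal S).toCotangent ⟨algebraMap A S y, hle (Ideal.mem_map_of_mem _ hy)⟩ ∈
          Submodule.span (ResidueField S) v := hspan ▸ Submodule.subset_span ⟨⟨y, hy⟩, rfl⟩
      have h2 : (maximalIdeal S).toCotangent ⟨algebraMap A S y, hle (Ideal.mem_map_of_mem _ hy)⟩ ∈
          Submodule.span S v := by
        rw [← Submodule.restrictScalars_span S (ResidueField S) residue_surjective] at *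
        exact h1
      have hv : v = (maximalIdeal S).toCotangent ''
          {z : maximalIdeal S | (z : S) ∈ J} ∩ v := by
        refine (Set.inter_eq_right.2 fun z hz => ?_).symm
        refine ⟨⟨algebraMap A S (g ⟨z, hz⟩ : A), hle (Ideal.mem_map_of_mem _ (g ⟨z, hz⟩).2)⟩, ?_, hg ⟨z, hz⟩⟩
        exact Ideal.subset_span ⟨e.symm ⟨z, hz⟩, by simp⟩
      have h3 := Submodule.span_mono (R := S) (hv.le.trans Set.inter_subset_left) h2
      rw [← Submodule.map_span, Submodule.mem_map] at h3
      obtain ⟨z, hz, hzy⟩ := h3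
      have h4 : (z : S) ∈ J := (Submodule.span_le (p := Submodule.comap (maximalIdeal S).subtype J)).2 (fun w hw => hw) hz
      have h5 := (Ideal.toCotangent_eq (I := maximalIdeal S)).1 hzy.symm
      exact Submodule.mem_sup.2 ⟨_, h4, _, h5, add_sub_cancel _ _⟩
    have hint := (Groth.Agent.CAlgJac.isRegularLocalRing_quotient_iff I hle).1 hreg
    refine Submodule.le_of_le_smul_of_le_jacobson_bot (I := maximalIdeal S) (IsNoetherian.noetherian _)
      (IsLocalRing.jacobson_eq_maximalIdeal ⊥ bot_ne_top).ge fun y hy => ?_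
    obtain ⟨z, hz, w, hw, rfl⟩ := Submodule.mem_sup.1 (hIJ hy)
    refine Submodule.add_mem_sup hz (hint ⟨?_, hw⟩)
    simpa using sub_mem hy (hJI hz)
  · intro a ha i
    let w : Fin (Fintype.card v) → maximalIdeal S := fun i =>
      ⟨algebraMap A S (g (e i) : A), hle (Ideal.mem_map_of_mem _ (g (e i)).2)⟩
    have hw : LinearIndependent (ResidueField S) fun i => (maximalIdeal S).toCotangent (w i) := by
      convert hvind.comp e e.injective using 1
      exact funext fun i => hg (e i)
    have h0 : (maximalIdeal S).toCotangent (∑ i, a i • w i) = 0 := by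
      rw [Ideal.toCotangent_eq_zero]
      simpa [w] using ha
    rw [map_sum] at h0
    exact (residue_eq_zero_iff _).1 (Fintype.linearIndependent_iff.1 hw (fun i => residue S (a i)) (by
      rw [← h0]
      refine Finset.sum_congr rfl fun i _ => ?_
      rw [map_smul]
      exact IsScalarTower.algebraMap_smul (ResidueField S) (a i) _) i)

end Groth.Agent.SymGr

namespace Groth.Agent.SymGr

universe u

open IsLocalRing

theorem derivation_apply_mem_of_mem_sq {k A : Type u} [CommRing k] [CommRing A] [Algebra k A] (p : Ideal A)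
    (D : Derivation k A A) {x : A} (hx : x ∈ p ^ 2) : D x ∈ p := by
  rw [pow_two] at hx
  induction hx using Submodule.mul_induction_on' with
  | mem_mul_mem a ha b hb =>
    rw [Derivation.leibniz, smul_eq_mul, smul_eq_mul]
    exact add_mem (Ideal.mul_mem_right _ _ ha) (Ideal.mul_mem_right _ _ hb)
  | add x _ y _ hx hy => rw [map_add]; exact add_mem hx hy

/-- The determinant condition gives a regular quotient. -/
theorem isRegularLocalRing_quotient_of_det {k A : Type u} [CommRing k] [CommRing A] [Algebra k A]
    (p : Ideal A) [p.IsPrime] [IsRegularLocalRing (Localization.AtPrime p)] {m : ℕ}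
    (D : Fin m → Derivation k A A) (f : Fin m → A) (hf : ∀ i, f i ∈ p)
    (hdet : Matrix.det (Matrix.of fun i j => D i (f j)) ∉ p) :
    IsRegularLocalRing (Localization.AtPrime p ⧸
      Ideal.span (Set.range fun i => algebraMap A (Localization.AtPrime p) (f i))) := by
  classical
  let S := Localization.AtPrime p
  have hfS : ∀ i, algebraMap A S (f i) ∈ maximalIdeal S := fun i =>
    (IsLocalization.AtPrime.to_map_mem_maximal_iff S p _).2 (hf i)
  refine (Groth.Agent.CAlgJac.isRegularLocalRing_quotient_iff _ (Ideal.span_le.2 ?_)).2 ?_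
  · rintro _ ⟨i, rfl⟩; exact hfS i
  rintro x ⟨hxI, hx2⟩
  obtain ⟨a, rfl⟩ := Ideal.mem_span_range_iff_exists_fun.1 hxI
  obtain ⟨⟨t, ht⟩, hta⟩ := IsLocalization.exist_integer_multiples_of_finite p.primeCompl a
  choose b hb using hta
  have h1 : algebraMap A S (∑ i, b i * f i) ∈ (p ^ 2).map (algebraMap A S) := by
    rw [Ideal.map_pow, IsLocalization.AtPrime.map_eq_maximalIdeal p S, map_sum]
    convert Ideal.mul_mem_left _ (algebraMap A S t) hx2 using 1
    rw [Finset.mul_sum]
    exact Finset.sum_congr rfl fun i _ => by rw [map_mul, hb i, Algebra.smul_def, mul_assoc]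
  obtain ⟨t', ht', h2⟩ := (IsLocalization.algebraMap_mem_map_algebraMap_iff p.primeCompl S _ _).1 h1
  let π := Ideal.Quotient.mk p
  have hz : (Matrix.of fun i j => π (D i (f j))).mulVec (fun j => π (t' * b j)) = 0 := by
    funext i
    have h3 : D i (∑ j, t' * b j * f j) ∈ p := derivation_apply_mem_of_mem_sq p (D i) (by
      simpa [Finset.mul_sum, mul_assoc] using h2)
    rw [map_sum] at h3
    rw [Pi.zero_apply, Matrix.mulVec, dotProduct, ← Ideal.Quotient.eq_zero_iff_mem.2 h3, map_sum]
    refine Finset.sum_congr rfl fun j _ => ?_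
    rw [Derivation.leibniz, map_add, smul_eq_mul, smul_eq_mul, map_mul π (f j),
      Ideal.Quotient.eq_zero_iff_mem.2 (hf j), zero_mul, add_zero, Matrix.of_apply]
    simp only [π, map_mul]
    ring
  have hdet' : (Matrix.of fun i j => π (D i (f j))).det ≠ 0 := by
    rw [show (Matrix.of fun i j => π (D i (f j))) = π.mapMatrix (Matrix.of fun i j => D i (f j)) from rfl,
      ← RingHom.map_det, Ne, Ideal.Quotient.eq_zero_iff_mem]
    exact hdet
  have h4 := Matrix.eq_zero_of_mulVec_eq_zero hdet' hz
  refine sum_mem fun i _ => Ideal.mul_mem_mul ?_ (Ideal.subset_span ⟨i, rfl⟩)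
  have h5 : b i ∈ p := ((‹p.IsPrime›).mem_or_mem (Ideal.Quotient.eq_zero_iff_mem.1 (congrFun h4 i))).resolve_left ht'
  have h6 := (IsLocalization.AtPrime.to_map_mem_maximal_iff S p _).2 h5
  rw [hb i, Algebra.smul_def] at h6
  exact (Ideal.unit_mul_mem_iff_mem _ (IsLocalization.map_units S (⟨t, ht⟩ : p.primeCompl))).1 h6

variable {k : Type u} [Field k] {r : ℕ} (p : Ideal (MvPowerSeries (Fin r) k)) {L : Type u} [Field L]
  [Algebra (MvPowerSeries (Fin r) k ⧸ p) L] [IsFractionRing (MvPowerSeries (Fin r) k ⧸ p) L]

/-- Derivations realising an invertible minor. -/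
theorem exists_det_notMem_of_linearIndependent [p.IsPrime] {m : ℕ} (f : Fin m → MvPowerSeries (Fin r) k)
    (hli : LinearIndependent L (fun i => grad p L (f i))) :
    ∃ D : Fin m → Derivation k (MvPowerSeries (Fin r) k) (MvPowerSeries (Fin r) k),
      Matrix.det (Matrix.of fun i j => D i (f j)) ∉ p := by
  classical
  let A := MvPowerSeries (Fin r) k
  let Φ := Fintype.linearCombination L (fun i => grad p L (f i))
  have hΦ : LinearMap.ker Φ = ⊥ := LinearMap.ker_eq_bot'.2 fun g hg => funext
    (Fintype.linearIndependent_iff.1 hli g (by simpa [Φ, Fintype.linearCombination_apply] using hg))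
  obtain ⟨ψ, hψ⟩ := Φ.exists_leftInverse_of_injective hΦ
  let u : Fin m × Fin r → L := fun il => ψ (Pi.single il.2 1) il.1
  obtain ⟨⟨c, hc⟩, hca⟩ := IsLocalization.exist_integer_multiples_of_finite (nonZeroDivisors (A ⧸ p)) u
  choose b hb using hca
  choose a ha using fun il => Ideal.Quotient.mk_surjective (b il)
  refine ⟨fun i => ∑ l, a (i, l) • MvPowerSeries.pderiv k l, ?_⟩
  let φ : A →+* L := (algebraMap (A ⧸ p) L).comp (Ideal.Quotient.mk p)
  have key : ∀ i j, φ ((∑ l, a (i, l) • MvPowerSeries.pderiv k l) (f j)) =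
      algebraMap (A ⧸ p) L c * (if i = j then 1 else 0) := by
    intro i j
    have h1 : ∀ T : Finset (Fin r), (∑ l ∈ T, a (i, l) • MvPowerSeries.pderiv k l) (f j) =
        ∑ l ∈ T, a (i, l) * MvPowerSeries.pderiv k l (f j) := fun T => by
      induction T using Finset.induction_on with
      | empty => simp
      | insert x T hx ih => rw [Finset.sum_insert hx, Finset.sum_insert hx, Derivation.add_apply, ih,
          Derivation.smul_apply, smul_eq_mul]
    have h2 : grad p L (f j) = ∑ l, grad p L (f j) l • Pi.single (M := fun _ => L) l 1 :=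
      (Finset.univ_sum_single (grad p L (f j))).symm.trans
        (Finset.sum_congr rfl fun l _ => by rw [← Pi.single_smul, smul_eq_mul, mul_one])
    have h3 : ψ (grad p L (f j)) = Pi.single j 1 := by
      have := LinearMap.congr_fun hψ (Pi.single j 1)
      simpa [Φ, Fintype.linearCombination_apply_single] using this
    have h4 := congrFun (congrArg ψ h2) i
    rw [h3, map_sum, Finset.sum_apply] at h4
    rw [h1, map_sum, ← show (Pi.single j 1 : Fin m → L) i = if i = j then 1 else 0 from Pi.single_apply j 1 i, h4,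
      Finset.mul_sum]
    refine Finset.sum_congr rfl fun l _ => ?_
    rw [map_mul, map_smul, Pi.smul_apply, smul_eq_mul]
    show algebraMap (A ⧸ p) L (Ideal.Quotient.mk p (a (i, l))) * grad p L (f j) l = _
    rw [ha, hb, Algebra.smul_def]
    ring
  intro hmem
  have h5 : φ (Matrix.det (Matrix.of fun i j => (∑ l, a (i, l) • MvPowerSeries.pderiv k l) (f j))) = 0 := by
    show algebraMap (A ⧸ p) L _ = 0
    rw [Ideal.Quotient.eq_zero_iff_mem.2 hmem, map_zero]
  rw [RingHom.map_det, show φ.mapMatrix (Matrix.of fun i j => (∑ l, a (i, l) • MvPowerSeries.pderiv k l) (f j)) =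
      algebraMap (A ⧸ p) L c • (1 : Matrix (Fin m) (Fin m) L) from Matrix.ext fun i j => by
        rw [RingHom.mapMatrix_apply, Matrix.map_apply, Matrix.of_apply, key, Matrix.smul_apply, Matrix.one_apply,
          smul_eq_mul], Matrix.det_smul, Matrix.det_one, mul_one, pow_eq_zero_iff'] at h5
  exact (map_ne_zero_iff _ (IsFractionRing.injective (A ⧸ p) L)).2 (nonZeroDivisors.ne_zero hc) h5.1

/-- The residue field at `p` of a quotient is the fraction field of `A/p`. -/
theorem nonempty_residueField_algEquiv [p.IsPrime] (q : Ideal (MvPowerSeries (Fin r) k)) (hqp : q ≤ p)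
    [(p.map (Ideal.Quotient.mk q)).IsPrime] [Algebra k L] [IsScalarTower k (MvPowerSeries (Fin r) k ⧸ p) L] :
    Nonempty (L ≃ₐ[k] ResidueField (Localization.AtPrime (p.map (Ideal.Quotient.mk q)))) := by
  let A := MvPowerSeries (Fin r) k
  let P := p.map (Ideal.Quotient.mk q)
  let Bp := Localization.AtPrime P
  let ψ : A →ₐ[k] ResidueField Bp :=
    { ((residue Bp).comp (algebraMap (A ⧸ q) Bp)).comp (Ideal.Quotient.mk q) with
      commutes' := fun c => by
        show residue Bp (algebraMap (A ⧸ q) Bp (Ideal.Quotient.mk q (algebraMap k A c))) = _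
        rw [← Ideal.Quotient.algebraMap_eq, ← IsScalarTower.algebraMap_apply k A (A ⧸ q),
          ← IsScalarTower.algebraMap_apply k (A ⧸ q) Bp]
        rfl }
  have hψ : ∀ a, ψ a = 0 ↔ a ∈ p := fun a => by
    show residue Bp (algebraMap (A ⧸ q) Bp (Ideal.Quotient.mk q a)) = 0 ↔ _
    rw [residue_eq_zero_iff, IsLocalization.AtPrime.to_map_mem_maximal_iff Bp P, Ideal.mem_quotient_iff_mem hqp]
  let ι : (A ⧸ p) →ₐ[k] ResidueField Bp := Ideal.Quotient.liftₐ p ψ fun a ha => (hψ a).2 ha
  have hι : Function.Injective ι := (injective_iff_map_eq_zero ι).2 fun z hz => by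
    obtain ⟨a, rfl⟩ := Ideal.Quotient.mk_surjective z
    exact Ideal.Quotient.eq_zero_iff_mem.2 ((hψ a).1 hz)
  let e : L →ₐ[k] ResidueField Bp := IsFractionRing.liftAlgHom (g := ι) hι
  refine ⟨AlgEquiv.ofBijective e ⟨e.toRingHom.injective, fun x => ?_⟩⟩
  obtain ⟨y, rfl⟩ := residue_surjective x
  obtain ⟨⟨z, w⟩, hzw⟩ := IsLocalization.surj P.primeCompl y
  obtain ⟨a, rfl⟩ := Ideal.Quotient.mk_surjective z
  obtain ⟨b, hb⟩ := Ideal.Quotient.mk_surjective (w : A ⧸ q)
  have hbp : b ∉ p := fun h => w.2 (hb ▸ Ideal.mem_map_of_mem _ h)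
  have he : ∀ a, e (algebraMap (A ⧸ p) L (Ideal.Quotient.mk p a)) = ψ a := fun a =>
    (congrFun (IsFractionRing.coe_liftAlgHom hι) _).trans (IsFractionRing.lift_algebraMap hι _)
  refine ⟨algebraMap (A ⧸ p) L (Ideal.Quotient.mk p a) / algebraMap (A ⧸ p) L (Ideal.Quotient.mk p b), ?_⟩
  rw [map_div₀, he, he, div_eq_iff (fun h => hbp ((hψ b).1 h))]
  show residue Bp (algebraMap (A ⧸ q) Bp (Ideal.Quotient.mk q a)) =
    residue Bp y * residue Bp (algebraMap (A ⧸ q) Bp (Ideal.Quotient.mk q b))
  rw [← map_mul, hb, hzw]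

theorem formallySmooth_fractionRing_mvPowerSeries (k : Type u) [Field k] (s : ℕ) (L' : Type u) [Field L']
    [Algebra (MvPowerSeries (Fin s) k) L'] [IsFractionRing (MvPowerSeries (Fin s) k) L'] [Algebra k L']
    [IsScalarTower k (MvPowerSeries (Fin s) k) L'] : Algebra.FormallySmooth k L' := by
  let B := MvPowerSeries (Fin s) k
  haveI : Algebra.FormallySmooth k (ResidueField B) := by
    refine Algebra.FormallySmooth.of_equiv (AlgEquiv.ofBijective (Algebra.ofId k (ResidueField B))
      ⟨(algebraMap k (ResidueField B)).injective, fun x => ?_⟩)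
    obtain ⟨y, rfl⟩ := residue_surjective x
    refine ⟨MvPowerSeries.constantCoeff y, ?_⟩
    show residue B (algebraMap k B (MvPowerSeries.constantCoeff y)) = residue B y
    refine Ideal.Quotient.eq.2 ?_
    rw [Groth.Agent.MvPSLib.maximalIdeal_eq, RingHom.mem_ker, map_sub, MvPowerSeries.algebraMap_apply,
      MvPowerSeries.constantCoeff_C]
    simp
  have h1 : CAlgX.IsAdicFormallySmooth k L' (maximalIdeal L') :=
    isAdicFormallySmooth_of_isGeometricallyRegular
      (isGeometricallyRegular_of_isLocalization (nonZeroDivisors B)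
        (isGeometricallyRegular_of_isAdicFormallySmooth isAdicFormallySmooth_of_regular_residue))
  refine Algebra.FormallySmooth.of_comp_surjective fun T _ _ J hJ g => ?_
  obtain ⟨χ, hχ⟩ := h1 T J hJ g ⟨1, fun x hx => by
    rw [pow_one, IsLocalRing.maximalIdeal_eq_bot, Ideal.mem_bot] at hx
    rw [hx, map_zero]⟩
  exact ⟨χ, hχ⟩

end Groth.Agent.SymGr
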