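import Groth.Agent.SymGr.Field
import Groth.Agent.MvPSLib.Basic
import Mathlib

/-! Existence of formally smooth local algebras with prescribed residue field. -/

set_option autoImplicit false

namespace Groth.Agent.SymGr

universe u

open TensorProduct IsLocalRing EGA41

/-- Lifting along a complete ring. -/
theorem exists_lift_complete {Λ k R : Type u} [CommRing Λ] [CommRing k] [CommRing R] [Algebra Λ k]
    [Algebra Λ R] [Algebra.FormallySmooth Λ k] (J : Ideal R) [IsAdicComplete J R]
    (h : k →ₐ[Λ] R ⧸ J ^ 2) : ∃ F : k →+* R, ∀ x, Ideal.Quotient.mk (J ^ 2) (F x) = h x := by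
  have step : ∀ (n : ℕ) (f : k →ₐ[Λ] R ⧸ J ^ (n + 2)), ∃ F : k →ₐ[Λ] R ⧸ J ^ (n + 3),
      (Ideal.Quotient.factorₐ Λ (Ideal.pow_le_pow_right (Nat.le_succ (n + 2)))).comp F = f := fun n f => by
    let g : (R ⧸ J ^ (n + 3)) →ₐ[Λ] R ⧸ J ^ (n + 2) :=
      Ideal.Quotient.factorₐ Λ (Ideal.pow_le_pow_right (Nat.le_succ (n + 2)))
    have hg : Function.Surjective g := Ideal.Quotient.factor_surjective (Ideal.pow_le_pow_right (Nat.le_succ (n + 2)))
    have hnil : IsNilpotent (RingHom.ker g) := ⟨2, le_bot_iff.1 (by
      change RingHom.ker (Ideal.Quotient.factor (Ideal.pow_le_pow_right (Nat.le_succ (n + 2)))) ^ 2 ≤ _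
      rw [Ideal.Quotient.factor_ker, ← Ideal.map_pow, ← pow_mul, Ideal.map_le_iff_le_comap]
      refine (Ideal.pow_le_pow_right (show n + 3 ≤ (n + 2) * 2 by omega)).trans fun x hx => ?_
      rw [Ideal.mem_comap, Ideal.mem_bot, Ideal.Quotient.eq_zero_iff_mem]
      exact hx)⟩
    exact ⟨Algebra.FormallySmooth.liftOfSurjective f g hg hnil,
      AlgHom.ext fun x => Algebra.FormallySmooth.liftOfSurjective_apply f g hg hnil x⟩
  choose next hnext using step
  let f : ∀ n : ℕ, k →ₐ[Λ] R ⧸ J ^ (n + 2) := fun n => n.rec h next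
  have ha : StrictMono fun n : ℕ => n + 2 := fun a b h => by simpa using h
  have hf : ∀ {m : ℕ}, (Ideal.Quotient.factorPow J (ha.monotone m.le_succ)).comp (f (m + 1)).toRingHom =
      (f m).toRingHom := fun {m} => congrArg AlgHom.toRingHom (hnext m (f m))
  exact ⟨IsAdicComplete.StrictMono.liftRingHom J ha (fun n => (f n).toRingHom) hf, fun x =>
    IsAdicComplete.StrictMono.mk_liftRingHom J ha (fun n => (f n).toRingHom) (fun {m} => hf) (n := 0) x⟩

variable (k K : Type u) [Field k] [Field K] [Algebra k K]

section Criterion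

variable (A : Type u) [CommRing A] [Algebra k A] [Algebra A K] [IsScalarTower k A K]

/-- `K ⊗ Ω_k → K ⊗_A Ω_A`. -/
noncomputable def jMap : K ⊗[k] Ω[k⁄ℤ] →ₗ[K] K ⊗[A] Ω[A⁄ℤ] :=
  (KaehlerDifferential.mapBaseChange ℤ k A).baseChange K ∘ₗ
    (TensorProduct.AlgebraTensorModule.cancelBaseChange k A K K (Ω[k⁄ℤ])).symm.toLinearMap

theorem jMap_tmul (c : K) (b : k) :
    jMap k K A (c ⊗ₜ KaehlerDifferential.D ℤ k b) = c ⊗ₜ KaehlerDifferential.D ℤ A (algebraMap k A b) := by
  simp only [jMap, LinearMap.comp_apply, LinearEquiv.coe_coe]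
  rw [TensorProduct.AlgebraTensorModule.cancelBaseChange_symm_tmul, LinearMap.baseChange_tmul,
    KaehlerDifferential.mapBaseChange_tmul, one_smul, KaehlerDifferential.map_D]

variable {k K A}

theorem injective_lTensor_iff [IsLocalRing A] (hs : Function.Surjective (algebraMap A K)) :
    Function.Injective ((KaehlerDifferential.mapBaseChange ℤ k A).lTensor (ResidueField A)) ↔
      Function.Injective (jMap k K A) := by
  have hker : RingHom.ker (algebraMap A K) = maximalIdeal A :=
    IsLocalRing.eq_maximalIdeal (RingHom.ker_isMaximal_of_surjective _ hs)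
  let eA : (A ⧸ maximalIdeal A) ≃ₐ[A] K :=
    (Ideal.quotientEquivAlgOfEq A hker.symm).trans
      (Ideal.quotientKerAlgEquivOfSurjective (f := Algebra.ofId A K) hs)
  let e : ResidueField A ≃ₗ[A] K := eA.toLinearEquiv
  have hnat : ((KaehlerDifferential.mapBaseChange ℤ k A).lTensor K) ∘ₗ
      (e.rTensor (A ⊗[k] Ω[k⁄ℤ])).toLinearMap =
      (e.rTensor (Ω[A⁄ℤ])).toLinearMap ∘ₗ (KaehlerDifferential.mapBaseChange ℤ k A).lTensor (ResidueField A) :=
    TensorProduct.ext' fun x y => by simp
  have h1 : Function.Injective ((KaehlerDifferential.mapBaseChange ℤ k A).lTensor (ResidueField A)) ↔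
      Function.Injective ((KaehlerDifferential.mapBaseChange ℤ k A).lTensor K) := by
    refine ⟨fun h x y hxy => ?_, fun h x y hxy => (e.rTensor (A ⊗[k] Ω[k⁄ℤ])).injective (h ?_)⟩
    · obtain ⟨x, rfl⟩ := (e.rTensor (A ⊗[k] Ω[k⁄ℤ])).surjective x
      obtain ⟨y, rfl⟩ := (e.rTensor (A ⊗[k] Ω[k⁄ℤ])).surjective y
      exact congrArg _ (h ((e.rTensor (Ω[A⁄ℤ])).injective
        ((LinearMap.congr_fun hnat x).symm.trans (hxy.trans (LinearMap.congr_fun hnat y)))))
    · exact (LinearMap.congr_fun hnat x).trans
        ((congrArg (e.rTensor (Ω[A⁄ℤ])) hxy).trans (LinearMap.congr_fun hnat y).symm)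
  rw [h1]
  unfold jMap
  rw [LinearMap.coe_comp, LinearEquiv.coe_coe, EquivLike.injective_comp]
  rfl

theorem mapBaseChange_jMap (x : K ⊗[k] Ω[k⁄ℤ]) :
    KaehlerDifferential.mapBaseChange ℤ A K (jMap k K A x) = KaehlerDifferential.mapBaseChange ℤ k K x := by
  induction x using TensorProduct.induction_on with
  | zero => simp
  | add x y hx hy => rw [map_add, map_add, map_add, hx, hy]
  | tmul c w =>
    have h1 : w ∈ Submodule.span k (Set.range (KaehlerDifferential.D ℤ k)) := by
      rw [KaehlerDifferential.span_range_derivation]; trivial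
    induction h1 using Submodule.span_induction generalizing c with
    | mem v hv =>
      obtain ⟨b, rfl⟩ := hv
      rw [jMap_tmul, KaehlerDifferential.mapBaseChange_tmul, KaehlerDifferential.mapBaseChange_tmul,
        KaehlerDifferential.map_D, KaehlerDifferential.map_D, ← IsScalarTower.algebraMap_apply]
    | zero => simp
    | add v v' _ _ hv hv' => rw [TensorProduct.tmul_add, map_add, map_add, map_add, hv, hv']
    | smul r v _ hv => rw [← TensorProduct.smul_tmul]; exact hv (r • c)

theorem finite_imperfection_of_adic [IsLocalRing A] [IsNoetherianRing A]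
    (hs : Function.Surjective (algebraMap A K))
    (h : CAlgX.IsAdicFormallySmooth k A (maximalIdeal A)) :
    Module.Finite K (imperfection ℤ k K) := by
  have hJ := (injective_lTensor_iff hs).1 (isAdicFormallySmooth_field_iff_regular.1 h).2
  let N := LinearMap.ker (KaehlerDifferential.mapBaseChange ℤ A K)
  haveI : Module.Finite A (RingHom.ker (algebraMap A K)) := Module.Finite.of_fg (IsNoetherian.noetherian _)
  haveI : Module.Finite A (RingHom.ker (algebraMap A K)).Cotangent :=
    .of_surjective _ (Ideal.toCotangent_surjective _)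
  have hrange : LinearMap.range (KaehlerDifferential.kerCotangentToTensor ℤ A K) = N.restrictScalars A :=
    ((KaehlerDifferential.exact_kerCotangentToTensor_mapBaseChange ℤ A K hs).linearMap_ker_eq
      (g := (KaehlerDifferential.mapBaseChange ℤ A K).restrictScalars A)).symm
  haveI : Module.Finite A (N.restrictScalars A) := by
    rw [← hrange]; infer_instance
  haveI : Module.Finite A N := ‹Module.Finite A (N.restrictScalars A)›
  haveI : Module.Finite K N := Module.Finite.of_restrictScalars_finite A K N
  haveI : IsNoetherian K N := isNoetherian_of_isNoetherianRing_of_finite K N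
  refine Module.Finite.of_injective ((jMap k K A).restrict
    (p := imperfection ℤ k K) (q := N) fun x hx => ?_) ?_
  · rw [LinearMap.mem_ker, mapBaseChange_jMap]
    exact hx
  · intro x y hxy
    exact Subtype.ext (hJ (congrArg Subtype.val hxy))

end Criterion

variable {k K}

/-- Injectivity from coefficient derivations. -/
theorem injective_jMap {A : Type u} [CommRing A] [Algebra k A] [Algebra A K] [IsScalarTower k A K] {n : ℕ}
    (lam : K ⊗[k] Ω[k⁄ℤ] →ₗ[K] Fin n → K) (hlam : ∀ x ∈ imperfection ℤ k K, lam x = 0 → x = 0)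
    (e : Fin n → A →+ K)
    (he : ∀ j a c, e j (a * c) = algebraMap A K a * e j c + algebraMap A K c * e j a)
    (hval : ∀ j c, e j (algebraMap k A c) = lam ((1 : K) ⊗ₜ KaehlerDifferential.D ℤ k c) j) :
    Function.Injective (jMap k K A) := by
  haveI : IsScalarTower ℤ A K := IsScalarTower.of_algebraMap_eq' (Subsingleton.elim _ _)
  let E : Fin n → Derivation ℤ A K := fun j => Derivation.mk' (e j).toIntLinearMap fun a c => by
    show e j (a * c) = a • e j c + c • e j a
    rw [he, Algebra.smul_def, Algebra.smul_def]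
  let Ψ : K ⊗[A] Ω[A⁄ℤ] →ₗ[K] (Fin n → K) :=
    LinearMap.pi fun j => LinearMap.liftBaseChange K (E j).liftKaehlerDifferential
  have hΨ : ∀ x, Ψ (jMap k K A x) = lam x := by
    intro x
    induction x using TensorProduct.induction_on with
    | zero => simp
    | add x y hx hy => rw [map_add, map_add, map_add, hx, hy]
    | tmul c w =>
      have h1 : w ∈ Submodule.span k (Set.range (KaehlerDifferential.D ℤ k)) := by
        rw [KaehlerDifferential.span_range_derivation]; trivial
      induction h1 using Submodule.span_induction generalizing c with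
      | mem v hv =>
        obtain ⟨b, rfl⟩ := hv
        funext j
        rw [jMap_tmul]
        simp only [Ψ, LinearMap.pi_apply, LinearMap.liftBaseChange_tmul,
          Derivation.liftKaehlerDifferential_comp_D]
        show c • e j (algebraMap k A b) = _
        rw [hval, show c ⊗ₜ[k] KaehlerDifferential.D ℤ k b = c • ((1 : K) ⊗ₜ[k] KaehlerDifferential.D ℤ k b) by
          rw [TensorProduct.smul_tmul', smul_eq_mul, mul_one], map_smul]
        rfl
      | zero => simp
      | add v v' _ _ hv hv' => rw [TensorProduct.tmul_add, map_add, map_add, map_add, hv, hv']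
      | smul r v _ hv => rw [← TensorProduct.smul_tmul]; exact hv (r • c)
  rw [injective_iff_map_eq_zero]
  intro x hx
  refine hlam x ?_ (by rw [← hΨ, hx, map_zero])
  show KaehlerDifferential.mapBaseChange ℤ k K x = 0
  rw [← mapBaseChange_jMap (A := A), hx, map_zero]

open MvPowerSeries in
/-- Existence in each dimension at least the rank of the imperfection module. -/
theorem exists_formallySmooth [Module.Finite K (imperfection ℤ k K)] (n : ℕ)
    (hn : Module.finrank K (imperfection ℤ k K) ≤ n) :
    ∃ (A : Type u) (_ : CommRing A) (_ : IsLocalRing A) (_ : IsNoetherianRing A) (_ : Algebra k A),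
      IsAdicComplete (maximalIdeal A) A ∧ CAlgX.IsAdicFormallySmooth k A (maximalIdeal A) ∧
        Nonempty (ResidueField A ≃ₐ[k] K) ∧ ringKrullDim A = n := by
  classical
  haveI : Module.Free K (imperfection ℤ k K) := Module.Free.of_divisionRing K (imperfection ℤ k K)
  let b := Module.finBasis K (imperfection ℤ k K)
  let ι : imperfection ℤ k K →ₗ[K] (Fin n → K) := b.constr K fun i => Pi.single (Fin.castLE hn i) 1
  have hι : Function.Injective ι := by
    refine b.injective_constr_of_linearIndependent ?_
    exact (Pi.linearIndependent_single_one (Fin n) K).comp _ (Fin.castLE_injective hn)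
  obtain ⟨lam, hlam⟩ := LinearMap.exists_extend ι
  let D : Fin n → k → K := fun j c => lam ((1 : K) ⊗ₜ KaehlerDifferential.D ℤ k c) j
  have hDmul : ∀ j a c, D j (a * c) = algebraMap k K a * D j c + algebraMap k K c * D j a := fun j a c => by
    simp only [D, Derivation.leibniz, TensorProduct.tmul_add, TensorProduct.tmul_smul, map_add, Pi.add_apply]
    rw [← algebraMap_smul K a, ← algebraMap_smul K c, map_smul, map_smul]
    rfl
  have hDadd : ∀ j a c, D j (a + c) = D j a + D j c := fun j a c => by
    simp only [D, map_add, TensorProduct.tmul_add, Pi.add_apply]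
  obtain ⟨Λ, _, _, _, hu⟩ := exists_prime_field k
  haveI := hu
  haveI : Algebra.FormallySmooth Λ k := formallySmooth_of_perfect
  have hDΛ : ∀ j (c : Λ), D j (algebraMap Λ k c) = 0 := fun j c => by
    have h0 : KaehlerDifferential.D ℤ k (algebraMap Λ k c) = 0 := by
      rw [← KaehlerDifferential.map_D ℤ ℤ Λ k c, Subsingleton.elim (KaehlerDifferential.D ℤ Λ c) 0, map_zero]
    simp only [D, h0, TensorProduct.tmul_zero, map_zero, Pi.zero_apply]
  let A := MvPowerSeries (Fin n) K
  let m : Ideal A := Groth.Agent.FSAdic.augIdeal K n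
  have hm : maximalIdeal A = m := Groth.Agent.MvPSLib.maximalIdeal_eq
  have hXm : ∀ i, (X i : A) ∈ m := fun i => constantCoeff_X i
  let φ₁ : k → A := fun c => C (algebraMap k K c) + ∑ j, C (D j c) * X j
  letI : Algebra Λ A := ((C : K →+* A).comp ((algebraMap k K).comp (algebraMap Λ k))).toAlgebra
  have hone : φ₁ 1 = 1 := by
    have : ∀ j, D j 1 = 0 := fun j => by simp [D]
    simp [φ₁, this]
  let φ₂ : k →ₐ[Λ] A ⧸ m ^ 2 :=
    { toFun := fun c => Ideal.Quotient.mk _ (φ₁ c)
      map_one' := by simp only [hone, map_one]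
      map_mul' := fun a c => by
        rw [← map_mul, Ideal.Quotient.eq]
        have : φ₁ (a * c) - φ₁ a * φ₁ c = -((∑ j, C (D j a) * X j) * ∑ j, C (D j c) * X j) := by
          have hs : (∑ j, C (D j (a * c)) * (X j : A)) =
              C (algebraMap k K a) * (∑ j, C (D j c) * X j) + C (algebraMap k K c) * ∑ j, C (D j a) * X j := by
            simp only [hDmul, map_add, map_mul, add_mul, Finset.sum_add_distrib, Finset.mul_sum, mul_assoc]
          simp only [φ₁, hs, map_mul]
          ring
        rw [this, pow_two]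
        exact neg_mem (Ideal.mul_mem_mul (Ideal.sum_mem _ fun j _ => Ideal.mul_mem_left _ _ (hXm j))
          (Ideal.sum_mem _ fun j _ => Ideal.mul_mem_left _ _ (hXm j)))
      map_zero' := by
        have : ∀ j, D j 0 = 0 := fun j => by simp [D]
        simp [φ₁, this]
      map_add' := fun a c => by
        rw [← map_add]
        congr 1
        simp only [φ₁, hDadd, map_add, add_mul, Finset.sum_add_distrib]
        ring
      commutes' := fun c => by
        have : φ₁ (algebraMap Λ k c) = algebraMap Λ A c := by
          simp only [φ₁, hDΛ, map_zero, zero_mul, Finset.sum_const_zero, add_zero]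
          rfl
        rw [this]
        rfl }
  haveI : IsAdicComplete m A := inferInstance
  obtain ⟨F, hF⟩ := exists_lift_complete m φ₂
  letI : Algebra k A := F.toAlgebra
  letI : Algebra A K := (constantCoeff : A →+* K).toAlgebra
  have hcoeff : ∀ (c : k) (d : Fin n →₀ ℕ), Finsupp.degree d < 2 → coeff d (F c) = coeff d (φ₁ c) :=
    fun c d hd => by
      have h1 := Ideal.Quotient.eq.1 (hF c)
      have h2 := Groth.Agent.MvPSLib.mem_augIdeal_pow_iff.1 h1 d hd
      rwa [map_sub, sub_eq_zero] at h2
  have hC0 : ∀ c, constantCoeff (F c) = algebraMap k K c := fun c => by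
    rw [← coeff_zero_eq_constantCoeff_apply, hcoeff c 0 (by simp), coeff_zero_eq_constantCoeff_apply]
    simp [φ₁]
  haveI : IsScalarTower k A K := IsScalarTower.of_algebraMap_eq fun c => (hC0 c).symm
  have hcX : ∀ j c, coeff (Finsupp.single j 1) (F c) = D j c := fun j c => by
    rw [hcoeff c _ (by simp)]
    simp [φ₁, coeff_C, coeff_X, coeff_C_mul, Finsupp.single_eq_single_iff]
  have hs : Function.Surjective (algebraMap A K) := fun x => ⟨C x, constantCoeff_C x⟩
  -- coefficient derivations
  have hfs : CAlgX.IsAdicFormallySmooth k A (maximalIdeal A) := by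
    refine isAdicFormallySmooth_field_iff_regular.2 ⟨inferInstance, (injective_lTensor_iff hs).2
      (injective_jMap lam (fun x hx h0 => ?_) (fun j => (coeff (R := K) (Finsupp.single j 1)).toAddMonoidHom)
        (fun j a c => ?_) (fun j c => hcX j c))⟩
    · exact congrArg Subtype.val ((map_eq_zero_iff ι hι).1
        (show ι ⟨x, hx⟩ = 0 by rw [← hlam, LinearMap.comp_apply]; exact h0))
    · show coeff (Finsupp.single j 1) (a * c) = constantCoeff a * coeff (Finsupp.single j 1) c +
        constantCoeff c * coeff (Finsupp.single j 1) a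
      rw [coeff_mul, Finsupp.antidiagonal_single, Finset.sum_map]
      simp [Finset.Nat.antidiagonal_succ, mul_comm]
  refine ⟨A, inferInstance, inferInstance, inferInstance, inferInstance, ?_, hfs, ⟨?_⟩,
    Groth.Agent.MvPSLib.ringKrullDim_eq (K := K) n⟩
  · rw [hm]; infer_instance
  · have hker : RingHom.ker (IsScalarTower.toAlgHom k A K) = maximalIdeal A :=
      IsLocalRing.eq_maximalIdeal (RingHom.ker_isMaximal_of_surjective _ hs)
    exact (Ideal.quotientEquivAlgOfEq k hker.symm).trans (Ideal.quotientKerAlgEquivOfSurjective hs)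

end Groth.Agent.SymGr
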