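import Groth.Agent.SymGr.RootExt
import Groth.Agent.DimTheory.Algebra
import Mathlib

/-! Cotangent space of root extensions `A[T]/(T_i^p + p g_i - f_i)`. -/

set_option autoImplicit false

namespace Groth.Agent.SymGr

universe u

open TensorProduct IsLocalRing MvPolynomial

section Local

variable {S : Type u} [CommRing S] [IsLocalRing S]

theorem one_tmul_eq_zero_iff {M : Type u} [AddCommGroup M] [Module S M] (w : M) :
    (1 : ResidueField S) ⊗ₜ[S] w = 0 ↔ w ∈ (maximalIdeal S • ⊤ : Submodule S M) := by
  show (1 : S ⧸ maximalIdeal S) ⊗ₜ[S] w = 0 ↔ _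
  rw [← (TensorProduct.quotTensorEquivQuotSMul M (maximalIdeal S)).map_eq_zero_iff,
    TensorProduct.quotTensorEquivQuotSMul_mk_one_tmul, Submodule.Quotient.mk_eq_zero]

variable (p : ℕ) [Fact p.Prime] [CharP (ResidueField S) p]

include p in
/-- In equal characteristic modulo `m²`, the cotangent space embeds in the absolute differentials. -/
theorem mem_sq_of_one_tmul_D_eq_zero (hp : (p : S) ∈ maximalIdeal S ^ 2) {x : S}
    (hx : x ∈ maximalIdeal S) (h : (1 : ResidueField S) ⊗ₜ[S] KaehlerDifferential.D ℤ S x = 0) :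
    x ∈ maximalIdeal S ^ 2 := by
  let I := maximalIdeal S ^ 2
  have hI : I ≠ ⊤ := fun h2 =>
    (maximalIdeal.isMaximal S).ne_top
      (top_le_iff.1 (h2 ▸ Ideal.pow_le_self (I := maximalIdeal S) two_ne_zero))
  let T := S ⧸ I
  haveI : Nontrivial T := Ideal.Quotient.nontrivial_iff.2 hI
  haveI : IsLocalRing T := .of_surjective' _ Ideal.Quotient.mk_surjective
  haveI : CharP T p := (CharP.charP_iff_prime_eq_zero (Fact.out : p.Prime)).2 (by
    rw [← map_natCast (Ideal.Quotient.mk I)]
    exact Ideal.Quotient.eq_zero_iff_mem.2 hp)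
  let Λ := ULift.{u} (ZMod p)
  letI : Field Λ := inferInstanceAs (Field (ULift.{u} (ZMod p)))
  haveI : Finite Λ := inferInstanceAs (Finite (ULift.{u} (ZMod p)))
  letI : Algebra Λ T :=
    ((ZMod.castHom dvd_rfl T).comp (ULift.ringEquiv : Λ ≃+* ZMod p).toRingHom).toAlgebra
  haveI : PerfectField Λ := PerfectField.ofFinite
  have hmT : ∀ r : S, r ∈ maximalIdeal S → Ideal.Quotient.mk I r ∈ maximalIdeal T := fun r hr =>
    by
    rw [← IsLocalRing.map_maximalIdeal_of_surjective (Ideal.Quotient.mk I) Ideal.Quotient.mk_surjective]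
    exact Ideal.mem_map_of_mem _ hr
  haveI : Algebra.FormallySmooth Λ (ResidueField T) := formallySmooth_of_perfect
  have h1 : (1 : ResidueField T) ⊗ₜ[T] KaehlerDifferential.D Λ T (Ideal.Quotient.mk I x) = 0 := by
    rw [show KaehlerDifferential.D Λ T (Ideal.Quotient.mk I x) =
      KaehlerDifferential.map ℤ Λ S T (KaehlerDifferential.D ℤ S x) from
        (KaehlerDifferential.map_D _ _ _ _ x).symm]
    refine Submodule.smul_induction_on ((one_tmul_eq_zero_iff _).1 h) (fun r hr w _ => ?_)
      fun v w hv hw => by rw [map_add, TensorProduct.tmul_add, hv, hw, add_zero]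
    rw [one_tmul_eq_zero_iff, map_smul, ← algebraMap_smul T r]
    exact Submodule.smul_mem_smul (hmT r hr) trivial
  have hker : RingHom.ker (algebraMap T (ResidueField T)) = maximalIdeal T := Ideal.mk_ker
  have hinj := Groth.Agent.CAlgJac.kerCotangentToTensor_injective Λ T (ResidueField T)
    residue_surjective
    (a₁ := (RingHom.ker (algebraMap T (ResidueField T))).toCotangent
      ⟨Ideal.Quotient.mk I x, hker ▸ hmT x hx⟩) (a₂ := 0)
    (by rw [map_zero, KaehlerDifferential.kerCotangentToTensor_toCotangent]; exact h1)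
  rw [Ideal.toCotangent_eq_zero] at hinj
  have h2 : Ideal.Quotient.mk I x ∈ maximalIdeal T ^ 2 := by rw [← hker]; exact hinj
  rw [show maximalIdeal T = (maximalIdeal S).map (Ideal.Quotient.mk I) from
    (IsLocalRing.map_maximalIdeal_of_surjective _ Ideal.Quotient.mk_surjective).symm, ← Ideal.map_pow,
    Ideal.mem_quotient_iff_mem le_rfl] at h2
  exact h2

include p in
/-- Independence in the cotangent space can be tested on differentials. -/
theorem linearIndependent_toCotangent_iff (hp : (p : S) ∈ maximalIdeal S ^ 2) {ι : Type*} [Fintype ι]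
    (y : ι → maximalIdeal S) :
    LinearIndependent (ResidueField S) (fun i => (maximalIdeal S).toCotangent (y i)) ↔
      LinearIndependent (ResidueField S)
        (fun i => (1 : ResidueField S) ⊗ₜ[S] KaehlerDifferential.D ℤ S (y i : S)) := by
  classical
  have key : ∀ a : ι → S,
      ∑ i, residue S (a i) • (maximalIdeal S).toCotangent (y i) = 0 ↔
      ∑ i, residue S (a i) • ((1 : ResidueField S) ⊗ₜ[S] KaehlerDifferential.D ℤ S (y i : S)) = 0 := by
    intro a
    have hc : ∑ i, residue S (a i) • (maximalIdeal S).toCotangent (y i) =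
        (maximalIdeal S).toCotangent (∑ i, a i • y i) := by
      rw [map_sum]
      refine Finset.sum_congr rfl fun i _ => ?_
      rw [map_smul]
      exact IsScalarTower.algebraMap_smul (ResidueField S) (a i) _
    have hd : ∑ i, residue S (a i) • ((1 : ResidueField S) ⊗ₜ[S] KaehlerDifferential.D ℤ S (y i : S)) =
        (1 : ResidueField S) ⊗ₜ[S] KaehlerDifferential.D ℤ S ((∑ i, a i • y i : maximalIdeal S) : S) := by
      simp only [Submodule.coe_sum, SetLike.val_smul, smul_eq_mul, map_sum, Derivation.leibniz,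
        TensorProduct.tmul_sum, TensorProduct.tmul_add, TensorProduct.tmul_smul]
      refine Finset.sum_congr rfl fun i _ => ?_
      rw [← IsScalarTower.algebraMap_smul (ResidueField S) (y i : S),
        show algebraMap S (ResidueField S) (y i : S) = 0 from (residue_eq_zero_iff _).2 (y i).2,
        zero_smul, add_zero]
      exact IsScalarTower.algebraMap_smul (ResidueField S) (a i) _
    rw [hc, hd, Ideal.toCotangent_eq_zero]
    refine ⟨fun h => ?_, fun h => mem_sq_of_one_tmul_D_eq_zero p hp (Subtype.prop _) h⟩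
    rw [pow_two] at h
    refine Submodule.mul_induction_on h (fun r hr s hs => ?_) fun v w hv hw => by
      rw [map_add, TensorProduct.tmul_add, hv, hw, add_zero]
    rw [one_tmul_eq_zero_iff, Derivation.leibniz]
    exact add_mem (Submodule.smul_mem_smul hr trivial) (Submodule.smul_mem_smul hs trivial)
  rw [Fintype.linearIndependent_iff, Fintype.linearIndependent_iff]
  constructor <;> intro h g hg <;> choose a ha using fun i => residue_surjective (g i)
  · simp only [← ha] at hg ⊢; exact h _ ((key a).2 hg)
  · simp only [← ha] at hg ⊢; exact h _ ((key a).1 hg)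

/-- Cotangent dimension of a quotient. -/
theorem spanFinrank_quotient_add [IsNoetherianRing S] {T : Type u} [CommRing T] [IsLocalRing T]
    [IsNoetherianRing T] (ρ : S →+* T) (hρ : Function.Surjective ρ) {ι : Type*}
    (y : ι → maximalIdeal S) (hker : RingHom.ker ρ = Ideal.span (Set.range fun i => (y i : S))) :
    (maximalIdeal T).spanFinrank + Module.finrank (ResidueField S)
      (Submodule.span (ResidueField S) (Set.range fun i => (maximalIdeal S).toCotangent (y i))) =
      (maximalIdeal S).spanFinrank := by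
  classical
  let V := CotangentSpace S
  let c : maximalIdeal S → V := (maximalIdeal S).toCotangent
  let W : Submodule (ResidueField S) V := Submodule.span (ResidueField S) (Set.range fun i => c (y i))
  have hrk : (maximalIdeal S).spanFinrank = Module.finrank (ResidueField S) V :=
    spanFinrank_maximalIdeal_eq_finrank_cotangentSpace S
  have hmap : (maximalIdeal S).map ρ = maximalIdeal T := IsLocalRing.map_maximalIdeal_of_surjective _ hρ
  refine le_antisymm ?_ ?_
  · obtain ⟨W', hW'⟩ := Submodule.exists_isCompl W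
    let b := Module.finBasis (ResidueField S) W'
    choose z hz using fun j => Ideal.toCotangent_surjective (maximalIdeal S) (b j : V)
    have hspan : Submodule.span (ResidueField S) (c '' (Set.range y ∪ Set.range z)) = ⊤ := by
      rw [Set.image_union, Submodule.span_union, ← Set.range_comp, ← Set.range_comp, eq_top_iff,
        ← hW'.sup_eq_top]
      refine sup_le_sup le_rfl ?_
      rw [show c ∘ z = W'.subtype ∘ b from funext hz, Set.range_comp, Submodule.span_image, b.span_eq,
        Submodule.map_top, Submodule.range_subtype]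
    have hgen := (CotangentSpace.span_image_eq_top_iff (R := S)).1 hspan
    have hTgen : maximalIdeal T = Ideal.span (Set.range fun j => ρ (z j : S)) := by
      refine le_antisymm ?_ (Ideal.span_le.2 ?_)
      · rw [← hmap, Ideal.map_le_iff_le_comap]
        intro x hx
        have hx' : (⟨x, hx⟩ : maximalIdeal S) ∈
            Submodule.span S (Set.range y ∪ Set.range z) := by rw [hgen]; trivial
        refine Submodule.span_induction (p := fun (v : maximalIdeal S) _ => (v : S) ∈
          Ideal.comap ρ (Ideal.span (Set.range fun j => ρ (z j : S)))) ?_ (by simp)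
          (fun a b _ _ ha hb => by simpa using add_mem ha hb)
          (fun r a _ ha => Ideal.mul_mem_left _ r ha) hx'
        rintro v (⟨i, rfl⟩ | ⟨j, rfl⟩)
        · rw [Ideal.mem_comap, show ρ (y i : S) = 0 from hker.ge (Ideal.subset_span ⟨i, rfl⟩)]
          exact zero_mem _
        · exact Ideal.subset_span ⟨j, rfl⟩
      · rintro _ ⟨j, rfl⟩
        rw [← hmap]; exact Ideal.mem_map_of_mem _ (z j).2
    have h1 : (maximalIdeal T).spanFinrank ≤ Module.finrank (ResidueField S) W' := by
      have h2 : (Ideal.span (Set.range fun j => ρ (z j : S))).spanFinrank ≤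
          (Set.range fun j => ρ (z j : S)).ncard :=
        Submodule.spanFinrank_span_le_ncard_of_finite (Set.finite_range _)
      rw [← hTgen] at h2
      refine h2.trans ?_
      have h3 := Finite.card_range_le fun j => ρ (z j : S)
      rwa [Nat.card_coe_set_eq, Nat.card_fin] at h3
    have h4 := Submodule.finrank_add_eq_of_isCompl hW'
    rw [hrk]
    change _ + Module.finrank (ResidueField S) W ≤ _
    omega
  · obtain ⟨G, hGcard, hGspan⟩ :=
      Submodule.FG.exists_span_finset_card_eq_spanFinrank (IsNoetherian.noetherian (maximalIdeal T))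
    choose u hu using fun g : G => hρ (g : T)
    have hum : ∀ g, u g ∈ maximalIdeal S := fun g hunit => by
      have h1 : (g : T) ∈ maximalIdeal T := hGspan.le (Submodule.subset_span g.2)
      exact h1 (hu g ▸ hunit.map ρ)
    let Z : Submodule (ResidueField S) V :=
      Submodule.span (ResidueField S) (Set.range fun g => c ⟨u g, hum g⟩)
    have hc : ∀ (r : S) (v : maximalIdeal S), c (r • v) = residue S r • c v := fun r v => by
      show (maximalIdeal S).toCotangent (r • v) = _
      rw [map_smul]
      exact (IsScalarTower.algebraMap_smul (ResidueField S) r _).symm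
    have htop : W ⊔ Z = ⊤ := by
      refine eq_top_iff.2 fun w _ => ?_
      obtain ⟨v, rfl⟩ := Ideal.toCotangent_surjective (maximalIdeal S) w
      have hv : ρ v ∈ Submodule.span T (Set.range fun g : G => (g : T)) := by
        rw [Subtype.range_coe_subtype]
        exact hGspan.ge (hmap ▸ Ideal.mem_map_of_mem ρ v.2)
      obtain ⟨r, hr⟩ := (Submodule.mem_span_range_iff_exists_fun T).1 hv
      choose r' hr' using fun g => hρ (r g)
      let d : maximalIdeal S := v - ∑ g, r' g • ⟨u g, hum g⟩
      have hd : (d : S) ∈ RingHom.ker ρ := by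
        simp only [d, AddSubgroupClass.coe_sub, Submodule.coe_sum, SetLike.val_smul, smul_eq_mul,
          RingHom.mem_ker, map_sub, map_sum, map_mul, hr', hu]
        rw [← hr]; simp
      rw [hker] at hd
      obtain ⟨f, hf⟩ := Finsupp.mem_span_range_iff_exists_finsupp.1 hd
      have hd' : d = f.sum fun i a => a • y i := by
        refine Subtype.ext ?_
        rw [← hf]
        simp [Finsupp.sum, Submodule.coe_sum]
      have : c v = c d + ∑ g, residue S (r' g) • c ⟨u g, hum g⟩ := by
        simp only [← hc]
        show c v = (maximalIdeal S).toCotangent d + _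
        rw [← map_sum (maximalIdeal S).toCotangent, ← map_add, sub_add_cancel]
      show c v ∈ _
      rw [this]
      refine Submodule.add_mem_sup ?_ (Submodule.sum_mem _ fun g _ =>
        Submodule.smul_mem _ _ (Submodule.subset_span ⟨g, rfl⟩))
      rw [hd', Finsupp.sum]
      show (maximalIdeal S).toCotangent _ ∈ _
      rw [map_sum]
      exact Submodule.sum_mem _ fun i _ => by
        show c (f i • y i) ∈ _
        rw [hc]; exact Submodule.smul_mem _ _ (Submodule.subset_span ⟨i, rfl⟩)
    have h1 := Submodule.finrank_add_le_finrank_add_finrank W Z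
    rw [htop, finrank_top] at h1
    have h2 : Module.finrank (ResidueField S) Z ≤ G.card :=
      (finrank_range_le_card fun g : G => c ⟨u g, hum g⟩).trans_eq (Fintype.card_coe G)
    rw [hrk, ← hGcard]
    change _ ≤ _ + Module.finrank (ResidueField S) W
    omega

end Local

theorem linearIndependent_D_algebraMap_iff {A S : Type u} [CommRing A] [IsLocalRing A] [CommRing S]
    [IsLocalRing S] [Algebra A S] [IsLocalHom (algebraMap A S)] [Algebra.FormallySmooth A S]
    {ι : Type*} (a : ι → A) :
    LinearIndependent (ResidueField S)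
        (fun i => (1 : ResidueField S) ⊗ₜ[S] KaehlerDifferential.D ℤ S (algebraMap A S (a i))) ↔
      LinearIndependent (ResidueField A)
        (fun i => (1 : ResidueField A) ⊗ₜ[A] KaehlerDifferential.D ℤ A (a i)) := by
  let K := ResidueField A
  let L := ResidueField S
  let V := ResidueField A ⊗[A] Ω[A⁄ℤ]
  -- the split injection `S ⊗ Ω_A → Ω_S`
  have hinj : Function.Injective (KaehlerDifferential.mapBaseChange ℤ A S) :=
    LinearMap.ker_eq_bot.1 (by
      rw [← LinearMap.range_eq_bot.2 (Subsingleton.elim (Algebra.H1Cotangent.δ ℤ A S) 0)]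
      exact (Algebra.H1Cotangent.exact_δ_mapBaseChange ℤ A S).linearMap_ker_eq)
  obtain ⟨l, hl⟩ := (((Function.Exact.split_tfae (KaehlerDifferential.exact_mapBaseChange_map ℤ A S)
    hinj (KaehlerDifferential.map_surjective ℤ A S)).out 0 1).mp
      (Module.projective_lifting_property _ LinearMap.id (KaehlerDifferential.map_surjective ℤ A S)))
  let J : (L ⊗[K] V) →ₗ[L] L ⊗[S] Ω[S⁄ℤ] :=
    ((KaehlerDifferential.mapBaseChange ℤ A S).baseChange L) ∘ₗ
      (TensorProduct.AlgebraTensorModule.cancelBaseChange A S L L (Ω[A⁄ℤ])).symm.toLinearMap ∘ₗ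
      (TensorProduct.AlgebraTensorModule.cancelBaseChange A K L L (Ω[A⁄ℤ])).toLinearMap
  have hJ : Function.Injective J := by
    have h1 : Function.Injective ((KaehlerDifferential.mapBaseChange ℤ A S).baseChange L) := by
      refine Function.LeftInverse.injective (g := l.baseChange L) fun z => ?_
      rw [← LinearMap.comp_apply, ← LinearMap.baseChange_comp, hl, LinearMap.baseChange_id]
      rfl
    simp only [J, LinearMap.coe_comp, LinearEquiv.coe_coe]
    exact h1.comp ((LinearEquiv.injective _).comp (LinearEquiv.injective _))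
  have hJv : (fun i => (1 : L) ⊗ₜ[S] KaehlerDifferential.D ℤ S (algebraMap A S (a i))) =
      J ∘ fun i => (1 : L) ⊗ₜ[K] ((1 : K) ⊗ₜ[A] KaehlerDifferential.D ℤ A (a i)) := by
    funext i
    show _ = (KaehlerDifferential.mapBaseChange ℤ A S).baseChange L
      ((TensorProduct.AlgebraTensorModule.cancelBaseChange A S L L (Ω[A⁄ℤ])).symm
        (((1 : K) • (1 : L)) ⊗ₜ[A] KaehlerDifferential.D ℤ A (a i)))
    rw [one_smul, TensorProduct.AlgebraTensorModule.cancelBaseChange_symm_tmul, LinearMap.baseChange_tmul,
      KaehlerDifferential.mapBaseChange_tmul, one_smul, KaehlerDifferential.map_D]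
  show LinearIndependent L _ ↔ LinearIndependent K _
  rw [hJv, J.linearIndependent_iff (LinearMap.ker_eq_bot.2 hJ)]
  refine ⟨fun h => LinearIndependent.of_comp (TensorProduct.mk K L V 1) ?_,
    fun h => Module.Flat.linearIndependent_one_tmul h⟩
  exact h.restrict_scalars (fun x y hxy => (algebraMap K L).injective (by
    simpa [Algebra.smul_def] using hxy))

/-- The closed fibre of a localised polynomial ring is regular of the right dimension. -/
theorem spanFinrank_fibre {K P S : Type u} [Field K] [CommRing P] [CommRing S] [Algebra P S]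
    (M J : Ideal P) [M.IsMaximal] (hJM : J ≤ M) [IsLocalization.AtPrime S M] {r : ℕ}
    (e : MvPolynomial (Fin r) K ≃+* P ⧸ J) [IsLocalRing (S ⧸ J.map (algebraMap P S))] :
    (maximalIdeal (S ⧸ J.map (algebraMap P S))).spanFinrank = r := by
  haveI : (M.map (Ideal.Quotient.mk J)).IsMaximal :=
    (Ideal.map_eq_top_or_isMaximal_of_surjective _ Ideal.Quotient.mk_surjective ‹M.IsMaximal›).resolve_left
      fun h => by
        have h2 := congrArg (Ideal.comap (Ideal.Quotient.mk J)) h
        rw [Ideal.comap_map_of_surjective _ Ideal.Quotient.mk_surjective, Ideal.comap_top,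
          ← RingHom.ker_eq_comap_bot, Ideal.mk_ker, sup_eq_left.2 hJM] at h2
        exact ‹M.IsMaximal›.ne_top h2
  haveI : IsLocalization.AtPrime (S ⧸ J.map (algebraMap P S)) (M.map (Ideal.Quotient.mk J)) := by
    have h : Algebra.algebraMapSubmonoid (P ⧸ J) M.primeCompl = (M.map (Ideal.Quotient.mk J)).primeCompl := by
      ext z
      constructor
      · rintro ⟨y, hy, rfl⟩ hz
        exact hy ((Ideal.mem_quotient_iff_mem hJM).1 hz)
      · intro hz
        obtain ⟨y, rfl⟩ := Ideal.Quotient.mk_surjective z
        exact ⟨y, fun hy => hz ((Ideal.mem_quotient_iff_mem hJM).2 hy), rfl⟩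
    have h' : IsLocalization (Algebra.algebraMapSubmonoid (P ⧸ J) M.primeCompl) (S ⧸ J.map (algebraMap P S)) :=
      inferInstance
    rwa [h] at h'
  haveI : IsRegularRing (P ⧸ J) := IsRegularRing.of_ringEquiv e
  have hreg : IsRegularLocalRing (S ⧸ J.map (algebraMap P S)) := IsRegularLocalRing.of_ringEquiv
    (R := Localization.AtPrime (M.map (Ideal.Quotient.mk J)))
    (IsLocalization.algEquiv (M.map (Ideal.Quotient.mk J)).primeCompl _ (S ⧸ J.map (algebraMap P S))).toRingEquiv
  have h1 := hreg.spanFinrank_maximalIdeal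
  rw [IsLocalization.AtPrime.ringKrullDim_eq_height (M.map (Ideal.Quotient.mk J)) (S ⧸ J.map (algebraMap P S)),
    ← RingEquiv.height_comap e (M.map (Ideal.Quotient.mk J))] at h1
  haveI : ((M.map (Ideal.Quotient.mk J)).comap e).IsMaximal :=
    Ideal.comap_isMaximal_of_surjective _ e.surjective
  rw [Groth.Agent.DimTheory.height_maximal_mvPolynomial] at h1
  exact_mod_cast h1

section Roots

variable {A : Type u} [CommRing A] [IsLocalRing A] (p : ℕ) [Fact p.Prime] [CharP (ResidueField A) p]
  {r : ℕ} (g : Fin r → MvPolynomial (Fin r) A) (f : Fin r → A)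

/-- The defining polynomials. -/
noncomputable def rootRel : Fin r → MvPolynomial (Fin r) A :=
  fun i => X i ^ p + (p : MvPolynomial (Fin r) A) * g i - C (f i)

/-- The defining ideal. -/
noncomputable abbrev rootIdeal : Ideal (MvPolynomial (Fin r) A) := Ideal.span (Set.range (rootRel p g f))

theorem exists_point : ∃ χ : MvPolynomial (Fin r) A →+* AlgebraicClosure (ResidueField A),
    (∀ i, χ (rootRel p g f i) = 0) ∧ ∀ a ∈ maximalIdeal A, χ (C a) = 0 := by
  have hp0 : 0 < p := (Fact.out : p.Prime).pos
  choose t ht using fun i => IsAlgClosed.exists_pow_nat_eq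
    (algebraMap (ResidueField A) (AlgebraicClosure (ResidueField A)) (residue A (f i))) hp0
  refine ⟨eval₂Hom ((algebraMap (ResidueField A) _).comp (residue A)) t, fun i => ?_, fun a ha => ?_⟩
  · have hpK : (p : AlgebraicClosure (ResidueField A)) = 0 := by
      rw [← map_natCast (algebraMap (ResidueField A) (AlgebraicClosure (ResidueField A))), CharP.cast_eq_zero,
        map_zero]
    simp [rootRel, ht, hpK]
  · simp [(residue_eq_zero_iff a).2 ha]

theorem mem_maximalIdeal_natCast : (p : A) ∈ maximalIdeal A := by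
  rw [← residue_eq_zero_iff, map_natCast, CharP.cast_eq_zero]

omit [IsLocalRing A] [CharP (ResidueField A) p] in
theorem exists_pow_eq_C {T : Type*} [CommRing T] [CharP T p] [Nontrivial T]
    (π : MvPolynomial (Fin r) A →+* T) (h : ∀ i, π (rootRel p g f i) = 0) (x : MvPolynomial (Fin r) A) :
    ∃ a : A, π x ^ p = π (C a) := by
  haveI : ExpChar T p := ExpChar.prime (Fact.out : p.Prime)
  induction x using MvPolynomial.induction_on with
  | C a => exact ⟨a ^ p, by rw [map_pow C, map_pow]⟩
  | add u v hu hv =>
    obtain ⟨a, ha⟩ := hu; obtain ⟨b, hb⟩ := hv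
    exact ⟨a + b, by rw [map_add, add_pow_expChar, ha, hb, map_add C, map_add]⟩
  | mul_X u i hu =>
    obtain ⟨a, ha⟩ := hu
    have h0 := h i
    simp only [rootRel, map_sub, map_add, map_mul, map_pow, map_natCast, CharP.cast_eq_zero, zero_mul,
      add_zero, sub_eq_zero] at h0
    exact ⟨a * f i, by rw [map_mul, mul_pow, ha, h0, map_mul C, map_mul]⟩

theorem isLocalRing_roots [Algebra.IsIntegral A (MvPolynomial (Fin r) A ⧸ rootIdeal p g f)] :
    IsLocalRing (MvPolynomial (Fin r) A ⧸ rootIdeal p g f) := by
  classical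
  obtain ⟨χ, hχ, hχm⟩ := exists_point p g f
  let χB : (MvPolynomial (Fin r) A ⧸ rootIdeal p g f) →+* AlgebraicClosure (ResidueField A) := Ideal.Quotient.lift _ χ fun x hx => by
    refine (Ideal.span_le (I := RingHom.ker χ)).2 ?_ hx
    rintro _ ⟨i, rfl⟩; exact hχ i
  haveI : Nontrivial (MvPolynomial (Fin r) A ⧸ rootIdeal p g f) := χB.domain_nontrivial
  let J : Ideal (MvPolynomial (Fin r) A ⧸ rootIdeal p g f) := (maximalIdeal A).map (algebraMap A (MvPolynomial (Fin r) A ⧸ rootIdeal p g f))
  have hJ : J ≤ RingHom.ker χB := Ideal.map_le_iff_le_comap.2 fun a ha => hχm a ha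
  haveI : Nontrivial ((MvPolynomial (Fin r) A ⧸ rootIdeal p g f) ⧸ J) := Ideal.Quotient.nontrivial_iff.2 fun h =>
    (RingHom.ker_ne_top χB) (top_le_iff.1 (h ▸ hJ))
  haveI : CharP ((MvPolynomial (Fin r) A ⧸ rootIdeal p g f) ⧸ J) p := (CharP.charP_iff_prime_eq_zero (Fact.out : p.Prime)).2 (by
    rw [← map_natCast (Ideal.Quotient.mk J), Ideal.Quotient.eq_zero_iff_mem, ← map_natCast (algebraMap A (MvPolynomial (Fin r) A ⧸ rootIdeal p g f))]
    exact Ideal.mem_map_of_mem _ (mem_maximalIdeal_natCast p))
  haveI : ExpChar ((MvPolynomial (Fin r) A ⧸ rootIdeal p g f) ⧸ J) p := ExpChar.prime (Fact.out : p.Prime)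
  let π : MvPolynomial (Fin r) A →+* (MvPolynomial (Fin r) A ⧸ rootIdeal p g f) ⧸ J := (Ideal.Quotient.mk J).comp (Ideal.Quotient.mk _)
  have hpow : ∀ x : MvPolynomial (Fin r) A, ∃ a : A, π x ^ p = π (C a) :=
    exists_pow_eq_C (T := (MvPolynomial (Fin r) A ⧸ rootIdeal p g f) ⧸ J) p g f π fun i => by
      show Ideal.Quotient.mk J (Ideal.Quotient.mk _ (rootRel p g f i)) = 0
      rw [Ideal.Quotient.eq_zero_iff_mem.2 (Ideal.subset_span (Set.mem_range_self i))]
      exact map_zero _
  have hiff : ∀ (n : Ideal (MvPolynomial (Fin r) A ⧸ rootIdeal p g f)), n.IsMaximal → ∀ (x : MvPolynomial (Fin r) A) (a : A), π x ^ p = π (C a) →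
      (Ideal.Quotient.mk _ x ∈ n ↔ a ∈ maximalIdeal A) := by
    intro n hn x a hxa
    haveI := hn
    have hc : n.comap (algebraMap A (MvPolynomial (Fin r) A ⧸ rootIdeal p g f)) = maximalIdeal A :=
      IsLocalRing.eq_maximalIdeal (Ideal.isMaximal_comap_of_isIntegral_of_isMaximal (R := A) n)
    have hJn : J ≤ n := Ideal.map_le_iff_le_comap.2 hc.ge
    have h1 : (Ideal.Quotient.mk _ x : (MvPolynomial (Fin r) A ⧸ rootIdeal p g f)) ^ p - algebraMap A (MvPolynomial (Fin r) A ⧸ rootIdeal p g f) a ∈ n := hJn (Ideal.Quotient.eq.1 (by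
      rw [map_pow]; exact hxa))
    rw [← hc, Ideal.mem_comap, ← hn.isPrime.pow_mem_iff_mem p (Fact.out : p.Prime).pos]
    exact ⟨fun h => by simpa using sub_mem h h1, fun h => by simpa using add_mem h1 h⟩
  obtain ⟨n, hn⟩ := Ideal.exists_maximal (MvPolynomial (Fin r) A ⧸ rootIdeal p g f)
  refine IsLocalRing.of_unique_max_ideal ⟨n, hn, fun n' hn' => ?_⟩
  refine hn'.eq_of_le hn.ne_top fun y hy => ?_
  obtain ⟨x, rfl⟩ := Ideal.Quotient.mk_surjective y
  obtain ⟨a, ha⟩ := hpow x
  exact (hiff n hn x a ha).2 ((hiff n' hn' x a ha).1 hy)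

set_option maxHeartbeats 800000 in
omit [IsLocalRing A] [CharP (ResidueField A) p] in
/-- The computation in a local algebra. -/
theorem spanFinrank_core [IsLocalRing A] [CharP (ResidueField A) p] [IsNoetherianRing A]
    (hp : (p : A) ∈ maximalIdeal A ^ 2)
    {S : Type u} [CommRing S] [IsLocalRing S] [IsNoetherianRing S] [Algebra A S]
    [IsLocalHom (algebraMap A S)] [Algebra.FormallySmooth A S] [CharP (ResidueField S) p]
    (hpS : (p : S) ∈ maximalIdeal S ^ 2) (t gS : Fin r → S) (FS : Fin r → maximalIdeal S)
    (hFS : ∀ i, (FS i : S) = t i ^ p + (p : S) * gS i - algebraMap A S (f i))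
    {T : Type u} [CommRing T] [IsLocalRing T] [IsNoetherianRing T] (σ : S →+* T) (hσ : Function.Surjective σ)
    (hkerσ : RingHom.ker σ = (maximalIdeal A).map (algebraMap A S))
    (hT : (maximalIdeal T).spanFinrank = r)
    {B : Type u} [CommRing B] [IsLocalRing B] [IsNoetherianRing B] (ρ : S →+* B) (hρsurj : Function.Surjective ρ)
    (hkerρ : RingHom.ker ρ = Ideal.span (Set.range fun i => (FS i : S))) :
    (maximalIdeal B).spanFinrank = (maximalIdeal A).spanFinrank ↔
      LinearIndependent (ResidueField A)
        (fun i => (1 : ResidueField A) ⊗ₜ[A] KaehlerDifferential.D ℤ A (f i)) := by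
  classical
  -- generators of the maximal ideal of `A`
  let bA := Module.finBasis (ResidueField A) (CotangentSpace A)
  choose x hx using fun j => Ideal.toCotangent_surjective (maximalIdeal A) (bA j)
  have hnA : (maximalIdeal A).spanFinrank = Module.finrank (ResidueField A) (CotangentSpace A) :=
    spanFinrank_maximalIdeal_eq_finrank_cotangentSpace A
  have hxgen : maximalIdeal A = Ideal.span (Set.range fun j => (x j : A)) := by
    have h1 := (CotangentSpace.span_image_eq_top_iff (R := A) (s := Set.range x)).1 (by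
      rw [← Set.range_comp, show (maximalIdeal A).toCotangent ∘ x = bA from funext hx, bA.span_eq])
    have h2 := congrArg (Submodule.map (maximalIdeal A).subtype) h1
    rw [Submodule.map_span, ← Set.range_comp, Submodule.map_top, Submodule.range_subtype] at h2
    exact h2.symm
  let xS : _ → maximalIdeal S := fun j => ⟨algebraMap A S (x j), map_nonunit _ _ (x j).2⟩
  have hxS : LinearIndependent (ResidueField S) fun j => (maximalIdeal S).toCotangent (xS j) := by
    rw [linearIndependent_toCotangent_iff p hpS]
    show LinearIndependent (ResidueField S) fun j => (1 : ResidueField S) ⊗ₜ[S]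
      KaehlerDifferential.D ℤ S (algebraMap A S (x j : A))
    rw [linearIndependent_D_algebraMap_iff (S := S) (fun j => (x j : A)), ← linearIndependent_toCotangent_iff p hp]
    convert bA.linearIndependent using 1
    exact funext hx
  have hkerσ' : RingHom.ker σ = Ideal.span (Set.range fun j => (xS j : S)) := by
    rw [hkerσ]
    refine (congrArg (Ideal.map (algebraMap A S)) hxgen).trans ?_
    rw [Ideal.map_span, ← Set.range_comp]
    rfl
  have hfib := spanFinrank_quotient_add σ hσ xS hkerσ'
  rw [hT, finrank_span_eq_card hxS, Fintype.card_fin, ← hnA] at hfib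
  have hB := spanFinrank_quotient_add ρ hρsurj FS hkerρ
  have hD : (fun i => (1 : ResidueField S) ⊗ₜ[S] KaehlerDifferential.D ℤ S (FS i : S)) =
      fun i => (-1 : ℤˣ) • ((1 : ResidueField S) ⊗ₜ[S] KaehlerDifferential.D ℤ S (algebraMap A S (f i))) := by
    funext i
    rw [hFS i, map_sub, map_add, Derivation.leibniz_pow, Derivation.leibniz, Derivation.map_natCast,
      smul_zero, add_zero, ← Nat.cast_smul_eq_nsmul S, TensorProduct.tmul_sub, TensorProduct.tmul_add]
    have h0 : ∀ v : Ω[S⁄ℤ], (1 : ResidueField S) ⊗ₜ[S] ((p : S) • v) = 0 := fun v =>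
      (one_tmul_eq_zero_iff _).2 (Submodule.smul_mem_smul (Ideal.pow_le_self two_ne_zero hpS) trivial)
    rw [h0, h0, add_zero, zero_sub, Units.smul_def, Units.val_neg, Units.val_one, neg_smul, one_smul]
  have hrank : LinearIndependent (ResidueField S) (fun i => (maximalIdeal S).toCotangent (FS i)) ↔
      LinearIndependent (ResidueField A)
        (fun i => (1 : ResidueField A) ⊗ₜ[A] KaehlerDifferential.D ℤ A (f i)) := by
    rw [linearIndependent_toCotangent_iff p hpS, hD, ← linearIndependent_D_algebraMap_iff (S := S) f]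
    exact LinearIndependent.group_smul_iff
      (fun i => (1 : ResidueField S) ⊗ₜ[S] KaehlerDifferential.D ℤ S (algebraMap A S (f i)))
      (fun _ : Fin r => (-1 : ℤˣ))
  rw [← hrank, linearIndependent_iff_card_eq_finrank_span, Fintype.card_fin, Set.finrank]
  constructor <;> intro h <;> omega

set_option maxHeartbeats 1600000 in
theorem spanFinrank_roots_aux [IsNoetherianRing A] (hp : (p : A) ∈ maximalIdeal A ^ 2)
    [IsLocalRing (MvPolynomial (Fin r) A ⧸ rootIdeal p g f)]
    (M : Ideal (MvPolynomial (Fin r) A)) [M.IsMaximal]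
    (hM : M = (maximalIdeal (MvPolynomial (Fin r) A ⧸ rootIdeal p g f)).comap (Ideal.Quotient.mk _))
    (hMC : ∀ a : A, C a ∈ M ↔ a ∈ maximalIdeal A)
    (S : Type u) [CommRing S] [IsLocalRing S] [Algebra (MvPolynomial (Fin r) A) S] [Algebra A S]
    [IsScalarTower A (MvPolynomial (Fin r) A) S] [IsLocalization.AtPrime S M] :
    (maximalIdeal (MvPolynomial (Fin r) A ⧸ rootIdeal p g f)).spanFinrank = (maximalIdeal A).spanFinrank ↔
      LinearIndependent (ResidueField A)
        (fun i => (1 : ResidueField A) ⊗ₜ[A] KaehlerDifferential.D ℤ A (f i)) := by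
  classical
  let P := MvPolynomial (Fin r) A
  let I := rootIdeal p g f
  let B := P ⧸ I
  have hAS : ∀ a : A, algebraMap A S a = algebraMap P S (C a) := fun a =>
    IsScalarTower.algebraMap_apply A P S a
  have hmemS : ∀ y : P, algebraMap P S y ∈ maximalIdeal S ↔ y ∈ M := fun y =>
    IsLocalization.AtPrime.to_map_mem_maximal_iff S M y
  haveI : IsLocalHom (algebraMap A S) := ⟨fun a ha => by
    by_contra h
    exact (mem_maximalIdeal _).1 ((hmemS _).2 ((hMC a).2 h)) (hAS a ▸ ha)⟩
  haveI : Algebra.FormallySmooth A S := by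
    haveI : Algebra.FormallySmooth P S := Algebra.FormallySmooth.of_isLocalization M.primeCompl
    exact Algebra.FormallySmooth.comp A P S
  have hpS : (p : S) ∈ maximalIdeal S ^ 2 := by
    rw [← map_natCast (algebraMap A S)]
    have h1 := Ideal.mem_map_of_mem (algebraMap A S) hp
    rw [Ideal.map_pow] at h1
    refine Ideal.pow_right_mono (Ideal.map_le_iff_le_comap.2 fun a ha => ?_) 2 h1
    rw [Ideal.mem_comap, hAS]; exact (hmemS _).2 ((hMC a).2 ha)
  haveI : CharP (ResidueField S) p := (CharP.charP_iff_prime_eq_zero (Fact.out : p.Prime)).2 (by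
    rw [← map_natCast (residue S), residue_eq_zero_iff]; exact Ideal.pow_le_self two_ne_zero hpS)
  haveI : IsNoetherianRing S := IsLocalization.isNoetherianRing M.primeCompl _ inferInstance
  -- the closed fibre
  let mP : Ideal P := (maximalIdeal A).map (C : A →+* P)
  let IS : Ideal S := mP.map (algebraMap P S)
  have hmPM : mP ≤ M := Ideal.map_le_iff_le_comap.2 fun a ha => (hMC a).2 ha
  have hIS : IS ≤ maximalIdeal S := Ideal.map_le_iff_le_comap.2 fun y hy => (hmemS y).2 (hmPM hy)
  haveI : Nontrivial (S ⧸ IS) := Ideal.Quotient.nontrivial_iff.2 fun h =>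
    (maximalIdeal.isMaximal S).ne_top (top_le_iff.1 (h ▸ hIS))
  haveI : IsLocalRing (S ⧸ IS) := .of_surjective' _ Ideal.Quotient.mk_surjective
  have hSr : (maximalIdeal (S ⧸ IS)).spanFinrank = r :=
    spanFinrank_fibre (K := ResidueField A) M mP hmPM (quotientEquivQuotientMvPolynomial (maximalIdeal A)).toRingEquiv
  have hkerIS : RingHom.ker (Ideal.Quotient.mk IS) = (maximalIdeal A).map (algebraMap A S) := by
    rw [Ideal.mk_ker]
    show ((maximalIdeal A).map (C : A →+* P)).map (algebraMap P S) = _
    rw [Ideal.map_map]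
    exact congrArg (fun φ => Ideal.map φ (maximalIdeal A)) (RingHom.ext fun a => (hAS a).symm)
  -- the root extension
  let ρ : S →+* B := IsLocalization.lift (M := M.primeCompl) (g := Ideal.Quotient.mk I)
    fun y => notMem_maximalIdeal.1 fun h => y.2 (hM ▸ h)
  have hρP : ∀ y, ρ (algebraMap P S y) = Ideal.Quotient.mk I y := fun y => IsLocalization.lift_eq _ y
  have hρsurj : Function.Surjective ρ := fun b => by
    obtain ⟨y, rfl⟩ := Ideal.Quotient.mk_surjective b
    exact ⟨_, hρP y⟩
  have hFM : ∀ i, algebraMap P S (rootRel p g f i) ∈ maximalIdeal S := fun i => (hmemS _).2 (by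
    rw [hM, Ideal.mem_comap, Ideal.Quotient.eq_zero_iff_mem.2 (Ideal.subset_span (Set.mem_range_self i))]
    exact zero_mem _)
  let FS : Fin r → maximalIdeal S := fun i => ⟨_, hFM i⟩
  have hkerρ : RingHom.ker ρ = Ideal.span (Set.range fun i => (FS i : S)) := by
    refine le_antisymm (fun z hz => ?_) (Ideal.span_le.2 ?_)
    · obtain ⟨⟨y, t⟩, hyt⟩ := IsLocalization.surj M.primeCompl z
      have h1 : y ∈ I := by
        rw [← Ideal.Quotient.eq_zero_iff_mem, ← hρP, ← hyt, map_mul, RingHom.mem_ker.1 hz, zero_mul]
      have h2 : algebraMap P S y ∈ Ideal.span (Set.range fun i => (FS i : S)) := by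
        have h3 := Ideal.mem_map_of_mem (algebraMap P S) h1
        rw [Ideal.map_span, ← Set.range_comp] at h3
        exact h3
      rw [← hyt] at h2
      exact (Ideal.mul_unit_mem_iff_mem _ (IsLocalization.map_units S t)).1 h2
    · rintro _ ⟨i, rfl⟩
      rw [SetLike.mem_coe, RingHom.mem_ker, hρP, Ideal.Quotient.eq_zero_iff_mem]
      exact Ideal.subset_span (Set.mem_range_self i)
  haveI : IsNoetherianRing B := inferInstance
  exact spanFinrank_core p f hp hpS (fun i => algebraMap P S (X i)) (fun i => algebraMap P S (g i)) FS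
    (fun i => by
      show algebraMap P S (rootRel p g f i) = _
      simp [rootRel, hAS, P])
    (Ideal.Quotient.mk IS) Ideal.Quotient.mk_surjective hkerIS hSr ρ hρsurj hkerρ

/-- Same cotangent dimension iff the differentials of the radicands are independent. -/
theorem spanFinrank_roots_eq_iff [IsNoetherianRing A] (hp : (p : A) ∈ maximalIdeal A ^ 2)
    [Algebra.IsIntegral A (MvPolynomial (Fin r) A ⧸ rootIdeal p g f)]
    [IsLocalRing (MvPolynomial (Fin r) A ⧸ rootIdeal p g f)] :
    (maximalIdeal (MvPolynomial (Fin r) A ⧸ rootIdeal p g f)).spanFinrank = (maximalIdeal A).spanFinrank ↔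
      LinearIndependent (ResidueField A)
        (fun i => (1 : ResidueField A) ⊗ₜ[A] KaehlerDifferential.D ℤ A (f i)) := by
  classical
  let P := MvPolynomial (Fin r) A
  let I := rootIdeal p g f
  let B := P ⧸ I
  let M : Ideal P := (maximalIdeal B).comap (Ideal.Quotient.mk I)
  haveI hMmax : M.IsMaximal := Ideal.comap_isMaximal_of_surjective _ Ideal.Quotient.mk_surjective
  have hMC : ∀ a : A, C a ∈ M ↔ a ∈ maximalIdeal A := fun a => by
    have hc : (maximalIdeal B).comap (algebraMap A B) = maximalIdeal A :=
      IsLocalRing.eq_maximalIdeal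
        (Ideal.isMaximal_comap_of_isIntegral_of_isMaximal (R := A) (maximalIdeal B))
    rw [← hc]; rfl
  exact spanFinrank_roots_aux p g f hp M rfl hMC (Localization.AtPrime M)

omit [IsLocalRing A] [CharP (ResidueField A) p] in
theorem isIntegral_roots (q : Fin r → Polynomial A) (hq : ∀ i, (q i).Monic)
    (hqX : ∀ i, Polynomial.aeval (X i : MvPolynomial (Fin r) A) (q i) = rootRel p g f i) :
    Algebra.IsIntegral A (MvPolynomial (Fin r) A ⧸ rootIdeal p g f) := by
  refine ⟨fun b => ?_⟩
  obtain ⟨y, rfl⟩ := Ideal.Quotient.mk_surjective b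
  induction y using MvPolynomial.induction_on with
  | C a => exact isIntegral_algebraMap
  | add u v hu hv => rw [map_add]; exact hu.add hv
  | mul_X u i hu =>
    rw [map_mul]
    refine hu.mul ⟨q i, hq i, ?_⟩
    rw [← Polynomial.aeval_def]
    have h1 := Polynomial.aeval_algHom_apply (Ideal.Quotient.mkₐ A (rootIdeal p g f)) (X i) (q i)
    rw [hqX i] at h1
    exact h1.trans (Ideal.Quotient.eq_zero_iff_mem.2 (Ideal.subset_span (Set.mem_range_self i)))

end Roots

end Groth.Agent.SymGr
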