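import Groth.Agent.SymGr.Subfields
import Groth.Agent.PBasis.Separable
import Mathlib

/-! Differentials relative to a decreasing family of intermediate fields. -/

set_option autoImplicit false

namespace Groth.Agent.SymGr

universe u

open TensorProduct EGA41

variable {p : ℕ} [Fact p.Prime] {k₀ K : Type u} [Field k₀] [Field K] [Algebra k₀ K] [CharP K p]

/-- Differentials over an intermediate field kill it and the `p`-th powers. -/
theorem D_eq_zero_of_mem {F : IntermediateField k₀ K} {x : K}
    (hx : x ∈ F ⊔ IntermediateField.adjoin k₀ (Set.range fun y : K => y ^ p)) :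
    KaehlerDifferential.D F K x = 0 := by
  let E : IntermediateField k₀ K :=
    { carrier := {y | KaehlerDifferential.D F K y = 0}
      mul_mem' := fun {a b} ha hb => by
        simp only [Set.mem_setOf_eq] at ha hb ⊢; rw [Derivation.leibniz, ha, hb, smul_zero, smul_zero, add_zero]
      add_mem' := fun {a b} ha hb => by
        simp only [Set.mem_setOf_eq] at ha hb ⊢; rw [map_add, ha, hb, add_zero]
      algebraMap_mem' := fun c => by
        show KaehlerDifferential.D F K (algebraMap k₀ K c) = 0
        rw [IsScalarTower.algebraMap_apply k₀ F K, Derivation.map_algebraMap]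
      inv_mem' := fun a ha => by
        simp only [Set.mem_setOf_eq] at ha ⊢; rw [Derivation.leibniz_inv, ha, smul_zero] }
  have h1 : F ⊔ IntermediateField.adjoin k₀ (Set.range fun y : K => y ^ p) ≤ E := by
    refine sup_le (fun y hy => ?_) (IntermediateField.adjoin_le_iff.2 ?_)
    · show KaehlerDifferential.D F K (algebraMap F K ⟨y, hy⟩) = 0
      exact Derivation.map_algebraMap _ _
    · rintro _ ⟨y, rfl⟩
      show KaehlerDifferential.D F K (y ^ p) = 0
      rw [Derivation.leibniz_pow, ← Nat.cast_smul_eq_nsmul K, CharP.cast_eq_zero, zero_smul]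
  exact h1 hx

/-- An element outside `k₀(K^p)` has a non-zero differential. -/
theorem D_ne_zero_of_notMem {x : K} (hx : x ∉ IntermediateField.adjoin k₀ (Set.range fun y : K => y ^ p)) :
    KaehlerDifferential.D k₀ K x ≠ 0 := fun h => by
  obtain ⟨D, -, hD⟩ := Groth.Agent.PBasis.exists_derivation_apply_eq_one (p := p)
    (IntermediateField.adjoin k₀ (Set.range fun y : K => y ^ p))
    (fun y => IntermediateField.subset_adjoin _ _ ⟨y, rfl⟩) hx
  have h1 := congrArg D.liftKaehlerDifferential h
  rw [Derivation.liftKaehlerDifferential_comp_D, hD, map_zero] at h1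
  exact one_ne_zero h1

variable {ι : Type u} [Preorder ι] [IsDirected ι (· ≤ ·)] [Nonempty ι] {k : ι → IntermediateField k₀ K}

/-- `p`-independence over the intersection descends to members of the family. -/
theorem exists_linearIndependent_D (hk : Antitone k)
    (h : (⨅ i, k i ⊔ IntermediateField.adjoin k₀ (Set.range fun y : K => y ^ p)) =
      IntermediateField.adjoin k₀ (Set.range fun y : K => y ^ p))
    {σ : Type u} [Finite σ] (x : σ → K)
    (hx : LinearIndependent K fun j => KaehlerDifferential.D k₀ K (x j)) :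
    ∃ i₀, ∀ i, i₀ ≤ i → LinearIndependent K fun j => KaehlerDifferential.D (k i) K (x j) := by
  classical
  have hxp : IsPIndependent p k₀ x := (Groth.Agent.PBasis.isPIndependent_iff_linearIndependent x).2 hx
  let Ex := {e : σ →₀ ℕ // ∀ j, e j < p}
  haveI : Finite Ex := Finite.of_injective (fun e (j : σ) => (⟨e.1 j, e.2 j⟩ : Fin p))
    fun e e' h => Subtype.ext (Finsupp.ext fun j => congrArg Fin.val (congrFun h j))
  letI : Fintype Ex := Fintype.ofFinite _
  let F : ι → Subfield K := fun i => (k i ⊔ IntermediateField.adjoin k₀ (Set.range fun y : K => y ^ p)).toSubfield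
  have hF : Antitone F := fun a b hab =>
    show k b ⊔ _ ≤ k a ⊔ _ from sup_le_sup_right (hk hab) _
  have hle : ∀ c, (∀ i, c ∈ F i) → c ∈ pPowerSubalgebra p k₀ K := by
    intro c hc
    have h1 : c ∈ IntermediateField.adjoin k₀ (Set.range fun y : K => y ^ p) := by
      rw [← h, ← SetLike.mem_coe, IntermediateField.coe_iInf, Set.mem_iInter]; exact hc
    have h2 := Groth.Agent.PBasis.intermediateField_adjoin_eq (p := p) (k := k₀) (∅ : Set K)
    rw [Set.union_empty, Algebra.adjoin_empty] at h2
    rw [← SetLike.mem_coe, h2] at h1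
    obtain ⟨d, rfl⟩ := h1
    exact d.2
  obtain ⟨i₀, hi₀⟩ := exists_independent_member F hF (fun e : Ex => pMonomial x e.1) Finset.univ
    (fun c hc hsum e _ => by
      exact congrArg Subtype.val (Fintype.linearIndependent_iff.1 hxp
        (fun j => ⟨c j, hle _ fun i => hc i j (Finset.mem_univ j)⟩)
        (by simpa [Subalgebra.smul_def] using hsum) e))
  refine ⟨i₀, fun i hi => (Groth.Agent.PBasis.isPIndependent_iff_linearIndependent x).1 ?_⟩
  rw [IsPIndependent, Fintype.linearIndependent_iff]
  intro g hg e
  have hmem : ∀ c ∈ pPowerSubalgebra p (k i) K, c ∈ F i := by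
    intro c hc
    induction hc using Algebra.adjoin_induction with
    | mem y hy =>
      obtain ⟨w, rfl⟩ := hy
      exact (le_sup_right : _ ≤ k i ⊔ IntermediateField.adjoin k₀ (Set.range fun y : K => y ^ p))
        (IntermediateField.subset_adjoin _ _ ⟨w, rfl⟩)
    | algebraMap r => exact (le_sup_left : k i ≤ k i ⊔ _) r.2
    | add _ _ _ _ h1 h2 => exact add_mem h1 h2
    | mul _ _ _ _ h1 h2 => exact mul_mem h1 h2
  refine Subtype.ext ?_
  exact hi₀ (fun j => (g j : K)) (fun j _ => hF hi (hmem _ (g j).2))
    (by simpa [Subalgebra.smul_def] using hg) e (Finset.mem_univ e)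

omit [Preorder ι] [IsDirected ι (· ≤ ·)] [Nonempty ι] in
include p in
/-- A finite dimensional subspace involves finitely many elements of a `p`-basis. -/
theorem exists_finset_span (L : Type u) [Field L] [Algebra K L] (W : Submodule L (L ⊗[K] Ω[K⁄k₀]))
    [Module.Finite L W] :
    ∃ (σ : Type u) (_ : Finite σ) (x : σ → K), (LinearIndependent K fun j => KaehlerDifferential.D k₀ K (x j)) ∧
      W ≤ Submodule.span L (Set.range fun j => (1 : L) ⊗ₜ[K] KaehlerDifferential.D k₀ K (x j)) := by
  classical
  obtain ⟨S, hS⟩ := Groth.Agent.PBasis.exists_pBasis p k₀ K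
  let b : Module.Basis S K (Ω[K⁄k₀]) :=
    Module.Basis.mk ((Groth.Agent.PBasis.isPIndependent_iff_linearIndependent _).1 hS.1)
      ((Groth.Agent.PBasis.isPGenerating_iff_span _).1 hS.2).ge
  let B : Module.Basis S L (L ⊗[K] Ω[K⁄k₀]) := Algebra.TensorProduct.basis L b
  obtain ⟨U, hU⟩ := (Module.Finite.iff_fg (N := W)).1 inferInstance
  let T : Finset S := U.biUnion fun w => (B.repr w).support
  refine ⟨↥T, inferInstance, fun j => ((j : S) : K),
    ((Groth.Agent.PBasis.isPIndependent_iff_linearIndependent _).1 hS.1).comp _ Subtype.val_injective, ?_⟩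
  rw [← hU, Submodule.span_le]
  intro w hw
  rw [SetLike.mem_coe, ← B.linearCombination_repr w, Finsupp.linearCombination_apply, Finsupp.sum]
  refine Submodule.sum_mem _ fun s hs => Submodule.smul_mem _ _ (Submodule.subset_span ?_)
  exact ⟨⟨s, Finset.mem_biUnion.2 ⟨w, hw, hs⟩⟩, by simp [B, b]⟩

omit [Preorder ι] [IsDirected ι (· ≤ ·)] [Nonempty ι] in
/-- Injectivity on the span of differentials which stay independent. -/
theorem eq_zero_of_mem_span (L : Type u) [Field L] [Algebra K L] {σ : Type u} [Finite σ] (x : σ → K)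
    (F : IntermediateField k₀ K) (hx : LinearIndependent K fun j => KaehlerDifferential.D F K (x j))
    {ω : L ⊗[K] Ω[K⁄k₀]}
    (hω : ω ∈ Submodule.span L (Set.range fun j => (1 : L) ⊗ₜ[K] KaehlerDifferential.D k₀ K (x j)))
    (h0 : ((KaehlerDifferential.map k₀ F K K).restrictScalars K).baseChange L ω = 0) : ω = 0 := by
  letI := Fintype.ofFinite σ
  obtain ⟨c, rfl⟩ := (Submodule.mem_span_range_iff_exists_fun L).1 hω
  have hli := Module.Flat.linearIndependent_one_tmul (S := L) hx
  rw [map_sum] at h0
  simp only [map_smul, LinearMap.baseChange_tmul, LinearMap.restrictScalars_apply, KaehlerDifferential.map_D,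
    Algebra.algebraMap_self, RingHom.id_apply] at h0
  simp [Fintype.linearIndependent_iff.1 hli c h0]

/-- Injectivity on a finite dimensional subspace for large members. -/
theorem exists_injOn (hk : Antitone k)
    (h : (⨅ i, k i ⊔ IntermediateField.adjoin k₀ (Set.range fun y : K => y ^ p)) =
      IntermediateField.adjoin k₀ (Set.range fun y : K => y ^ p))
    (L : Type u) [Field L] [Algebra K L] (W : Submodule L (L ⊗[K] Ω[K⁄k₀])) [Module.Finite L W] :
    ∃ i₀, ∀ i, i₀ ≤ i → ∀ ω ∈ W,
      ((KaehlerDifferential.map k₀ (k i) K K).restrictScalars K).baseChange L ω = 0 → ω = 0 := by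
  obtain ⟨σ, _, x, hx, hW⟩ := exists_finset_span (p := p) L W
  obtain ⟨i₀, hi₀⟩ := exists_linearIndependent_D hk h x hx
  exact ⟨i₀, fun i hi ω hω => eq_zero_of_mem_span L x (k i) (hi₀ i hi) (hW hω)⟩

end Groth.Agent.SymGr
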