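import Groth.Agent.SymGr.NagataJac
import Mathlib

/-! The Jacobian criterion of formal smoothness at a prime: the easy direction, and independence of
the differentials of a regular system of equations of a formally smooth quotient. -/

set_option autoImplicit false

namespace Groth.Agent.SymGr

universe u

open TensorProduct IsLocalRing

/-- Adic formal smoothness is transitive over a formally smooth field extension. -/
theorem isAdicFormallySmooth_restrictScalars {k K₀ A : Type u} [CommRing k] [CommRing K₀] [CommRing A]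
    [Algebra k K₀] [Algebra K₀ A] [Algebra k A] [IsScalarTower k K₀ A] [Algebra.FormallySmooth k K₀]
    (I : Ideal A) (h : CAlgX.IsAdicFormallySmooth K₀ A I) : CAlgX.IsAdicFormallySmooth k A I := by
  intro C _ _ J hJ ψ hψ
  let g : K₀ →ₐ[k] C := Algebra.FormallySmooth.lift J ⟨2, hJ⟩ (ψ.comp (IsScalarTower.toAlgHom k K₀ A))
  letI : Algebra K₀ C := g.toRingHom.toAlgebra
  have hg : ∀ c : K₀, Ideal.Quotient.mk J (g c) = ψ (algebraMap K₀ A c) := fun c =>
    Algebra.FormallySmooth.mk_lift J ⟨2, hJ⟩ (ψ.comp (IsScalarTower.toAlgHom k K₀ A)) c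
  let ψ' : A →ₐ[K₀] C ⧸ J := { ψ.toRingHom with commutes' := fun c => (hg c).symm }
  obtain ⟨χ, hχ⟩ := h C J hJ ψ' hψ
  refine ⟨{ χ.toRingHom with
    commutes' := fun c => by
      show χ (algebraMap k A c) = algebraMap k C c
      rw [IsScalarTower.algebraMap_apply k K₀ A, χ.commutes]
      exact g.commutes c }, AlgHom.ext fun a => AlgHom.congr_fun hχ a⟩

/-- The determinant condition gives formal smoothness of the quotient. -/
theorem isAdicFormallySmooth_quotient_of_det {k A : Type u} [CommRing k] [CommRing A] [Algebra k A]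
    (P q : Ideal A) [P.IsPrime] (hq : q ≤ P) [(P.map (Ideal.Quotient.mk q)).IsPrime]
    (hA : CAlgX.IsAdicFormallySmooth k (Localization.AtPrime P) (maximalIdeal (Localization.AtPrime P)))
    {m : ℕ} (D : Fin m → Derivation k A A) (f : Fin m → A) (hf : ∀ i, f i ∈ q)
    (hgen : q.map (algebraMap A (Localization.AtPrime P)) =
      Ideal.span (Set.range fun i => algebraMap A (Localization.AtPrime P) (f i)))
    (hdet : Matrix.det (Matrix.of fun i j => D i (f j)) ∉ P) :
    CAlgX.IsAdicFormallySmooth k (Localization.AtPrime (P.map (Ideal.Quotient.mk q)))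
      (maximalIdeal (Localization.AtPrime (P.map (Ideal.Quotient.mk q)))) := by
  classical
  intro C _ _ J hJ ψ hψ
  let S := Localization.AtPrime P
  let P' := P.map (Ideal.Quotient.mk q)
  let Bn := Localization.AtPrime P'
  let π₀ : A →ₐ[k] Bn := IsScalarTower.toAlgHom k A Bn
  have hπ₀ : ∀ a, π₀ a = algebraMap (A ⧸ q) Bn (Ideal.Quotient.mk q a) := fun a =>
    IsScalarTower.algebraMap_apply A (A ⧸ q) Bn a
  have hπu : ∀ y : P.primeCompl, IsUnit (π₀ y) := fun y => by
    rw [hπ₀]
    exact IsLocalization.map_units Bn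
      (⟨_, fun h => y.2 ((Ideal.mem_quotient_iff_mem hq).1 h)⟩ : P'.primeCompl)
  let π : S →ₐ[k] Bn := IsLocalization.liftAlgHom (M := P.primeCompl) (f := π₀) hπu
  have hπ : ∀ a, π (algebraMap A S a) = π₀ a := fun a => IsLocalization.lift_eq _ a
  have hloc : (maximalIdeal S).map π ≤ maximalIdeal Bn := by
    rw [Ideal.map_le_iff_le_comap, ← IsLocalization.AtPrime.map_eq_maximalIdeal P S, Ideal.map_le_iff_le_comap]
    intro a ha
    rw [Ideal.mem_comap, Ideal.mem_comap, hπ, hπ₀, IsLocalization.AtPrime.to_map_mem_maximal_iff Bn P',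
      Ideal.mem_quotient_iff_mem hq]
    exact ha
  obtain ⟨N, hN⟩ := hψ
  obtain ⟨χ, hχ⟩ := hA C J hJ (ψ.comp π) ⟨N, fun x hx => hN _ (by
    have h1 := Ideal.mem_map_of_mem π hx
    rw [Ideal.map_pow] at h1
    exact Ideal.pow_right_mono hloc N h1)⟩
  have hχ' : ∀ s, Ideal.Quotient.mk J (χ s) = ψ (π s) := fun s => AlgHom.congr_fun hχ s
  let χA : A →ₐ[k] C := χ.comp (IsScalarTower.toAlgHom k A S)
  have hχA : ∀ a, χA a = χ (algebraMap A S a) := fun a => rfl
  let M : Matrix (Fin m) (Fin m) C := Matrix.of fun i j => χA (D i (f j))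
  have hM : IsUnit M.det := by
    rw [show M = χA.toRingHom.mapMatrix (Matrix.of fun i j => D i (f j)) from rfl, ← RingHom.map_det]
    exact (IsLocalization.map_units S (⟨_, hdet⟩ : P.primeCompl)).map χ
  have hfJ : ∀ j, χA (f j) ∈ J := fun j => by
    rw [← Ideal.Quotient.eq_zero_iff_mem, hχA, hχ', hπ, hπ₀, Ideal.Quotient.eq_zero_iff_mem.2 (hf j), map_zero,
      map_zero]
  let c : Fin m → C := Matrix.vecMul (fun j => -χA (f j)) M⁻¹
  have hcJ : ∀ i, c i ∈ J := fun i => by
    simp only [c, Matrix.vecMul, dotProduct]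
    exact Ideal.sum_mem _ fun j _ => Ideal.mul_mem_right _ _ (neg_mem (hfJ j))
  have hcc : ∀ i l, c i * c l = 0 := fun i l => by
    rw [← Ideal.mem_bot, ← hJ, sq]
    exact Ideal.mul_mem_mul (hcJ i) (hcJ l)
  let δ : A → C := fun a => ∑ i, c i * χA (D i a)
  have hδJ : ∀ a, δ a ∈ J := fun a => Ideal.sum_mem _ fun i _ => Ideal.mul_mem_right _ _ (hcJ i)
  have hδδ : ∀ a b, δ a * δ b = 0 := fun a b => by
    rw [← Ideal.mem_bot, ← hJ, sq]
    exact Ideal.mul_mem_mul (hδJ a) (hδJ b)
  have hδmul : ∀ a b, δ (a * b) = χA a * δ b + χA b * δ a := fun a b => by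
    simp only [δ, Derivation.leibniz, smul_eq_mul, map_add, map_mul, mul_add, Finset.sum_add_distrib, Finset.mul_sum]
    congr 1 <;> exact Finset.sum_congr rfl fun i _ => by ring
  let η : A →ₐ[k] C :=
    { toFun := fun a => χA a + δ a
      map_one' := by simp [δ, Derivation.map_one_eq_zero]
      map_mul' := fun a b => by
        rw [map_mul, hδmul]
        linear_combination -(hδδ a b)
      map_zero' := by simp [δ]
      map_add' := fun a b => by
        simp only [δ, map_add, mul_add, Finset.sum_add_distrib]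
        abel
      commutes' := fun r => by simp [δ] }
  have hη : ∀ a, Ideal.Quotient.mk J (η a) = ψ (π₀ a) := fun a => by
    show Ideal.Quotient.mk J (χA a + δ a) = _
    rw [map_add, Ideal.Quotient.eq_zero_iff_mem.2 (hδJ a), add_zero, hχA, hχ', hπ]
  have hηf : ∀ j, η (f j) = 0 := fun j => by
    show χA (f j) + δ (f j) = 0
    have h1 : Matrix.vecMul c M = fun j => -χA (f j) := by
      rw [Matrix.vecMul_vecMul, Matrix.nonsing_inv_mul _ hM, Matrix.vecMul_one]
    have h2 := congrFun h1 j
    simp only [Matrix.vecMul, dotProduct, M, Matrix.of_apply] at h2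
    exact add_eq_zero_iff_eq_neg.2 (by rw [show δ (f j) = _ from h2, neg_neg])
  have hunit : ∀ y : P.primeCompl, IsUnit (η y) := fun y => by
    have h1 : IsUnit (χA y) := (IsLocalization.map_units S y).map χ
    exact IsNilpotent.isUnit_add_left_of_commute ⟨2, by rw [sq, hδδ]⟩ h1 (Commute.all _ _)
  let ηS : S →ₐ[k] C := IsLocalization.liftAlgHom (M := P.primeCompl) (f := η) hunit
  have hηS : ∀ a, ηS (algebraMap A S a) = η a := fun a => IsLocalization.lift_eq _ a
  have hηq : ∀ x ∈ q, η x = 0 := fun x hx => by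
    rw [← hηS]
    have h1 : Ideal.span (Set.range fun i => algebraMap A S (f i)) ≤ RingHom.ker ηS := by
      rw [Ideal.span_le]
      rintro _ ⟨i, rfl⟩
      exact (hηS _).trans (hηf i)
    exact h1 (hgen ▸ Ideal.mem_map_of_mem _ hx)
  let ηq : (A ⧸ q) →ₐ[k] C := Ideal.Quotient.liftₐ q η hηq
  have hunit' : ∀ y : P'.primeCompl, IsUnit (ηq y) := fun y => by
    obtain ⟨a, ha⟩ := Ideal.Quotient.mk_surjective (y : A ⧸ q)
    rw [← ha]
    exact hunit ⟨a, fun h => y.2 (ha ▸ Ideal.mem_map_of_mem _ h)⟩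
  let res : Bn →ₐ[k] C := IsLocalization.liftAlgHom (M := P'.primeCompl) (f := ηq) hunit'
  refine ⟨res, ?_⟩
  refine AlgHom.coe_ringHom_injective (IsLocalization.ringHom_ext P'.primeCompl (RingHom.ext fun x => ?_))
  obtain ⟨a, rfl⟩ := Ideal.Quotient.mk_surjective x
  show Ideal.Quotient.mk J (res (algebraMap (A ⧸ q) Bn (Ideal.Quotient.mk q a))) =
    ψ (algebraMap (A ⧸ q) Bn (Ideal.Quotient.mk q a))
  rw [show res (algebraMap (A ⧸ q) Bn (Ideal.Quotient.mk q a)) = η a from IsLocalization.lift_eq _ _, hη, hπ₀]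

/-- For a formally smooth quotient, equations independent modulo the square of the maximal ideal have
independent differentials at the closed point. -/
theorem linearIndependent_D_of_formallySmooth_quotient {k S B : Type u} [CommRing k] [CommRing S] [IsLocalRing S]
    [CommRing B] [IsLocalRing B] [Algebra k S] [Algebra k B] (π : S →ₐ[k] B) (hπ : Function.Surjective π)
    (hB : CAlgX.IsAdicFormallySmooth k B (maximalIdeal B))
    {m : ℕ} (f : Fin m → S) (hf : ∀ i, π (f i) = 0)
    (hli : ∀ a : Fin m → S, ∑ i, a i * f i ∈ maximalIdeal S ^ 2 → ∀ i, a i ∈ maximalIdeal S) :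
    LinearIndependent (ResidueField S) fun i => (1 : ResidueField S) ⊗ₜ[S] KaehlerDifferential.D k S (f i) := by
  classical
  have hfm : ∀ i, f i ∈ maximalIdeal S := fun i => by
    rw [mem_maximalIdeal, mem_nonunits_iff]
    intro hu
    exact not_isUnit_zero (M₀ := B) (hf i ▸ hu.map π)
  let I := RingHom.ker π
  let C := S ⧸ maximalIdeal S ^ 2
  let mk2 := Ideal.Quotient.mk (maximalIdeal S ^ 2)
  let J : Ideal C := I.map mk2
  have hI : I ≤ maximalIdeal S := le_maximalIdeal (RingHom.ker_ne_top _)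
  have hJm : J ≤ (maximalIdeal S).map mk2 := Ideal.map_mono hI
  have hJ : J ^ 2 = ⊥ := le_bot_iff.1 ((Ideal.pow_right_mono hJm 2).trans (by
    rw [← Ideal.map_pow, Ideal.map_quotient_self]))
  let q₁ : S →ₐ[k] C ⧸ J := (Ideal.Quotient.mkₐ k J).comp (Ideal.Quotient.mkₐ k (maximalIdeal S ^ 2))
  let ψ : B →ₐ[k] C ⧸ J := AlgHom.liftOfSurjective π hπ q₁ fun x hx =>
    Ideal.Quotient.eq_zero_iff_mem.2 (Ideal.mem_map_of_mem _ hx)
  have hψ : ∀ s, ψ (π s) = Ideal.Quotient.mk J (mk2 s) := fun s =>
    AlgHom.liftOfSurjective_apply π hπ q₁ (fun x hx =>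
      Ideal.Quotient.eq_zero_iff_mem.2 (Ideal.mem_map_of_mem _ hx)) s
  haveI : IsLocalHom π.toRingHom := IsLocalHom.of_surjective _ hπ
  obtain ⟨χ, hχ⟩ := hB C J hJ ψ ⟨2, fun x hx => by
    rw [← IsLocalRing.map_maximalIdeal_of_surjective π.toRingHom hπ, ← Ideal.map_pow] at hx
    obtain ⟨s, hs, rfl⟩ := (Ideal.mem_map_iff_of_surjective π.toRingHom hπ).1 hx
    show ψ (π s) = 0
    rw [hψ, Ideal.Quotient.eq_zero_iff_mem.2 (by
      show mk2 s ∈ J
      rw [Ideal.Quotient.eq_zero_iff_mem.2 hs]; exact zero_mem _)]⟩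
  let E : S → C := fun s => mk2 s - χ (π s)
  have hEJ : ∀ s, E s ∈ J := fun s => by
    have h1 := AlgHom.congr_fun hχ (π s)
    rw [← Ideal.Quotient.eq_zero_iff_mem, map_sub, ← hψ s, sub_eq_zero]
    exact h1.symm
  have hE : ∀ s, E s ∈ (maximalIdeal S).cotangentIdeal := fun s => by
    obtain ⟨z, hz, hzE⟩ := (Ideal.mem_map_iff_of_surjective mk2 Ideal.Quotient.mk_surjective).1 (hJm (hEJ s))
    rw [← hzE]
    exact Submodule.mem_map_of_mem hz
  let e := (maximalIdeal S).cotangentEquivIdeal
  let dlin : S →ₗ[k] CotangentSpace S :=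
    { toFun := fun s => e.symm ⟨E s, hE s⟩
      map_add' := fun a b => by
        rw [← map_add]
        congr 1
        refine Subtype.ext ?_
        show E (a + b) = E a + E b
        simp [E, add_sub_add_comm]
      map_smul' := fun r a => by
        rw [RingHom.id_apply, ← algebraMap_smul S r (e.symm _), ← map_smul]
        congr 1
        refine Subtype.ext ?_
        show E (r • a) = algebraMap k S r • E a
        rw [algebraMap_smul]
        simp [E, Algebra.smul_def, mk2]
        exact (mul_sub _ _ _).symm }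
  let d : Derivation k S (CotangentSpace S) := Derivation.mk' dlin fun a b => by
    show e.symm ⟨E (a * b), hE _⟩ = a • e.symm ⟨E b, hE b⟩ + b • e.symm ⟨E a, hE a⟩
    rw [← map_smul, ← map_smul, ← map_add]
    congr 1
    refine Subtype.ext ?_
    have h0 : E a * E b = 0 := Ideal.mem_bot.1 (hJ.le ((sq J).ge (Ideal.mul_mem_mul (hEJ a) (hEJ b))))
    show E (a * b) = a • E b + b • E a
    simp only [E, map_mul, Algebra.smul_def] at h0 ⊢
    change _ = mk2 a * _ + mk2 b * _
    linear_combination -h0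
  have hd : ∀ i, d (f i) = (maximalIdeal S).toCotangent ⟨f i, hfm i⟩ := fun i => by
    show e.symm ⟨E (f i), hE _⟩ = _
    rw [LinearEquiv.symm_apply_eq]
    refine Subtype.ext ?_
    show E (f i) = _
    simp only [E, hf, map_zero, sub_zero]
    rfl
  let Λ : ResidueField S ⊗[S] Ω[S⁄k] →ₗ[ResidueField S] CotangentSpace S :=
    LinearMap.liftBaseChange (ResidueField S) d.liftKaehlerDifferential
  refine LinearIndependent.of_comp Λ (Fintype.linearIndependent_iff.2 fun g hg i => ?_)
  simp only [Function.comp_apply, Λ, LinearMap.liftBaseChange_tmul, one_smul,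
    Derivation.liftKaehlerDifferential_comp_D, hd] at hg
  choose a ha using fun i => residue_surjective (g i)
  rw [← ha i, residue_eq_zero_iff]
  refine hli a ?_ i
  have h1 : (maximalIdeal S).toCotangent (∑ i, a i • ⟨f i, hfm i⟩) = 0 := by
    rw [map_sum, ← hg]
    refine Finset.sum_congr rfl fun i _ => ?_
    rw [map_smul, ← ha i]
    exact (IsScalarTower.algebraMap_smul (ResidueField S) (a i) _).symm
  rw [Ideal.toCotangent_eq_zero] at h1
  simpa using h1

end Groth.Agent.SymGr
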