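import Groth.Agent.SymGr.SeriesSubfields
import Groth.Agent.SymGr.NagataJac
import Mathlib

/-! Differentials of Laurent series fields over cofinite coefficient subfields. -/

set_option autoImplicit false

namespace Groth.Agent.SymGr

universe u

open IsLocalRing EGA41

variable {K₀ : Type u} [Field K₀] {s : ℕ}

/-- Derivations killing a cofinite coefficient subfield kill the corresponding subseries. -/
theorem derivation_subSeries_eq_zero (F : Subfield K₀) [Module.Finite F K₀] (p : ℕ) [Fact p.Prime] [CharP K₀ p]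
    {R : Type u} [CommRing R] [Algebra (MvPowerSeries (Fin s) K₀) R] [Module.Finite (MvPowerSeries (Fin s) K₀) R]
    (δ : Derivation ℤ R R)
    (hF : ∀ c ∈ F, δ (algebraMap (MvPowerSeries (Fin s) K₀) R (MvPowerSeries.C c)) = 0) (g : MvPowerSeries (Fin s) F) :
    δ (algebraMap (MvPowerSeries (Fin s) K₀) R (subSeries F p (Fact.out : p.Prime).ne_zero g)) = 0 := by
  classical
  have hp : p ≠ 0 := (Fact.out : p.Prime).ne_zero
  let R' := MvPowerSeries (Fin s) K₀
  let B := MvPowerSeries (Fin s) F
  let ψ : B →+* R' := subSeries F p hp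
  letI algBR' : Algebra B R' := ψ.toAlgebra
  letI algBR : Algebra B R := ((algebraMap R' R).comp ψ).toAlgebra
  have : IsScalarTower B R' R := IsScalarTower.of_algebraMap_eq' rfl
  have : Module.Finite B R' := by
    obtain ⟨-, h⟩ := free_finite_subSeries (r := s) F p hp
    exact RingHom.Finite.comp (f := ψ.rangeRestrict) (g := (ψ.range).subtype)
      (show ((ψ.range).subtype).Finite from h) (RingHom.Finite.of_surjective _ ψ.rangeRestrict_surjective)
  have : Module.Finite B R := Module.Finite.trans R' R
  letI algFR : Algebra F R := ((algebraMap B R).comp (MvPowerSeries.C)).toAlgebra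
  have : IsScalarTower F B R := IsScalarTower.of_algebraMap_eq' rfl
  have : IsAdicComplete (maximalIdeal B) B := by
    rw [Groth.Agent.MvPSLib.maximalIdeal_eq]; infer_instance
  have : IsHausdorff (maximalIdeal B) R := CAlgH.Decay.isHausdorff_of_finite _ _
  have hC : ∀ c : F, algebraMap F R c = algebraMap R' R (MvPowerSeries.C (c : K₀)) := fun c => by
    show algebraMap R' R (subSeries F p hp (MvPowerSeries.C c)) = _
    simp [subSeries, MvPowerSeries.expand_C]
  let d : Derivation F B R := Derivation.mk'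
    { toFun := fun b => δ (algebraMap B R b)
      map_add' := fun a b => by rw [map_add, map_add]
      map_smul' := fun c b => by
        rw [Algebra.smul_def c b, map_mul, Derivation.leibniz, ← IsScalarTower.algebraMap_apply F B R, hC, hF _ c.2,
          smul_zero, add_zero, RingHom.id_apply, Algebra.smul_def c (δ _), hC, smul_eq_mul] }
    fun a b => by
      show δ (algebraMap B R (a * b)) = a • δ (algebraMap B R b) + b • δ (algebraMap B R a)
      rw [map_mul, Derivation.leibniz, Algebra.smul_def a, Algebra.smul_def b, smul_eq_mul, smul_eq_mul]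
  have h0 : d = 0 := mvPowerSeries_derivation_eq_zero d fun i => by
    show δ (algebraMap R' R (subSeries F p hp (MvPowerSeries.X i))) = 0
    have hX : subSeries F p hp (MvPowerSeries.X i) = (MvPowerSeries.X i : R') ^ p := by
      simp [subSeries, R', MvPowerSeries.expand_X]
    rw [hX, map_pow, Derivation.leibniz_pow, ← Nat.cast_smul_eq_nsmul R, show ((p : ℕ) : R) = 0 by
      rw [← map_natCast ((algebraMap R' R).comp MvPowerSeries.C), CharP.cast_eq_zero, map_zero], zero_smul]
  exact LinearMap.congr_fun (congrArg Derivation.toLinearMap h0) g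

variable {k : Type u} [Field k] [Algebra k K₀]

/-- The differentials of power series over a large subring of subseries are few. -/
theorem D_mem_span_series (F : IntermediateField k K₀) [Module.Finite F K₀] (p : ℕ) [Fact p.Prime]
    [CharP K₀ p] {N : ℕ} (t : Fin N → K₀)
    (ht : ⊤ ≤ Submodule.span K₀ (Set.range fun a => KaehlerDifferential.D F K₀ (t a))) (a₀ : MvPowerSeries (Fin s) K₀) :
    KaehlerDifferential.D (subSeries (σ := Fin s) F.toSubfield p (Fact.out : p.Prime).ne_zero).range (MvPowerSeries (Fin s) K₀) a₀ ∈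
      Submodule.span (MvPowerSeries (Fin s) K₀)
        (Set.range (fun a => KaehlerDifferential.D (subSeries (σ := Fin s) F.toSubfield p (Fact.out : p.Prime).ne_zero).range (MvPowerSeries (Fin s) K₀) (MvPowerSeries.C (t a))) ∪
          Set.range fun i => KaehlerDifferential.D (subSeries (σ := Fin s) F.toSubfield p (Fact.out : p.Prime).ne_zero).range (MvPowerSeries (Fin s) K₀) (MvPowerSeries.X i)) := by
  classical
  have hp : p ≠ 0 := (Fact.out : p.Prime).ne_zero
  have : Module.Finite F.toSubfield K₀ := ‹Module.Finite F K₀›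
  let R' := MvPowerSeries (Fin s) K₀
  let B := (subSeries (σ := Fin s) F.toSubfield p hp).range
  have : Module.Finite B R' := (free_finite_subSeries (r := s) F.toSubfield p hp).2
  have hCB : ∀ c : F, (MvPowerSeries.C (c : K₀) : R') ∈ B := fun c =>
    ⟨MvPowerSeries.C (⟨(c : K₀), c.2⟩ : F.toSubfield), by simp [subSeries, MvPowerSeries.expand_C]; rfl⟩
  let W₀ : Submodule R' Ω[R'⁄B] := Submodule.span R'
    (Set.range (fun a => KaehlerDifferential.D B R' (MvPowerSeries.C (t a))) ∪
      Set.range fun i => KaehlerDifferential.D B R' (MvPowerSeries.X i))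
  let δ : Derivation B R' (Ω[R'⁄B] ⧸ W₀) := W₀.mkQ.compDer (KaehlerDifferential.D B R')
  have hsmul : ∀ (c : K₀) (m : Ω[R'⁄B] ⧸ W₀), c • m = (MvPowerSeries.C c : R') • m := fun c m => by
    rw [← algebraMap_smul R' c m, MvPowerSeries.algebraMap_apply, Algebra.algebraMap_self, RingHom.id_apply]
  let δC : Derivation F K₀ (Ω[R'⁄B] ⧸ W₀) := Derivation.mk'
    { toFun := fun c => δ (MvPowerSeries.C c)
      map_add' := fun a b => by rw [map_add, map_add]
      map_smul' := fun c a => by
        rw [RingHom.id_apply, IntermediateField.smul_def c, IntermediateField.smul_def c, smul_eq_mul, hsmul,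
          map_mul, show (MvPowerSeries.C (c : K₀) : R') * MvPowerSeries.C a =
          (⟨_, hCB c⟩ : B) • (MvPowerSeries.C a : R') from rfl, Derivation.map_smul]
        rfl }
    fun a b => by
      show δ (MvPowerSeries.C (a * b)) = a • δ (MvPowerSeries.C b) + b • δ (MvPowerSeries.C a)
      rw [map_mul, Derivation.leibniz, hsmul, hsmul]
  have hδC : ∀ c, δC c = 0 := fun c => by
    have h1 : ∀ w : Ω[K₀⁄F], δC.liftKaehlerDifferential w = 0 := fun w => by
      have hw : w ∈ Submodule.span K₀ (Set.range fun a => KaehlerDifferential.D F K₀ (t a)) := ht trivial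
      induction hw using Submodule.span_induction with
      | mem x hx =>
        obtain ⟨a, rfl⟩ := hx
        rw [Derivation.liftKaehlerDifferential_comp_D]
        exact (Submodule.Quotient.mk_eq_zero _).2 (Submodule.subset_span (Or.inl ⟨a, rfl⟩))
      | zero => exact map_zero _
      | add x y _ _ hx hy => rw [map_add, hx, hy, add_zero]
      | smul r x _ hx => rw [map_smul, hx, smul_zero]
    rw [← Derivation.liftKaehlerDifferential_comp_D δC c, h1]
  have : IsAdicComplete (maximalIdeal R') R' := by
    rw [Groth.Agent.MvPSLib.maximalIdeal_eq]; infer_instance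
  have : Algebra.EssFiniteType B R' := inferInstance
  have : IsHausdorff (maximalIdeal R') (Ω[R'⁄B] ⧸ W₀) := CAlgH.Decay.isHausdorff_of_finite _ _
  let δ' : Derivation K₀ R' (Ω[R'⁄B] ⧸ W₀) := Derivation.mk'
    { toFun := δ
      map_add' := map_add δ
      map_smul' := fun c a => by
        rw [MvPowerSeries.smul_eq_C_mul, Derivation.leibniz, show δ (MvPowerSeries.C c) = 0 from hδC c,
          smul_zero, add_zero, RingHom.id_apply, hsmul] }
    fun a b => δ.leibniz a b
  have h0 : δ' = 0 := mvPowerSeries_derivation_eq_zero δ' fun i =>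
    (Submodule.Quotient.mk_eq_zero _).2 (Submodule.subset_span (Or.inr ⟨i, rfl⟩))
  exact (Submodule.Quotient.mk_eq_zero W₀).1 (LinearMap.congr_fun (congrArg Derivation.toLinearMap h0) a₀)

/-- The differentials of the Laurent series field over a large subfield are few. -/
theorem finite_finrank_omega_series (F : IntermediateField k K₀) [Module.Finite F K₀] (p : ℕ) [Fact p.Prime]
    [CharP K₀ p] {N : ℕ} (t : Fin N → K₀)
    (ht : ⊤ ≤ Submodule.span K₀ (Set.range fun a => KaehlerDifferential.D F K₀ (t a)))
    {L' : Type u} [Field L'] [Algebra (MvPowerSeries (Fin s) K₀) L'] [IsFractionRing (MvPowerSeries (Fin s) K₀) L']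
    [Algebra k L'] (E : IntermediateField k L')
    (hE : ∀ g, algebraMap (MvPowerSeries (Fin s) K₀) L' (subSeries F.toSubfield p (Fact.out : p.Prime).ne_zero g) ∈ E) :
    Module.Finite L' Ω[L'⁄E] ∧ Module.finrank L' Ω[L'⁄E] ≤ N + s := by
  classical
  have hp : p ≠ 0 := (Fact.out : p.Prime).ne_zero
  let R' := MvPowerSeries (Fin s) K₀
  let B := (subSeries (σ := Fin s) F.toSubfield p hp).range
  let W₀ : Submodule R' Ω[R'⁄B] := Submodule.span R'
    (Set.range (fun a => KaehlerDifferential.D B R' (MvPowerSeries.C (t a))) ∪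
      Set.range fun i => KaehlerDifferential.D B R' (MvPowerSeries.X i))
  have hW₀ : ∀ a : R', KaehlerDifferential.D B R' a ∈ W₀ := fun a => D_mem_span_series F p t ht a
  -- to the fraction field
  let gens : Fin N ⊕ Fin s → Ω[L'⁄E] := Sum.elim
    (fun a => KaehlerDifferential.D E L' (algebraMap R' L' (MvPowerSeries.C (t a))))
    (fun i => KaehlerDifferential.D E L' (algebraMap R' L' (MvPowerSeries.X i)))
  let W := Submodule.span L' (Set.range gens)
  have hBD : ∀ b : B, KaehlerDifferential.D E L' (algebraMap R' L' (b : R')) = 0 := fun b => by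
    obtain ⟨g, hg⟩ := b.2
    rw [← hg]
    exact (KaehlerDifferential.D E L').map_algebraMap (⟨_, hE g⟩ : E)
  let dR : Derivation B R' Ω[L'⁄E] := Derivation.mk'
    { toFun := fun a => KaehlerDifferential.D E L' (algebraMap R' L' a)
      map_add' := fun a b => by rw [map_add, map_add]
      map_smul' := fun b a => by
        rw [show b • a = (b : R') * a from rfl, map_mul, Derivation.leibniz, hBD, smul_zero, add_zero,
          RingHom.id_apply, IsScalarTower.algebraMap_smul]
        rfl }
    fun a b => by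
      show KaehlerDifferential.D E L' (algebraMap R' L' (a * b)) = _
      rw [map_mul, Derivation.leibniz, IsScalarTower.algebraMap_smul, IsScalarTower.algebraMap_smul]
      rfl
  have hRW : ∀ a : R', KaehlerDifferential.D E L' (algebraMap R' L' a) ∈ W := fun a => by
    have h1 : ∀ w ∈ W₀, dR.liftKaehlerDifferential w ∈ W := fun w hw => by
      induction hw using Submodule.span_induction with
      | mem x hx =>
        rcases hx with ⟨a, rfl⟩ | ⟨i, rfl⟩
        · rw [Derivation.liftKaehlerDifferential_comp_D]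
          exact Submodule.subset_span ⟨Sum.inl a, rfl⟩
        · rw [Derivation.liftKaehlerDifferential_comp_D]
          exact Submodule.subset_span ⟨Sum.inr i, rfl⟩
      | zero => rw [map_zero]; exact zero_mem _
      | add x y _ _ hx hy => rw [map_add]; exact add_mem hx hy
      | smul r x _ hx => rw [map_smul, ← IsScalarTower.algebraMap_smul L' r]; exact Submodule.smul_mem _ _ hx
    have h2 := h1 _ (hW₀ a)
    rwa [Derivation.liftKaehlerDifferential_comp_D] at h2
  have hW : ⊤ ≤ W := by
    rw [← KaehlerDifferential.span_range_derivation, Submodule.span_le]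
    rintro _ ⟨x, rfl⟩
    obtain ⟨a, b, hb, rfl⟩ := IsFractionRing.div_surjective R' x
    rw [SetLike.mem_coe, Derivation.leibniz_div]
    exact Submodule.smul_mem _ _ (Submodule.sub_mem _ (Submodule.smul_mem _ _ (hRW a)) (Submodule.smul_mem _ _ (hRW b)))
  have hfin : Module.Finite L' Ω[L'⁄E] := .of_fg_top (by
    rw [← top_le_iff.1 hW]; exact Submodule.fg_span (Set.finite_range _))
  refine ⟨hfin, ?_⟩
  have h3 := finrank_range_le_card (R := L') gens
  rw [Set.finrank, show Submodule.span L' (Set.range gens) = ⊤ from top_le_iff.1 hW, finrank_top, Fintype.card_sum,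
    Fintype.card_fin, Fintype.card_fin] at h3
  exact h3

omit [Field k] [Algebra k K₀] in
/-- Elements of `k(K₀^p)` in terms of a spanning family of `k` over its `p`-th powers. -/
theorem exists_coeff_pow {k : Type u} [Field k] [Algebra k K₀] (p : ℕ) [Fact p.Prime] [CharP K₀ p] [ExpChar k p]
    {n : ℕ} (c : Fin n → k) (hc : ∀ a : k, ∃ d : Fin n → k, a = ∑ j, c j * d j ^ p) {x : K₀}
    (hx : x ∈ IntermediateField.adjoin k (Set.range fun y : K₀ => y ^ p)) :
    ∃ z : Fin n → K₀, x = ∑ j, algebraMap k K₀ (c j) * z j ^ p := by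
  classical
  have h2 := Groth.Agent.PBasis.intermediateField_adjoin_eq (p := p) (k := k) (∅ : Set K₀)
  rw [Set.union_empty, Algebra.adjoin_empty] at h2
  rw [← SetLike.mem_coe, h2] at hx
  obtain ⟨d, rfl⟩ := hx
  have hsc : ∀ (a : k) (w : K₀), ∃ z : Fin n → K₀, algebraMap k K₀ a * w ^ p = ∑ j, algebraMap k K₀ (c j) * z j ^ p :=
    fun a w => by
      obtain ⟨e, rfl⟩ := hc a
      refine ⟨fun j => algebraMap k K₀ (e j) * w, ?_⟩
      rw [map_sum, Finset.sum_mul]
      exact Finset.sum_congr rfl fun j _ => by rw [map_mul, map_pow, mul_pow, mul_assoc]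
  have hadd : ∀ {u v : K₀}, (∃ z : Fin n → K₀, u = ∑ j, algebraMap k K₀ (c j) * z j ^ p) →
      (∃ z : Fin n → K₀, v = ∑ j, algebraMap k K₀ (c j) * z j ^ p) →
      ∃ z : Fin n → K₀, u + v = ∑ j, algebraMap k K₀ (c j) * z j ^ p := by
    rintro u v ⟨z, rfl⟩ ⟨w, rfl⟩
    refine ⟨z + w, ?_⟩
    rw [← Finset.sum_add_distrib]
    exact Finset.sum_congr rfl fun j _ => by rw [Pi.add_apply, add_pow_char, mul_add]
  show ∃ z : Fin n → K₀, (d : K₀) = _
  obtain ⟨y, hy⟩ := d
  induction hy using Algebra.adjoin_induction with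
  | mem y hy =>
    obtain ⟨w, rfl⟩ := hy
    obtain ⟨z, hz⟩ := hsc 1 w
    exact ⟨z, by simpa using hz⟩
  | algebraMap a =>
    obtain ⟨z, hz⟩ := hsc a 1
    exact ⟨z, by simpa using hz⟩
  | add u v _ _ hu hv => exact hadd hu hv
  | mul u v _ _ hu hv =>
    obtain ⟨z, hz⟩ := hu
    obtain ⟨w, hw⟩ := hv
    show ∃ z : Fin n → K₀, u * v = _
    rw [show u = _ from hz, show v = _ from hw, Finset.sum_mul_sum]
    refine Finset.sum_induction _ (fun y => ∃ z : Fin n → K₀, y = ∑ j, algebraMap k K₀ (c j) * z j ^ p)
      (fun _ _ => hadd) ⟨0, by simp [zero_pow (Fact.out : p.Prime).ne_zero]⟩ fun i _ => ?_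
    refine Finset.sum_induction _ (fun y => ∃ z : Fin n → K₀, y = ∑ j, algebraMap k K₀ (c j) * z j ^ p)
      (fun _ _ => hadd) ⟨0, by simp [zero_pow (Fact.out : p.Prime).ne_zero]⟩ fun l _ => ?_
    rw [mul_mul_mul_comm, ← map_mul, ← mul_pow]
    exact hsc _ _

/-- The large subfields of the Laurent series field intersect in the subfield generated by the powers. -/
theorem iInf_series_family (p : ℕ) [Fact p.Prime] [CharP K₀ p] [ExpChar k p] {n : ℕ} (c : Fin n → k)
    (hc : ∀ a : k, ∃ d : Fin n → k, a = ∑ j, c j * d j ^ p) {S : Type u} (F : Finset S → IntermediateField k K₀)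
    (hpow : ∀ T, ∀ y : K₀, y ^ p ∈ F T)
    (hint : (⨅ T, F T ⊔ IntermediateField.adjoin k (Set.range fun y : K₀ => y ^ p)) =
      IntermediateField.adjoin k (Set.range fun y : K₀ => y ^ p))
    (E : Finset S → IntermediateField k (FractionRing (MvPowerSeries (Fin s) K₀)))
    (hE : ∀ T, E T = IntermediateField.adjoin k (Set.range fun g =>
      algebraMap (MvPowerSeries (Fin s) K₀) (FractionRing (MvPowerSeries (Fin s) K₀))
        (subSeries (F T).toSubfield p (Fact.out : p.Prime).ne_zero g))) :
    (⨅ T, E T ⊔ IntermediateField.adjoin k (Set.range fun y : FractionRing (MvPowerSeries (Fin s) K₀) => y ^ p)) =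
      IntermediateField.adjoin k (Set.range fun y : FractionRing (MvPowerSeries (Fin s) K₀) => y ^ p) := by
  classical
  have hp : p.Prime := Fact.out
  let R' := MvPowerSeries (Fin s) K₀
  let ι := algebraMap R' (FractionRing R')
  let ψ := fun T => subSeries (σ := Fin s) (F T).toSubfield p hp.ne_zero
  have : ExpChar K₀ p := ExpChar.prime hp
  have : IsDomain R' := Groth.Agent.CAlgReg.isDomain (R := R')
  have hiff := fun T (f : R') => mem_range_subSeries_iff (F T).toSubfield p hp.ne_zero (f := f)
  have hpw : ∀ T (f : R'), f ^ p ∈ (ψ T).range := fun T f => (hiff T _).2 fun m => by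
    obtain ⟨⟨a, ha⟩, hdvd⟩ := coeff_pow_expChar_pow p 1 f m
    simp only [pow_one] at ha hdvd
    exact ⟨ha ▸ hpow T a, hdvd⟩
  have hEcl : ∀ T, ∀ x ∈ E T, x ∈ Subfield.closure (ι '' ((ψ T).range : Set R')) := fun T x hx => by
    rw [hE, ← IntermediateField.mem_toSubfield, IntermediateField.adjoin_toSubfield] at hx
    refine (Subfield.closure_le.2 ?_) hx
    rintro _ (⟨a, rfl⟩ | ⟨g, rfl⟩)
    · refine Subfield.subset_closure ⟨algebraMap k R' a, (hiff T _).2 fun m => ?_, ?_⟩
      · rw [MvPowerSeries.algebraMap_apply, MvPowerSeries.coeff_C]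
        split_ifs with hm
        · exact ⟨(F T).algebraMap_mem a, fun _ i => by simp [hm]⟩
        · exact ⟨zero_mem _, fun h => (h rfl).elim⟩
      · exact (IsScalarTower.algebraMap_apply k R' (FractionRing R') a).symm
    · exact Subfield.subset_closure ⟨_, ⟨g, rfl⟩, rfl⟩
  refine le_antisymm (fun x hx => ?_) (le_iInf fun T => le_sup_right)
  have hx' : ∀ T, x ∈ E T := fun T => by
    rw [← SetLike.mem_coe, IntermediateField.coe_iInf, Set.mem_iInter] at hx
    refine (sup_le le_rfl ?_ : E T ⊔ _ ≤ E T) (hx T)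
    rw [IntermediateField.adjoin_le_iff]
    rintro _ ⟨y, rfl⟩
    obtain ⟨a, b, hb, rfl⟩ := IsFractionRing.div_surjective R' y
    show (ι a / ι b) ^ p ∈ E T
    rw [div_pow, ← map_pow, ← map_pow, hE]
    obtain ⟨ga, hga⟩ := hpw T a
    obtain ⟨gb, hgb⟩ := hpw T b
    exact div_mem (IntermediateField.subset_adjoin _ _ ⟨ga, congrArg ι hga⟩)
      (IntermediateField.subset_adjoin _ _ ⟨gb, congrArg ι hgb⟩)
  obtain ⟨a, b, hb, rfl⟩ := IsFractionRing.div_surjective R' x
  have hb0 : ι b ≠ 0 := (map_ne_zero_iff _ (IsFractionRing.injective _ _)).2 (nonZeroDivisors.ne_zero hb)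
  let h := a * b ^ (p - 1)
  have hxg : ι a / ι b * ι (b ^ p) = ι h := by
    rw [div_mul_eq_mul_div, div_eq_iff hb0, ← map_mul, ← map_mul, mul_assoc, ← pow_succ,
      Nat.sub_add_cancel hp.one_le]
  have hh : ∀ T, h ∈ (ψ T).range := fun T => by
    obtain ⟨c', hc', d, hd, hd0, hcd⟩ := exists_of_mem_closure (ψ T).range (hEcl T _ (hx' T))
    have he : h * d = c' * b ^ p := IsFractionRing.injective R' (FractionRing R') (by
      rw [map_mul _ h d, map_mul _ c', ← hxg, ← hcd]; ring)
    haveI : IsDomain (MvPowerSeries (Fin s) (F T).toSubfield) :=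
      Groth.Agent.CAlgReg.isDomain (R := MvPowerSeries (Fin s) (F T).toSubfield)
    haveI : IsIntegrallyClosed (MvPowerSeries (Fin s) (F T).toSubfield) := Groth.Agent.RegNormal.isIntegrallyClosed _
    exact mem_range_of_pow_mem (ψ T) (subSeries_injective _ _ _) hp.pos
      (mul_mem hc' (hpw T b)) hd hd0 he (hpw T h)
  have hcoef : ∀ m, MvPowerSeries.coeff m h ∈ IntermediateField.adjoin k (Set.range fun y : K₀ => y ^ p) := fun m => by
    rw [← hint, ← SetLike.mem_coe, IntermediateField.coe_iInf, Set.mem_iInter]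
    exact fun T => (le_sup_left : F T ≤ F T ⊔ _) ((hiff T h).1 (hh T) m).1
  choose z hz using fun m => exists_coeff_pow p c hc (hcoef m)
  let Z : Fin n → R' := fun j m => z (p • m) j
  have hhZ : h = ∑ j, algebraMap k R' (c j) * Z j ^ p := by
    ext m
    rw [map_sum]
    by_cases hm : ∀ i, p ∣ m i
    · obtain ⟨q, rfl⟩ : ∃ q, m = p • q :=
        ⟨m.mapRange (fun a => a / p) (Nat.zero_div p), Finsupp.ext fun i => by
          simp [Nat.mul_div_cancel' (hm i)]⟩
      rw [hz]
      refine Finset.sum_congr rfl fun j _ => ?_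
      rw [← MvPowerSeries.map_frobenius_expand p hp.ne_zero, MvPowerSeries.algebraMap_apply,
        MvPowerSeries.coeff_C_mul, MvPowerSeries.coeff_map, MvPowerSeries.coeff_expand_smul, frobenius_def]
      rfl
    · have h0 : MvPowerSeries.coeff m h = 0 := by
        by_contra h0; exact hm (((hiff ∅ h).1 (hh ∅) m).2 h0)
      push Not at hm
      obtain ⟨i, hi⟩ := hm
      rw [h0]
      refine (Finset.sum_eq_zero fun j _ => ?_).symm
      rw [← MvPowerSeries.map_frobenius_expand p hp.ne_zero, MvPowerSeries.algebraMap_apply,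
        MvPowerSeries.coeff_C_mul, MvPowerSeries.coeff_map, MvPowerSeries.coeff_expand_of_not_dvd p _ _ hi,
        map_zero, mul_zero]
  have hxe : ι a / ι b = ∑ j, algebraMap k (FractionRing R') (c j) * (ι (Z j) / ι b) ^ p := by
    rw [show ι a / ι b = ι h / ι b ^ p from (eq_div_iff (pow_ne_zero p hb0)).2 (by rw [← map_pow]; exact hxg), hhZ,
      map_sum, Finset.sum_div]
    refine Finset.sum_congr rfl fun j _ => ?_
    rw [map_mul, ← IsScalarTower.algebraMap_apply, map_pow, div_pow, mul_div_assoc]
  rw [hxe]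
  exact sum_mem fun j _ => mul_mem (IntermediateField.algebraMap_mem _ _) (IntermediateField.subset_adjoin _ _ ⟨_, rfl⟩)

end Groth.Agent.SymGr
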