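import Groth.Agent.SymGr.RelationsBound
import Groth.Agent.SymGr.SeriesOmega
import Groth.Agent.SymGr.DerLift
import Groth.Agent.SymGr.JacSmooth
import Groth.Agent.LocDuality.CanonBasic
import Groth.Agent.S2460
import Groth.Agent.S4574
import Mathlib

/-! Nagata's Jacobian criterion for formal smoothness in complete local algebras. -/

set_option autoImplicit false

namespace Groth.Agent.SymGr

universe u

open TensorProduct IsLocalRing EGA41

/-- Dimension of the cotangent space of a regular local ring. -/
theorem finrank_cotangentSpace_eq {S : Type u} [CommRing S] [IsRegularLocalRing S] :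
    (Module.finrank (ResidueField S) (CotangentSpace S) : WithBot ℕ∞) = ringKrullDim S :=
  (IsRegularLocalRing.iff_finrank_cotangentSpace S).1 inferInstance

section

variable {k K₀ A : Type u} [Field k] [Field K₀] [Algebra k K₀] [CommRing A] [IsLocalRing A] [IsNoetherianRing A]
  [IsAdicComplete (maximalIdeal A) A] [Algebra k A] [Algebra K₀ A] [IsScalarTower k K₀ A]
  [Module.Finite K₀ (ResidueField A)]

/-- Derivations dual to elements of the coefficient field and to coordinates. -/
theorem exists_dual_family (hA : CAlgX.IsAdicFormallySmooth K₀ A (maximalIdeal A)) (F : IntermediateField k K₀)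
    {N : ℕ} (t : Fin N → K₀) (δ : Fin N → Derivation F K₀ K₀) (hδ : ∀ a b, δ a (t b) = if a = b then 1 else 0) :
    ∃ (D : Fin (N + Module.finrank (ResidueField A) (CotangentSpace A)) → Derivation k A A)
      (y : Fin (N + Module.finrank (ResidueField A) (CotangentSpace A)) → A),
      Matrix.det (Matrix.of fun i j => D i (y j)) ∉ maximalIdeal A ∧
        ∀ j, ∀ c ∈ F, D j (algebraMap K₀ A c) = 0 := by
  classical
  set r := Module.finrank (ResidueField A) (CotangentSpace A)
  obtain ⟨x, D₁, hdet⟩ := exists_dual_derivations hA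
  have hlift : ∀ a, ∃ D : Derivation k A A, ∀ c, D (algebraMap K₀ A c) = algebraMap K₀ A (δ a c) := fun a => by
    haveI : Subsingleton (A ⧸ (⊤ : Ideal A)) := Ideal.Quotient.subsingleton_iff.2 rfl
    obtain ⟨D, -, hD⟩ := exists_derivation_lift_complete hA ⊤
      ((Algebra.linearMap K₀ A).compDer ((δ a).restrictScalars k)) 0 fun c => Subsingleton.elim _ _
    exact ⟨D, fun c => hD c⟩
  choose D₂ hD₂ using hlift
  let D := fun i : Fin (N + r) => Sum.elim D₂ (fun l => (D₁ l).restrictScalars k) (finSumFinEquiv.symm i)
  let y := fun i : Fin (N + r) => Sum.elim (fun b => algebraMap K₀ A (t b)) x (finSumFinEquiv.symm i)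
  refine ⟨D, y, ?_, fun j c hc => ?_⟩
  · have h1 : Matrix.of (fun i j => D i (y j)) = (Matrix.fromBlocks (1 : Matrix (Fin N) (Fin N) A)
        (Matrix.of fun a l => D₂ a (x l)) 0 (Matrix.of fun i l => D₁ i (x l))).submatrix
        finSumFinEquiv.symm finSumFinEquiv.symm := by
      ext i j
      rw [Matrix.submatrix_apply, Matrix.of_apply]
      show Sum.elim D₂ (fun l => (D₁ l).restrictScalars k) (finSumFinEquiv.symm i)
        (Sum.elim (fun b => algebraMap K₀ A (t b)) x (finSumFinEquiv.symm j)) = _
      rcases finSumFinEquiv.symm i with a | a <;> rcases finSumFinEquiv.symm j with b | b <;>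
        simp [hD₂, hδ, Matrix.one_apply, apply_ite (algebraMap K₀ A)]
    rw [h1, Matrix.det_submatrix_equiv_self, Matrix.det_fromBlocks_zero₂₁, Matrix.det_one, one_mul]
    exact hdet
  · show Sum.elim D₂ (fun l => (D₁ l).restrictScalars k) (finSumFinEquiv.symm j) (algebraMap K₀ A c) = 0
    rcases finSumFinEquiv.symm j with a | a
    · rw [Sum.elim_inl, hD₂]
      rw [show δ a c = 0 from (δ a).map_algebraMap ⟨c, hc⟩, map_zero]
    · rw [Sum.elim_inr]
      exact (D₁ a).map_algebraMap c

omit [IsAdicComplete (maximalIdeal A) A] [Module.Finite K₀ (ResidueField A)] in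
/-- The height of a prime is at most the codimension. -/
theorem finrank_cotangentSpace_add_le [IsRegularLocalRing A] (P : Ideal A) [P.IsPrime]
    [IsRegularLocalRing (Localization.AtPrime P)] {s : ℕ} (hs : ringKrullDim (A ⧸ P) = s) :
    Module.finrank (ResidueField (Localization.AtPrime P)) (CotangentSpace (Localization.AtPrime P)) + s ≤
      Module.finrank (ResidueField A) (CotangentSpace A) := by
  have h1 := LocDuality.height_add_ringKrullDim_quotient_le P
  rw [← IsLocalization.AtPrime.ringKrullDim_eq_height P (Localization.AtPrime P), hs, ← finrank_cotangentSpace_eq,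
    ← finrank_cotangentSpace_eq] at h1
  exact_mod_cast h1

end

/-- The differentials of a finite extension over a smaller subfield of the base. -/
theorem finrank_omega_le {k L' L : Type u} [Field k] [Field L'] [Field L] [Algebra k L'] [Algebra k L] [Algebra L' L]
    [IsScalarTower k L' L] [Module.Finite L' L] (E : IntermediateField k L') [Module.Finite L' Ω[L'⁄E]]
    (W : Submodule L (L ⊗[L'] Ω[L'⁄k])) [Module.Finite L W]
    (hW : ∀ w ∈ W, KaehlerDifferential.mapBaseChange k L' L w = 0)
    (hinj : ∀ w ∈ W, ((KaehlerDifferential.map k E L' L').restrictScalars L').baseChange L w = 0 → w = 0) :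
    Module.Finite L Ω[L⁄E] ∧
      Module.finrank L Ω[L⁄E] + Module.finrank L W ≤ Module.finrank L Ω[L⁄L'] + Module.finrank L' Ω[L'⁄E] := by
  let η : L ⊗[L'] Ω[L'⁄k] →ₗ[L] L ⊗[L'] Ω[L'⁄E] :=
    ((KaehlerDifferential.map k E L' L').restrictScalars L').baseChange L
  let β := KaehlerDifferential.mapBaseChange E L' L
  let π := KaehlerDifferential.map E L' L L
  have hex : Function.Exact β π := KaehlerDifferential.exact_mapBaseChange_map E L' L
  have hπ : Function.Surjective π := KaehlerDifferential.map_surjective E L' L
  have hker : LinearMap.ker π = LinearMap.range β := LinearMap.exact_iff.1 hex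
  have : Module.Finite L (LinearMap.ker π) := by rw [hker]; infer_instance
  have : Module.Finite L (Ω[L⁄E] ⧸ LinearMap.ker π) := Module.Finite.equiv (π.quotKerEquivOfSurjective hπ).symm
  have hfin : Module.Finite L Ω[L⁄E] := Module.Finite.of_submodule_quotient (LinearMap.ker π)
  refine ⟨hfin, ?_⟩
  have h1 := LinearMap.finrank_range_add_finrank_ker π
  rw [LinearMap.range_eq_top.2 hπ, finrank_top, hker] at h1
  have h2 := LinearMap.finrank_range_add_finrank_ker β
  rw [Module.finrank_baseChange] at h2
  have hsq : ∀ z, β (η z) = KaehlerDifferential.map k E L L (KaehlerDifferential.mapBaseChange k L' L z) := fun z => by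
    induction z using TensorProduct.induction_on with
    | zero => simp
    | add x y hx hy => rw [map_add, map_add, map_add, map_add, hx, hy]
    | tmul c w =>
      rw [LinearMap.baseChange_tmul, KaehlerDifferential.mapBaseChange_tmul, KaehlerDifferential.mapBaseChange_tmul,
        map_smul, LinearMap.restrictScalars_apply]
      congr 1
      have hw : w ∈ Submodule.span L' (Set.range (KaehlerDifferential.D k L')) := by
        rw [KaehlerDifferential.span_range_derivation]; trivial
      induction hw using Submodule.span_induction with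
      | mem x hx =>
        obtain ⟨a, rfl⟩ := hx
        simp [KaehlerDifferential.map_D]
      | zero => simp
      | add x y _ _ hx hy => simp only [map_add, hx, hy]
      | smul a x _ hx => simp only [map_smul, LinearMap.map_smul_of_tower, hx]
  have h3 : W.map η ≤ LinearMap.ker β := by
    rintro _ ⟨w, hw, rfl⟩
    rw [LinearMap.mem_ker, hsq, hW w hw, map_zero]
  have h4 : Module.finrank L (W.map η) = Module.finrank L W := by
    refine (LinearEquiv.ofBijective (η.submoduleMap W) ⟨?_, η.submoduleMap_surjective W⟩).finrank_eq.symm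
    exact (injective_iff_map_eq_zero _).2 fun w hw => Subtype.ext (hinj _ w.2 (congrArg Subtype.val hw))
  have h5 := Submodule.finrank_mono h3
  omega

/-- The bound needed for the criterion, at every prime. -/
theorem exists_relations_bound (p : ℕ) {k K₀ A : Type u} [Field k] [ExpChar k p]
    (hk : p = 1 ∨ Module.Finite (frobenius k p).fieldRange k)
    [Field K₀] [Algebra k K₀] [Algebra.IsGeometricallyReduced k K₀]
    [CommRing A] [IsLocalRing A] [IsNoetherianRing A] [IsAdicComplete (maximalIdeal A) A]
    [Algebra k A] [Algebra K₀ A] [IsScalarTower k K₀ A] [Module.Finite K₀ (ResidueField A)]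
    (hA : CAlgX.IsAdicFormallySmooth K₀ A (maximalIdeal A)) (P : Ideal A) [P.IsPrime]
    {L : Type u} [Field L] [Algebra k L] [Algebra A L] [Algebra (A ⧸ P) L] [IsScalarTower A (A ⧸ P) L]
    [IsScalarTower k (A ⧸ P) L] [IsFractionRing (A ⧸ P) L] (hI : Module.Finite L (imperfection ℤ k L)) (h : ℕ)
    (hh : ∀ s : ℕ, ringKrullDim (A ⧸ P) = s → h + s ≤ Module.finrank (ResidueField A) (CotangentSpace A)) :
    ∃ (M : ℕ) (D : Fin M → Derivation k A A), ∀ R : Submodule L (Fin M → L),
      (∀ c ∈ R, ∀ a ∈ P, ∑ j, c j * algebraMap A L (D j a) = 0) → Module.finrank L R + h ≤ M + imperfRank k L := by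
  classical
  set r := Module.finrank (ResidueField A) (CotangentSpace A) with hr
  have := hI
  have hPm : P ≤ maximalIdeal A := IsLocalRing.le_maximalIdeal Ideal.IsPrime.ne_top'
  -- a normalisation of the quotient
  haveI : IsLocalRing (A ⧸ P) := .of_surjective' _ Ideal.Quotient.mk_surjective
  have hmq : maximalIdeal (A ⧸ P) = (maximalIdeal A).map (algebraMap A (A ⧸ P)) := by
    rw [Ideal.Quotient.algebraMap_eq, IsLocalRing.map_maximalIdeal_of_surjective _ Ideal.Quotient.mk_surjective]
  haveI : IsAdicComplete (maximalIdeal A) (A ⧸ P) := Groth.Agent.CplFin.isAdicComplete_of_finite A _ _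
  haveI : IsAdicComplete (maximalIdeal (A ⧸ P)) (A ⧸ P) := by
    rw [hmq]; exact (IsAdicComplete.map_algebraMap_iff (maximalIdeal A) (A ⧸ P)).2 inferInstance
  haveI : IsLocalHom (algebraMap A (A ⧸ P)) := IsLocalHom.of_surjective _ Ideal.Quotient.mk_surjective
  haveI : Module.Finite K₀ (ResidueField (A ⧸ P)) := by
    let e : ResidueField A →ₐ[K₀] ResidueField (A ⧸ P) :=
      { IsLocalRing.ResidueField.map (algebraMap A (A ⧸ P)) with commutes' := fun c => rfl }
    exact Module.Finite.of_surjective e.toLinearMap fun x => by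
      obtain ⟨z, rfl⟩ := residue_surjective x
      obtain ⟨a, rfl⟩ := Ideal.Quotient.mk_surjective z
      exact ⟨residue A a, rfl⟩
  obtain ⟨s, w, hw, -, hwfin⟩ := Groth.Agent.S2460.result (k₀ := K₀) (A := A ⧸ P)
  let R' := MvPowerSeries (Fin s) K₀
  letI algR : Algebra R' (A ⧸ P) := w.toRingHom.toAlgebra
  haveI : Module.Finite R' (A ⧸ P) := hwfin
  haveI : IsScalarTower K₀ R' (A ⧸ P) := IsScalarTower.of_algebraMap_eq fun c => (w.commutes c).symm
  haveI : IsDomain R' := Groth.Agent.CAlgReg.isDomain (R := R')
  let L' := FractionRing R'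
  have hinjQ : Function.Injective (algebraMap (A ⧸ P) L) := IsFractionRing.injective _ _
  have hwL : Function.Injective ((algebraMap (A ⧸ P) L).comp w.toRingHom) := hinjQ.comp hw
  letI algL : Algebra L' L := (IsFractionRing.lift (A := R') hwL).toAlgebra
  have hL' : ∀ a : R', algebraMap L' L (algebraMap R' L' a) = algebraMap (A ⧸ P) L (w a) := fun a =>
    IsFractionRing.lift_algebraMap hwL a
  haveI : IsScalarTower k L' L := IsScalarTower.of_algebraMap_eq fun c => by
    rw [IsScalarTower.algebraMap_apply k R' L', hL', IsScalarTower.algebraMap_apply k K₀ R', w.commutes,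
      ← IsScalarTower.algebraMap_apply k K₀ (A ⧸ P), ← IsScalarTower.algebraMap_apply]
  haveI : Module.Finite L' L := by
    obtain ⟨G, hG⟩ := (Module.Finite.iff_fg (N := (⊤ : Submodule R' (A ⧸ P)))).1 inferInstance
    have hint : ∀ g : A ⧸ P, IsIntegral L' (algebraMap (A ⧸ P) L g) := fun g => by
      obtain ⟨q, hq1, hq2⟩ := (Algebra.IsIntegral.isIntegral (R := R') g)
      refine ⟨q.map (algebraMap R' L'), hq1.map _, ?_⟩
      rw [Polynomial.eval₂_map, show (algebraMap L' L).comp (algebraMap R' L') =
        (algebraMap (A ⧸ P) L).comp (algebraMap R' (A ⧸ P)) from RingHom.ext hL', ← Polynomial.hom_eval₂, hq2, map_zero]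
    let E := IntermediateField.adjoin L' (G.image (algebraMap (A ⧸ P) L) : Set L)
    haveI : Finite ↥((G.image (algebraMap (A ⧸ P) L) : Set L)) := inferInstance
    haveI : Module.Finite L' E := IntermediateField.finiteDimensional_adjoin fun x hx => by
      obtain ⟨g, -, rfl⟩ := Finset.mem_image.1 hx
      exact hint g
    have hQE : ∀ z : A ⧸ P, algebraMap (A ⧸ P) L z ∈ E := fun z => by
      have hz : z ∈ Submodule.span R' (G : Set (A ⧸ P)) := hG ▸ Submodule.mem_top
      induction hz using Submodule.span_induction with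
      | mem x hx => exact IntermediateField.subset_adjoin _ _ (Finset.mem_image_of_mem _ hx)
      | zero => rw [map_zero]; exact zero_mem _
      | add x y _ _ hx hy => rw [map_add]; exact add_mem hx hy
      | smul a x _ hx =>
        rw [Algebra.smul_def, map_mul, show algebraMap (A ⧸ P) L (algebraMap R' (A ⧸ P) a) =
          algebraMap L' L (algebraMap R' L' a) from (hL' a).symm]
        exact mul_mem (E.algebraMap_mem _) hx
    have hE : E = ⊤ := eq_top_iff.2 fun x _ => by
      obtain ⟨a, b, hb, rfl⟩ := IsFractionRing.div_surjective (A ⧸ P) x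
      exact div_mem (hQE a) (hQE b)
    exact Module.Finite.equiv ((IntermediateField.equivOfEq hE).trans IntermediateField.topEquiv).toLinearEquiv
  -- height
  have hsdim : ringKrullDim (A ⧸ P) = s := by
    rw [← Groth.Agent.MvPSLib.ringKrullDim_eq K₀ s]
    haveI : FaithfulSMul R' (A ⧸ P) := (faithfulSMul_iff_algebraMap_injective _ _).2 hw
    exact DimTheory.ringKrullDim_eq_of_integral R' (A ⧸ P)
  have hheight := hh s hsdim
  by_cases hp1 : p = 1
  · -- characteristic zero
    subst hp1
    haveI : CharZero k := charZero_of_expChar_one' k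
    haveI : CharZero L' := charZero_of_injective_algebraMap (algebraMap k L').injective
    haveI : Algebra.IsAlgebraic L' L := Algebra.IsAlgebraic.of_finite L' L
    haveI : Algebra.IsSeparable L' L := inferInstance
    haveI : Algebra.FormallyUnramified L' L := Algebra.FormallyUnramified.of_isSeparable L' L
    haveI : Subsingleton Ω[L⁄L'] := inferInstance
    obtain ⟨D, y, hdet, hkillF⟩ := exists_dual_family hA (⊤ : IntermediateField k K₀) (N := 0) Fin.elim0 Fin.elim0
      fun a => a.elim0
    choose u hu using fun i : Fin s => Ideal.Quotient.mk_surjective (w (MvPowerSeries.X i))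
    refine ⟨_, D, fun R hR => ?_⟩
    have hb := finrank_annRelations_le P D y (fun h => hdet (hPm h)) (Set.range (algebraMap K₀ A))
      (fun j z hz => by obtain ⟨c, rfl⟩ := hz; exact hkillF j c IntermediateField.mem_top) u
      R hR L' (fun δ hδZ hδu ψ hψ => ?_)
    · rw [Module.finrank_zero_of_subsingleton (M := Ω[L⁄L']), add_zero] at hb
      omega
    · haveI : IsAdicComplete (maximalIdeal R') R' := by
        rw [Groth.Agent.MvPSLib.maximalIdeal_eq]; infer_instance
      haveI : IsHausdorff (maximalIdeal R') (A ⧸ P) := CAlgH.Decay.isHausdorff_of_finite _ _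
      let δ' : Derivation K₀ (A ⧸ P) (A ⧸ P) := Derivation.mk'
        { toFun := δ
          map_add' := map_add δ
          map_smul' := fun c x => by
            rw [Algebra.smul_def c x, Derivation.leibniz, show δ (algebraMap K₀ (A ⧸ P) c) = 0 from hδZ _ ⟨c, rfl⟩,
              smul_zero, add_zero, RingHom.id_apply, Algebra.smul_def c (δ x), smul_eq_mul] }
        fun a b => δ.leibniz a b
      have h0 : δ'.compAlgebraMap R' = 0 := mvPowerSeries_derivation_eq_zero _ fun i => by
        show δ (w (MvPowerSeries.X i)) = 0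
        rw [← hu i]; exact hδu i
      intro e
      obtain ⟨a, b, hb, rfl⟩ := IsFractionRing.div_surjective R' e
      have hz : ∀ a : R', ψ (algebraMap (A ⧸ P) L (w a)) = 0 := fun a => by
        rw [hψ, show δ (w a) = 0 from LinearMap.congr_fun (congrArg Derivation.toLinearMap h0) a, map_zero]
      rw [map_div₀, hL', hL', Derivation.leibniz_div, hz, hz]
      simp
  · -- positive characteristic
    have hfinF := hk.resolve_left hp1
    have hprime : p.Prime := (expChar_is_prime_or_one k p).resolve_right hp1
    haveI : CharP k p := by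
      cases ‹ExpChar k p›
      · exact absurd rfl hp1
      · assumption
    haveI : Fact p.Prime := ⟨hprime⟩
    haveI : CharP K₀ p := charP_of_injective_algebraMap (algebraMap k K₀).injective p
    haveI : CharP L' p := charP_of_injective_algebraMap (algebraMap k L').injective p
    obtain ⟨n, cc, hcc⟩ := Module.Finite.exists_fin (R := (frobenius k p).fieldRange) (M := k)
    have hc : ∀ a : k, ∃ d : Fin n → k, a = ∑ j, cc j * d j ^ p := fun a => by
      obtain ⟨e, he⟩ := (Submodule.mem_span_range_iff_exists_fun _).1 (hcc.ge (Submodule.mem_top (x := a)))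
      choose d hd using fun j => (e j).2
      refine ⟨d, he.symm.trans (Finset.sum_congr rfl fun j _ => ?_)⟩
      rw [Subfield.smul_def, ← hd j, frobenius_def, smul_eq_mul, mul_comm]
    obtain ⟨σ, _, Fk, hanti, hpow, hfin, hint⟩ := exists_cofinite_family p k K₀
    let Ef : Finset σ → IntermediateField k L' := fun T => IntermediateField.adjoin k (Set.range fun g =>
      algebraMap R' L' (subSeries (Fk T).toSubfield p (Fact.out : p.Prime).ne_zero g))
    have hEanti : Antitone Ef := fun T T' hTT => by
      refine IntermediateField.adjoin.mono _ _ _ ?_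
      rintro _ ⟨g, rfl⟩
      obtain ⟨g', hg'⟩ := (mem_range_subSeries_iff (Fk T).toSubfield p (Fact.out : p.Prime).ne_zero).2 fun m =>
        ⟨hanti hTT ((mem_range_subSeries_iff (Fk T').toSubfield p (Fact.out : p.Prime).ne_zero).1 ⟨g, rfl⟩ m).1,
          ((mem_range_subSeries_iff (Fk T').toSubfield p (Fact.out : p.Prime).ne_zero).1 ⟨g, rfl⟩ m).2⟩
      exact ⟨g', congrArg _ hg'⟩
    have hEint := iInf_series_family p cc hc Fk hpow hint Ef fun T => rfl
    obtain ⟨W, _, hW, hWdim⟩ := exists_imperfection_subspace (k := k) (L' := L') (L := L)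
    obtain ⟨T, hT⟩ := exists_injOn (p := p) hEanti hEint L W
    haveI : Module.Finite (Fk T) K₀ := hfin T
    haveI : Algebra.EssFiniteType (Fk T) K₀ := inferInstance
    haveI : Module.Finite K₀ Ω[K₀⁄Fk T] := inferInstance
    obtain ⟨b, hbsub, hbspan, hbli⟩ := exists_linearIndependent K₀ (Set.range (KaehlerDifferential.D (Fk T) K₀))
    rw [KaehlerDifferential.span_range_derivation] at hbspan
    let B := Module.Basis.mk hbli (by rw [Subtype.range_coe, hbspan])
    haveI := hbli.setFinite.fintype
    let e := (Fintype.equivFin b).symm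
    choose t ht using fun i => hbsub (e i).2
    have hBe : ∀ i, B (e i) = KaehlerDifferential.D (Fk T) K₀ (t i) := fun i => by
      rw [Module.Basis.mk_apply]; exact (ht i).symm
    let δB : Fin (Fintype.card b) → Derivation (Fk T) K₀ K₀ := fun a =>
      (B.coord (e a)).compDer (KaehlerDifferential.D (Fk T) K₀)
    have hδB : ∀ a c, δB a (t c) = if a = c then 1 else 0 := fun a c => by
      show B.coord (e a) (KaehlerDifferential.D (Fk T) K₀ (t c)) = _
      rw [← hBe, Module.Basis.coord_apply, Module.Basis.repr_self, Finsupp.single_apply]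
      simp [e.injective.eq_iff, eq_comm]
    have htspan : ⊤ ≤ Submodule.span K₀ (Set.range fun i => KaehlerDifferential.D (Fk T) K₀ (t i)) := by
      rw [show (fun i => KaehlerDifferential.D (Fk T) K₀ (t i)) = Subtype.val ∘ e from funext ht,
        e.surjective.range_comp, Subtype.range_coe, hbspan]
    have hEgen : ∀ g, algebraMap R' L' (subSeries (Fk T).toSubfield p (Fact.out : p.Prime).ne_zero g) ∈ Ef T :=
      fun g => IntermediateField.subset_adjoin _ _ ⟨g, rfl⟩
    obtain ⟨hfinΩ', hΩ'⟩ := finite_finrank_omega_series (Fk T) p t htspan (Ef T) hEgen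
    haveI := hfinΩ'
    obtain ⟨hfinΩ, hΩ⟩ := finrank_omega_le (Ef T) W hW (hT T le_rfl)
    haveI := hfinΩ
    obtain ⟨D, y, hdet, hkillF⟩ := exists_dual_family hA (Fk T) t δB hδB
    refine ⟨_, D, fun R hR => ?_⟩
    have hb := finrank_annRelations_le P D y (fun h => hdet (hPm h)) (algebraMap K₀ A '' (Fk T : Set K₀))
      (fun j z hz => by obtain ⟨c, hc, rfl⟩ := hz; exact hkillF j c hc) (n := 0) Fin.elim0
      R hR (Ef T) (fun δ hδZ _ ψ hψ => ?_)
    · omega
    · rintro ⟨e', he'⟩
      show ψ (algebraMap L' L e') = 0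
      haveI : Module.Finite (Fk T).toSubfield K₀ := hfin T
      have hgen : ∀ g, ψ (algebraMap L' L (algebraMap R' L'
          (subSeries (Fk T).toSubfield p (Fact.out : p.Prime).ne_zero g))) = 0 := fun g => by
        rw [hL', hψ]
        have h1 := derivation_subSeries_eq_zero (Fk T).toSubfield p (R := A ⧸ P) (δ.restrictScalars ℤ)
          (fun c hc => by
            show δ (w (MvPowerSeries.C c)) = 0
            rw [show (MvPowerSeries.C c : R') = algebraMap K₀ R' c from by simp [R', MvPowerSeries.algebraMap_apply],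
              w.commutes]
            exact hδZ _ ⟨c, hc, rfl⟩) g
        rw [show δ (w _) = 0 from h1, map_zero]
      induction he' using IntermediateField.adjoin_induction with
      | mem x hx => obtain ⟨g, rfl⟩ := hx; exact hgen g
      | algebraMap c =>
        rw [← IsScalarTower.algebraMap_apply k L' L, IsScalarTower.algebraMap_apply k (A ⧸ P) L, hψ,
          Derivation.map_algebraMap, map_zero]
      | add x y _ _ hx hy => rw [map_add, map_add, hx, hy, add_zero]
      | mul x y _ _ hx hy => rw [map_mul, Derivation.leibniz, hx, hy, smul_zero, smul_zero, add_zero]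
      | inv x _ hx => rw [map_inv₀, Derivation.leibniz_inv, hx, smul_zero]

/-- Formal smoothness over the base field of the localisations of the algebra. -/
theorem isAdicFormallySmooth_atPrime_base {k K₀ A : Type u} [Field k] [Field K₀] [Algebra k K₀]
    [Algebra.IsGeometricallyReduced k K₀] [CommRing A] [IsLocalRing A] [IsNoetherianRing A]
    [Algebra k A] [Algebra K₀ A] [IsScalarTower k K₀ A]
    (hA : CAlgX.IsAdicFormallySmooth K₀ A (maximalIdeal A)) (P : Ideal A) [P.IsPrime] :
    CAlgX.IsAdicFormallySmooth k (Localization.AtPrime P) (maximalIdeal (Localization.AtPrime P)) := by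
  have : Algebra.FormallySmooth k K₀ := Groth.Agent.PBasis.formallySmooth_iff_isGeometricallyReduced.2 inferInstance
  exact Groth.Agent.S4574.result (isAdicFormallySmooth_restrictScalars (maximalIdeal A) hA) P

/-- Nagata's criterion, the hard direction. -/
theorem exists_det_of_formallySmooth (p : ℕ) {k K₀ A : Type u} [Field k] [ExpChar k p]
    (hk : p = 1 ∨ Module.Finite (frobenius k p).fieldRange k)
    [Field K₀] [Algebra k K₀] [Algebra.IsGeometricallyReduced k K₀]
    [CommRing A] [IsLocalRing A] [IsNoetherianRing A] [IsAdicComplete (maximalIdeal A) A]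
    [Algebra k A] [Algebra K₀ A] [IsScalarTower k K₀ A] [Module.Finite K₀ (ResidueField A)]
    (hA : CAlgX.IsAdicFormallySmooth K₀ A (maximalIdeal A))
    (q P : Ideal A) [P.IsPrime] (hq : q ≤ P) [(P.map (Ideal.Quotient.mk q)).IsPrime]
    (hB : CAlgX.IsAdicFormallySmooth k (Localization.AtPrime (P.map (Ideal.Quotient.mk q)))
      (maximalIdeal (Localization.AtPrime (P.map (Ideal.Quotient.mk q))))) :
    ∃ (m : ℕ) (D : Fin m → Derivation k A A) (f : Fin m → A), (∀ i, f i ∈ q) ∧
      q.map (algebraMap A (Localization.AtPrime P)) =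
        Ideal.span (Set.range fun i => algebraMap A (Localization.AtPrime P) (f i)) ∧
      Matrix.det (Matrix.of fun i j => D i (f j)) ∉ P := by
  classical
  have hS := isAdicFormallySmooth_atPrime_base (k := k) hA P
  have : IsRegularLocalRing A := (isAdicFormallySmooth_field_iff_regular.1 hA).1
  have : IsRegularLocalRing (Localization.AtPrime P) := (isAdicFormallySmooth_field_iff_regular.1 hS).1
  have hle : q.map (algebraMap A (Localization.AtPrime P)) ≤ maximalIdeal (Localization.AtPrime P) := by
    rw [← IsLocalization.AtPrime.map_eq_maximalIdeal P (Localization.AtPrime P)]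
    exact Ideal.map_mono hq
  have : IsNoetherianRing (Localization.AtPrime (P.map (Ideal.Quotient.mk q))) :=
    IsLocalization.isNoetherianRing (P.map (Ideal.Quotient.mk q)).primeCompl _ inferInstance
  obtain ⟨e⟩ := nonempty_localization_quotient_equiv q P hq
  have hregB : IsRegularLocalRing (Localization.AtPrime (P.map (Ideal.Quotient.mk q))) :=
    (isAdicFormallySmooth_field_iff_regular.1 hB).1
  have hreg : IsRegularLocalRing (Localization.AtPrime P ⧸ q.map (algebraMap A (Localization.AtPrime P))) :=
    IsRegularLocalRing.of_ringEquiv e.symm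
  obtain ⟨m, f, hf, hgen, hli⟩ := exists_generators_of_regular_quotient q hle hreg
  let π₀ : A →ₐ[k] Localization.AtPrime (P.map (Ideal.Quotient.mk q)) := IsScalarTower.toAlgHom k A _
  have hπ₀ : ∀ a, π₀ a = algebraMap (A ⧸ q) _ (Ideal.Quotient.mk q a) := fun a =>
    IsScalarTower.algebraMap_apply A (A ⧸ q) _ a
  have hπu : ∀ y : P.primeCompl, IsUnit (π₀ y) := fun y => by
    rw [hπ₀]
    exact IsLocalization.map_units _
      (⟨_, fun h => y.2 ((Ideal.mem_quotient_iff_mem hq).1 h)⟩ : (P.map (Ideal.Quotient.mk q)).primeCompl)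
  let π : Localization.AtPrime P →ₐ[k] Localization.AtPrime (P.map (Ideal.Quotient.mk q)) :=
    IsLocalization.liftAlgHom (M := P.primeCompl) (f := π₀) hπu
  have hπ : ∀ a, π (algebraMap A _ a) = π₀ a := fun a => IsLocalization.lift_eq _ a
  have hsurj : Function.Surjective π := fun z => by
    obtain ⟨⟨a, b⟩, hab⟩ := IsLocalization.surj (P.map (Ideal.Quotient.mk q)).primeCompl z
    obtain ⟨a₀, rfl⟩ := Ideal.Quotient.mk_surjective a
    obtain ⟨b₀, hb₀⟩ := Ideal.Quotient.mk_surjective (b : A ⧸ q)
    have hbP : b₀ ∈ P.primeCompl := fun h => b.2 (hb₀ ▸ Ideal.mem_map_of_mem _ h)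
    refine ⟨IsLocalization.mk' _ a₀ ⟨b₀, hbP⟩, ?_⟩
    have hu := hπu ⟨b₀, hbP⟩
    refine hu.mul_left_inj.1 ?_
    rw [← hπ, ← map_mul, IsLocalization.mk'_spec _ a₀ ⟨b₀, hbP⟩, hπ, hπ, hπ₀, hπ₀, hb₀, hab]
  have hD := linearIndependent_D_of_formallySmooth_quotient π hsurj hB
    (fun i => algebraMap A (Localization.AtPrime P) (f i))
    (fun i => by rw [hπ, hπ₀, Ideal.Quotient.eq_zero_iff_mem.2 (hf i), map_zero]) hli
  obtain ⟨hfinI, -⟩ := exists_cotangent_rank hS
  obtain ⟨M, D, hMD⟩ := exists_relations_bound p hk hA P
    (L := ResidueField (Localization.AtPrime P)) (finite_imperfection_canonical _ hfinI)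
    (Module.finrank (ResidueField (Localization.AtPrime P)) (CotangentSpace (Localization.AtPrime P)))
    fun s hs => finrank_cotangentSpace_add_le P hs
  obtain ⟨D', hD'⟩ := exists_det_of_annRelations P hS D (hMD _ fun c hc => hc) f (fun i => hq (hf i)) hD
  exact ⟨m, D', f, hf, hgen, hD'⟩

end Groth.Agent.SymGr
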