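import Groth.Agent.SymGr.Field
import Groth.Agent.S0564
import Groth.Agent.CAlgCompl.Local
import Groth.Agent.MvPSLib.Eval
import Mathlib

/-! Adically formally smooth local algebras over a field are geometrically regular. -/

set_option autoImplicit false

namespace Groth.Agent.SymGr

universe u

open TensorProduct IsLocalRing

/-- Localising at a prime containing the ideal of definition keeps adic formal smoothness. -/
theorem isAdicFormallySmooth_localization {R S : Type u} [CommRing R] [CommRing S] [Algebra R S]
    {I : Ideal S} (h : CAlgX.IsAdicFormallySmooth R S I) (n : Ideal S) [n.IsPrime] (hI : I ≤ n) :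
    CAlgX.IsAdicFormallySmooth R (Localization.AtPrime n) (maximalIdeal (Localization.AtPrime n)) := by
  intro T _ _ J hJ ψ hψ
  obtain ⟨k, hk⟩ := hψ
  obtain ⟨v, hv⟩ := h T J hJ (ψ.comp (IsScalarTower.toAlgHom R S (Localization.AtPrime n))) ⟨k, fun x hx => hk _ (by
    rw [← Localization.AtPrime.map_eq_maximalIdeal, ← Ideal.map_pow]
    exact Ideal.mem_map_of_mem _ (Ideal.pow_right_mono hI k hx))⟩
  have hu : ∀ y : n.primeCompl, IsUnit (v y) := fun y => by
    have h1 : IsUnit (Ideal.Quotient.mk J (v y)) := by
      rw [show Ideal.Quotient.mk J (v y) = ψ (algebraMap S (Localization.AtPrime n) y) from AlgHom.congr_fun hv y]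
      exact (IsLocalization.map_units (Localization.AtPrime n) y).map ψ
    obtain ⟨w, hw⟩ := Ideal.Quotient.mk_surjective (↑(h1.unit⁻¹) : T ⧸ J)
    have h2 : v (y : S) * w - 1 ∈ J := by
      rw [← Ideal.Quotient.eq, map_mul, hw, IsUnit.mul_val_inv, map_one]
    have h3 : IsNilpotent (v (y : S) * w - 1) := ⟨2, by simpa [hJ] using Ideal.pow_mem_pow h2 2⟩
    have := h3.isUnit_add_one
    rw [sub_add_cancel] at this
    exact isUnit_of_mul_isUnit_left this
  refine ⟨IsLocalization.liftAlgHom (f := v) hu, IsLocalization.algHom_ext n.primeCompl (AlgHom.ext fun x => ?_)⟩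
  have := AlgHom.congr_fun hv x
  show Ideal.Quotient.mk J (IsLocalization.lift hu (algebraMap S (Localization.AtPrime n) x)) =
    ψ (algebraMap S (Localization.AtPrime n) x)
  rw [IsLocalization.lift_eq]
  exact this

/-- Base change of adic formal smoothness along a field extension. -/
theorem isAdicFormallySmooth_baseChange {k k' A : Type u} [CommRing k] [CommRing k'] [CommRing A]
    [Algebra k A] [Algebra k k'] {I : Ideal A} (h : CAlgX.IsAdicFormallySmooth k A I) :
    CAlgX.IsAdicFormallySmooth k' (k' ⊗[k] A)
      (I.map (Algebra.TensorProduct.includeRight : A →ₐ[k] k' ⊗[k] A).toRingHom) := by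
  intro T _ _ J hJ ψ hψ
  have hE : EGA41.IsFormallySmoothAdic k ⊥ A I :=
    Groth.Agent.FSAdic.of_sq_zero ⊥ I fun T' _ _ J' hJ' _ ψ' hψ' => h T' J' hJ' ψ' hψ'
  have hb := Groth.Agent.FSAdic.baseChange (A' := k') ⊥ I ⊥ ⟨1, by simp⟩ hE
  rw [Ideal.map_bot, bot_sup_eq] at hb
  exact hb T J ⟨2, hJ⟩ ⟨1, by simp⟩ ψ hψ

/-- Geometric regularity, for every finite extension. -/
theorem isRegularRing_baseChange {k k' A : Type u} [Field k] [Field k'] [CommRing A] [IsLocalRing A]
    [IsNoetherianRing A] [Algebra k A] [Algebra k k'] [Module.Finite k k']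
    (h : CAlgX.IsAdicFormallySmooth k A (maximalIdeal A)) : IsRegularRing (k' ⊗[k] A) := by
  letI : Algebra A (k' ⊗[k] A) := Algebra.TensorProduct.rightAlgebra
  let e : A ⊗[k] k' →ₗ[A] k' ⊗[k] A :=
    { toFun := TensorProduct.comm k A k'
      map_add' := map_add _
      map_smul' := fun a x => by
        induction x using TensorProduct.induction_on with
        | zero => simp
        | add x y hx hy => simp only [smul_add, map_add, hx, hy]
        | tmul b c =>
          rw [TensorProduct.smul_tmul', TensorProduct.comm_tmul, TensorProduct.comm_tmul,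
            RingHom.id_apply, Algebra.smul_def a (c ⊗ₜ[k] b)]
          show c ⊗ₜ[k] (a * b) = ((1 : k') ⊗ₜ[k] a) * (c ⊗ₜ[k] b)
          rw [Algebra.TensorProduct.tmul_mul_tmul, one_mul] }
  haveI : Module.Finite A (k' ⊗[k] A) :=
    Module.Finite.of_surjective e (TensorProduct.comm k A k').surjective
  haveI : IsNoetherianRing (k' ⊗[k] A) := Algebra.FiniteType.isNoetherianRing A _
  refine (isRegularRing_iff).2 fun P hP => ?_
  obtain ⟨n, hn, hPn⟩ := Ideal.exists_le_maximal P hP.ne_top
  haveI := hn
  have hmn : (maximalIdeal A).map (Algebra.TensorProduct.includeRight : A →ₐ[k] k' ⊗[k] A).toRingHom ≤ n := by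
    rw [Ideal.map_le_iff_le_comap]
    haveI : Algebra.IsIntegral A (k' ⊗[k] A) := inferInstance
    haveI := Ideal.isMaximal_comap_of_isIntegral_of_isMaximal (R := A) n
    exact (IsLocalRing.eq_maximalIdeal (inferInstanceAs (n.comap (algebraMap A (k' ⊗[k] A))).IsMaximal)).ge
  have hloc := isAdicFormallySmooth_localization (isAdicFormallySmooth_baseChange (k' := k') h) n hmn
  haveI : IsNoetherianRing (Localization.AtPrime n) := IsLocalization.isNoetherianRing n.primeCompl _ inferInstance
  haveI : IsRegularLocalRing (Localization.AtPrime n) := (isAdicFormallySmooth_field_iff_regular.1 hloc).1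
  have hd : Disjoint (n.primeCompl : Set (k' ⊗[k] A)) P :=
    Set.disjoint_left.2 fun x hx hxP => hx (hPn hxP)
  haveI := IsLocalization.isPrime_of_isPrime_disjoint n.primeCompl (Localization.AtPrime n) P hP hd
  haveI := S0564.result (Localization.AtPrime n) (P.map (algebraMap _ (Localization.AtPrime n)))
  have hcomap : (P.map (algebraMap _ (Localization.AtPrime n))).comap (algebraMap _ (Localization.AtPrime n)) = P :=
    IsLocalization.under_map_of_isPrime_disjoint n.primeCompl (Localization.AtPrime n) hP hd
  haveI : IsLocalization.AtPrime (Localization.AtPrime (P.map (algebraMap _ (Localization.AtPrime n)))) P := by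
    have h1 := IsLocalization.isLocalization_isLocalization_atPrime_isLocalization n.primeCompl
      (T := Localization.AtPrime (P.map (algebraMap _ (Localization.AtPrime n))))
      (P.map (algebraMap _ (Localization.AtPrime n)))
    simpa only [hcomap] using h1
  exact IsRegularLocalRing.of_ringEquiv (R := Localization.AtPrime (P.map (algebraMap _ (Localization.AtPrime n)))) (IsLocalization.algEquiv P.primeCompl
    (Localization.AtPrime (P.map (algebraMap _ (Localization.AtPrime n)))) (Localization.AtPrime P)).toRingEquiv

end Groth.Agent.SymGr
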