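import Groth.Prelude.Def_CAlgX
import Mathlib

/-! Derivations out of an adically formally smooth algebra. -/

set_option autoImplicit false

namespace Groth.Agent.SymGr

universe u

open TensorProduct

variable {A B : Type u} [CommRing A] [CommRing B] [Algebra A B] {J : Ideal B}

/-- Derivations extend and lift. -/
theorem exists_derivation_lift (h : CAlgX.IsAdicFormallySmooth A B J)
    {M N : Type u} [AddCommGroup M] [AddCommGroup N] [Module (B ⧸ J) M] [Module (B ⧸ J) N]
    (f : M →ₗ[B ⧸ J] N) (hf : Function.Surjective f)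
    (D : A →+ M) (hD : ∀ a b, D (a * b) = Ideal.Quotient.mk J (algebraMap A B a) • D b +
      Ideal.Quotient.mk J (algebraMap A B b) • D a)
    (E₀ : B →+ N) (hE₀ : ∀ a b, E₀ (a * b) = Ideal.Quotient.mk J a • E₀ b + Ideal.Quotient.mk J b • E₀ a)
    (hcompat : ∀ a, f (D a) = E₀ (algebraMap A B a)) :
    ∃ E : B →+ M, (∀ a b, E (a * b) = Ideal.Quotient.mk J a • E b + Ideal.Quotient.mk J b • E a) ∧
      (∀ b, f (E b) = E₀ b) ∧ ∀ a, E (algebraMap A B a) = D a := by
  letI : Module (B ⧸ J)ᵐᵒᵖ M := Module.compHom M ((RingHom.id (B ⧸ J)).fromOpposite mul_comm)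
  letI : Module (B ⧸ J)ᵐᵒᵖ N := Module.compHom N ((RingHom.id (B ⧸ J)).fromOpposite mul_comm)
  haveI : IsCentralScalar (B ⧸ J) M := ⟨fun _ _ => rfl⟩
  haveI : IsCentralScalar (B ⧸ J) N := ⟨fun _ _ => rfl⟩
  have hE1 : E₀ 1 = 0 := by simpa using hE₀ 1 1
  have hD1 : D 1 = 0 := by simpa using hD 1 1
  let iM : A →+* TrivSqZeroExt (B ⧸ J) M :=
    { toFun := fun a => TrivSqZeroExt.inl (Ideal.Quotient.mk J (algebraMap A B a)) + TrivSqZeroExt.inr (D a)
      map_one' := by ext <;> simp [hD1]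
      map_zero' := by ext <;> simp
      map_add' := fun a b => by ext <;> simp
      map_mul' := fun a b => by
        ext
        · simp
        · simp only [TrivSqZeroExt.snd_add, TrivSqZeroExt.snd_inl, TrivSqZeroExt.snd_inr, zero_add,
            TrivSqZeroExt.snd_mul, TrivSqZeroExt.fst_add, TrivSqZeroExt.fst_inl,
            TrivSqZeroExt.fst_inr, add_zero, hD, op_smul_eq_smul] }
  letI : Algebra A (TrivSqZeroExt (B ⧸ J) M) := iM.toAlgebra
  let q : TrivSqZeroExt (B ⧸ J) M →+* TrivSqZeroExt (B ⧸ J) N := (TrivSqZeroExt.map f).toRingHom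
  letI : Algebra A (TrivSqZeroExt (B ⧸ J) N) := (q.comp iM).toAlgebra
  let qa : TrivSqZeroExt (B ⧸ J) M →ₐ[A] TrivSqZeroExt (B ⧸ J) N := { q with commutes' := fun _ => rfl }
  have hq : Function.Surjective qa := fun z => by
    obtain ⟨m, hm⟩ := hf z.snd
    exact ⟨TrivSqZeroExt.inl z.fst + TrivSqZeroExt.inr m, by ext <;> simp [qa, q, hm]⟩
  let ψ : B →ₐ[A] TrivSqZeroExt (B ⧸ J) N :=
    { toFun := fun b => TrivSqZeroExt.inl (Ideal.Quotient.mk J b) + TrivSqZeroExt.inr (E₀ b)
      map_one' := by ext <;> simp [hE1]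
      map_zero' := by ext <;> simp
      map_add' := fun a b => by ext <;> simp
      map_mul' := fun a b => by
        ext
        · simp
        · simp only [TrivSqZeroExt.snd_add, TrivSqZeroExt.snd_inl, TrivSqZeroExt.snd_inr, zero_add,
            TrivSqZeroExt.snd_mul, TrivSqZeroExt.fst_add, TrivSqZeroExt.fst_inl,
            TrivSqZeroExt.fst_inr, add_zero, hE₀, op_smul_eq_smul]
      commutes' := fun a => by
        show TrivSqZeroExt.inl (Ideal.Quotient.mk J (algebraMap A B a)) +
          TrivSqZeroExt.inr (E₀ (algebraMap A B a)) = q (iM a)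
        ext <;> simp [q, iM, hcompat] }
  let e := Ideal.quotientKerAlgEquivOfSurjective (f := qa) hq
  have hfst : ∀ x, qa x = 0 → x.fst = 0 := fun x hx => by
    simpa [qa, q] using congrArg TrivSqZeroExt.fst hx
  have hker : RingHom.ker qa ^ 2 = ⊥ := by
    rw [eq_bot_iff, sq, Ideal.mul_le]
    intro x hx y hy
    rw [Ideal.mem_bot]
    ext <;> simp [hfst x hx, hfst y hy]
  obtain ⟨v, hv⟩ := h _ (RingHom.ker qa) hker (e.symm.toAlgHom.comp ψ) ⟨2, fun x hx => by
    have h1 : E₀ x = 0 := by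
      rw [sq] at hx
      refine Submodule.mul_induction_on hx (fun a ha b hb => ?_) fun a b ha hb => by rw [map_add, ha, hb, add_zero]
      rw [hE₀, Ideal.Quotient.eq_zero_iff_mem.2 ha, Ideal.Quotient.eq_zero_iff_mem.2 hb]
      simp
    have h2 : ψ x = 0 := by
      show TrivSqZeroExt.inl (Ideal.Quotient.mk J x) + TrivSqZeroExt.inr (E₀ x) = 0
      rw [h1, Ideal.Quotient.eq_zero_iff_mem.2 (Ideal.pow_le_self two_ne_zero hx)]
      simp
    simp [h2]⟩
  have hqv : ∀ b, qa (v b) = ψ b := fun b => by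
    have := congrArg e (AlgHom.congr_fun hv b)
    simp only [AlgHom.comp_apply, AlgEquiv.toAlgHom_apply] at this
    rw [e.apply_symm_apply] at this
    exact this
  have hfst' : ∀ b, (v b).fst = Ideal.Quotient.mk J b := fun b => by
    simpa [qa, q, ψ] using congrArg TrivSqZeroExt.fst (hqv b)
  refine ⟨{ toFun := fun b => (v b).snd, map_zero' := by simp, map_add' := fun a b => by simp },
    fun a b => ?_, fun b => ?_, fun a => ?_⟩
  · show (v (a * b)).snd = _
    rw [map_mul, TrivSqZeroExt.snd_mul, hfst', hfst', op_smul_eq_smul]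
    rfl
  · simpa [qa, q, ψ] using congrArg TrivSqZeroExt.snd (hqv b)
  · show (v (algebraMap A B a)).snd = D a
    rw [v.commutes]
    show (TrivSqZeroExt.inl (Ideal.Quotient.mk J (algebraMap A B a)) + TrivSqZeroExt.inr (D a)).snd = D a
    simp

variable {Λ : Type u} [CommRing Λ] [Algebra Λ A] [Algebra Λ B] [IsScalarTower Λ A B]

theorem derivation_smul {M : Type u} [AddCommGroup M] [Module B M] [Module (B ⧸ J) M]
    [IsScalarTower B (B ⧸ J) M] (b : B) (m : M) : Ideal.Quotient.mk J b • m = b • m :=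
  algebraMap_smul (B ⧸ J) b m

/-- A family of maps satisfying Leibniz and vanishing on `Λ` factors through the differentials. -/
theorem exists_linear_of_leibniz (Λ : Type u) [CommRing Λ] [Algebra Λ B] {M : Type u} [AddCommGroup M]
    [Module B M] [Module (B ⧸ J) M] [IsScalarTower B (B ⧸ J) M] (E : B →+ M)
    (hE : ∀ a b, E (a * b) = Ideal.Quotient.mk J a • E b + Ideal.Quotient.mk J b • E a)
    (hΛ : ∀ l : Λ, E (algebraMap Λ B l) = 0) :
    ∃ L : (B ⧸ J) ⊗[B] Ω[B⁄Λ] →ₗ[B ⧸ J] M, ∀ b, L (1 ⊗ₜ KaehlerDifferential.D Λ B b) = E b := by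
  letI : Module Λ M := Module.compHom M (algebraMap Λ B)
  haveI : IsScalarTower Λ B M := ⟨fun l b m => by rw [Algebra.smul_def, mul_smul]; rfl⟩
  let E' : Derivation Λ B M := Derivation.mk'
    { toFun := E
      map_add' := map_add E
      map_smul' := fun l b => by
        rw [RingHom.id_apply, Algebra.smul_def, hE, hΛ, smul_zero, add_zero, derivation_smul]
        rfl }
    fun a b => by
      show E (a * b) = a • E b + b • E a
      rw [hE, derivation_smul, derivation_smul]
  exact ⟨LinearMap.liftBaseChange (B ⧸ J) E'.liftKaehlerDifferential, fun b => by simp [E']⟩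

theorem span_one_tmul_D (Λ : Type u) [CommRing Λ] [Algebra Λ B] :
    Submodule.span (B ⧸ J) (Set.range fun b => (1 : B ⧸ J) ⊗ₜ[B] KaehlerDifferential.D Λ B b) = ⊤ := by
  rw [eq_top_iff]
  rintro x -
  induction x using TensorProduct.induction_on with
  | zero => exact zero_mem _
  | add x y hx hy => exact add_mem hx hy
  | tmul c ω =>
    have h1 : ω ∈ Submodule.span B (Set.range (KaehlerDifferential.D Λ B)) := by
      rw [KaehlerDifferential.span_range_derivation]; trivial
    induction h1 using Submodule.span_induction with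
    | mem x hx =>
      obtain ⟨b, rfl⟩ := hx
      rw [show c ⊗ₜ[B] KaehlerDifferential.D Λ B b = c • ((1 : B ⧸ J) ⊗ₜ[B] KaehlerDifferential.D Λ B b) by
        rw [TensorProduct.smul_tmul', smul_eq_mul, mul_one]]
      exact Submodule.smul_mem _ _ (Submodule.subset_span ⟨b, rfl⟩)
    | zero => rw [TensorProduct.tmul_zero]; exact zero_mem _
    | add x y _ _ hx hy => rw [TensorProduct.tmul_add]; exact add_mem hx hy
    | smul b x _ hx =>
      rw [← TensorProduct.smul_tmul, Algebra.smul_def, ← smul_eq_mul, ← TensorProduct.smul_tmul']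
      exact Submodule.smul_mem _ _ hx

variable (Λ)

/-- The map `C ⊗ Ω_{A/Λ} → C ⊗ Ω_{B/Λ}`. -/
noncomputable def iota (A : Type u) [CommRing A] [Algebra A B] [Algebra Λ A] [IsScalarTower Λ A B]
    (J : Ideal B) :
    (B ⧸ J) ⊗[B] (B ⊗[A] Ω[A⁄Λ]) →ₗ[B ⧸ J] (B ⧸ J) ⊗[B] Ω[B⁄Λ] :=
  (KaehlerDifferential.mapBaseChange Λ A B).baseChange (B ⧸ J)

theorem iota_eq (x : (B ⧸ J) ⊗[B] (B ⊗[A] Ω[A⁄Λ])) :
    iota Λ A J x = (KaehlerDifferential.mapBaseChange Λ A B).lTensor (B ⧸ J) x := rfl

theorem iota_D (a : A) :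
    iota Λ A J (1 ⊗ₜ (1 ⊗ₜ KaehlerDifferential.D Λ A a)) =
      1 ⊗ₜ KaehlerDifferential.D Λ B (algebraMap A B a) := by
  rw [iota, LinearMap.baseChange_tmul, KaehlerDifferential.mapBaseChange_tmul, one_smul,
    KaehlerDifferential.map_D]

/-- The differentials of the base inject, split, after base change to `B/J`. -/
theorem exists_retraction_iota (h : CAlgX.IsAdicFormallySmooth A B J) :
    ∃ r : (B ⧸ J) ⊗[B] Ω[B⁄Λ] →ₗ[B ⧸ J] (B ⧸ J) ⊗[B] (B ⊗[A] Ω[A⁄Λ]),
      r ∘ₗ iota Λ A J = LinearMap.id := by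
  let D : A →+ (B ⧸ J) ⊗[B] (B ⊗[A] Ω[A⁄Λ]) :=
    { toFun := fun a => 1 ⊗ₜ (1 ⊗ₜ KaehlerDifferential.D Λ A a)
      map_zero' := by simp
      map_add' := fun a b => by simp [TensorProduct.tmul_add] }
  have hD : ∀ a b, D (a * b) = Ideal.Quotient.mk J (algebraMap A B a) • D b +
      Ideal.Quotient.mk J (algebraMap A B b) • D a := fun a b => by
    have key : ∀ (a : A) (x : Ω[A⁄Λ]), (1 : B ⧸ J) ⊗ₜ[B] ((1 : B) ⊗ₜ[A] (a • x)) =
        Ideal.Quotient.mk J (algebraMap A B a) • ((1 : B ⧸ J) ⊗ₜ[B] ((1 : B) ⊗ₜ[A] x)) := fun a x => by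
      rw [TensorProduct.tmul_smul, ← algebraMap_smul B a ((1 : B) ⊗ₜ[A] x), TensorProduct.tmul_smul]
      exact (algebraMap_smul (B ⧸ J) (algebraMap A B a) _).symm
    show (1 : B ⧸ J) ⊗ₜ[B] ((1 : B) ⊗ₜ[A] KaehlerDifferential.D Λ A (a * b)) = _
    rw [Derivation.leibniz, TensorProduct.tmul_add, TensorProduct.tmul_add, key, key]
    rfl
  obtain ⟨E, hE, -, hEA⟩ := exists_derivation_lift h
    (0 : (B ⧸ J) ⊗[B] (B ⊗[A] Ω[A⁄Λ]) →ₗ[B ⧸ J] PUnit.{u+1})
    (fun y => ⟨0, Subsingleton.elim _ _⟩) D hD 0 (fun _ _ => Subsingleton.elim _ _)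
    (fun _ => Subsingleton.elim _ _)
  obtain ⟨L, hL⟩ := exists_linear_of_leibniz Λ E hE fun l => by
    rw [IsScalarTower.algebraMap_apply Λ A B, hEA]
    simp [D]
  refine ⟨L, LinearMap.ext fun x => ?_⟩
  induction x using TensorProduct.induction_on with
  | zero => simp
  | add x y hx hy => rw [map_add, map_add, hx, hy]
  | tmul c y =>
    rw [show c ⊗ₜ[B] y = c • ((1 : B ⧸ J) ⊗ₜ[B] y) by rw [TensorProduct.smul_tmul', smul_eq_mul, mul_one],
      map_smul, map_smul]
    congr 1
    induction y using TensorProduct.induction_on with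
    | zero => simp
    | add y z hy hz => rw [TensorProduct.tmul_add, map_add, map_add, hy, hz]
    | tmul b ω =>
      rw [show b ⊗ₜ[A] ω = b • ((1 : B) ⊗ₜ[A] ω) by rw [TensorProduct.smul_tmul', smul_eq_mul, mul_one],
        TensorProduct.tmul_smul, LinearMap.map_smul_of_tower, LinearMap.map_smul_of_tower]
      congr 1
      have h1 : ω ∈ Submodule.span A (Set.range (KaehlerDifferential.D Λ A)) := by
        rw [KaehlerDifferential.span_range_derivation]; trivial
      induction h1 using Submodule.span_induction with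
      | mem x hx =>
        obtain ⟨a, rfl⟩ := hx
        rw [LinearMap.comp_apply, iota_D, hL, hEA]
        rfl
      | zero => simp
      | add x y _ _ hx hy => rw [TensorProduct.tmul_add, TensorProduct.tmul_add, map_add, map_add, hx, hy]
      | smul a x _ hx =>
        rw [TensorProduct.tmul_smul, show a • ((1 : B) ⊗ₜ[A] x) = algebraMap A B a • ((1 : B) ⊗ₜ[A] x) from
          (algebraMap_smul B a _).symm, TensorProduct.tmul_smul, LinearMap.map_smul_of_tower,
          LinearMap.map_smul_of_tower, hx]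

omit [Algebra Λ A] [Algebra Λ B] [IsScalarTower Λ A B] in
/-- The relative differentials are projective after base change to `B/J`. -/
theorem projective_kaehler (h : CAlgX.IsAdicFormallySmooth A B J) :
    Module.Projective (B ⧸ J) ((B ⧸ J) ⊗[B] Ω[B⁄A]) := by
  refine Module.Projective.of_lifting_property fun {M N} _ _ _ _ f g hf => ?_
  letI : Module B M := Module.compHom M (Ideal.Quotient.mk J)
  haveI : IsScalarTower B (B ⧸ J) M := ⟨fun b c m => by
    show (b • c) • m = Ideal.Quotient.mk J b • c • m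
    rw [Algebra.smul_def, mul_smul]; rfl⟩
  let E₀ : B →+ N :=
    { toFun := fun b => g (1 ⊗ₜ KaehlerDifferential.D A B b)
      map_zero' := by simp
      map_add' := fun a b => by simp [TensorProduct.tmul_add] }
  obtain ⟨E, hE, hEf, hEA⟩ := exists_derivation_lift h f hf 0 (fun a b => by simp) E₀
    (fun a b => by
      simp only [E₀, AddMonoidHom.coe_mk, ZeroHom.coe_mk, Derivation.leibniz, TensorProduct.tmul_add,
        TensorProduct.tmul_smul, map_add, LinearMap.map_smul_of_tower]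
      rw [← map_smul g, ← map_smul g, derivation_smul, derivation_smul])
    (fun a => by simp [E₀])
  obtain ⟨L, hL⟩ := exists_linear_of_leibniz A E hE fun a => hEA a
  refine ⟨L, LinearMap.ext_on_range (span_one_tmul_D (J := J) A) fun b => ?_⟩
  rw [LinearMap.comp_apply, hL, hEf]
  rfl

end Groth.Agent.SymGr
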