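import Groth.Agent.SymGr.Adic
import Groth.Agent.SymGr.Deriv

/-! Changing the base: from formal smoothness over `Λ` to formal smoothness over `A`. -/

set_option autoImplicit false

namespace Groth.Agent.SymGr

universe u

open TensorProduct

variable {A B : Type u} [CommRing A] [CommRing B] [Algebra A B] {J : Ideal B}

/-- Lifting may be tested on kernels killed by the preimage of the image of `J`. -/
theorem isAdicFormallySmooth_of_killed
    (h : ∀ (T : Type u) [CommRing T] [Algebra A T] (I : Ideal T), I ^ 2 = ⊥ → ∀ ψ : B →ₐ[A] T ⧸ I,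
      (∃ k : ℕ, ∀ x ∈ J ^ k, ψ x = 0) →
      (∀ t, Ideal.Quotient.mk I t ∈ J.map ψ.toRingHom → ∀ i ∈ I, t * i = 0) →
      ∃ χ : B →ₐ[A] T, (Ideal.Quotient.mkₐ A I).comp χ = ψ) :
    CAlgX.IsAdicFormallySmooth A B J := by
  intro T _ _ I hI ψ hψ
  suffices ∀ (i : ℕ) (T : Type u) [CommRing T] [Algebra A T] (I : Ideal T), I ^ 2 = ⊥ →
      ∀ ψ : B →ₐ[A] T ⧸ I, (∃ k : ℕ, ∀ x ∈ J ^ k, ψ x = 0) →
        ((J.map ψ.toRingHom).comap (Ideal.Quotient.mk I)) ^ i * I = ⊥ →
          ∃ χ : B →ₐ[A] T, (Ideal.Quotient.mkₐ A I).comp χ = ψ by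
    obtain ⟨k, hk⟩ := hψ
    refine this (k * 2) T I hI ψ ⟨k, hk⟩ ?_
    have h0 : (((J.map ψ.toRingHom).comap (Ideal.Quotient.mk I))) ^ (k * 2) = ⊥ := by
      refine le_bot_iff.mp ?_
      rw [pow_mul]
      refine (Ideal.pow_right_mono (J := I) ?_ 2).trans hI.le
      have : ((((J.map ψ.toRingHom).comap (Ideal.Quotient.mk I))) ^ k).map
          (Ideal.Quotient.mk I) = ⊥ := by
        rw [Ideal.map_pow, Ideal.map_comap_of_surjective _ Ideal.Quotient.mk_surjective,
          ← Ideal.map_pow, Ideal.map_eq_bot_iff_le_ker]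
        exact fun x hx => hk x hx
      rwa [Ideal.map_eq_bot_iff_le_ker, Ideal.mk_ker] at this
    rw [h0, Ideal.bot_mul]
  intro i
  induction i with
  | zero =>
    intro T _ _ I _ ψ _ hI0
    rw [pow_zero, one_mul] at hI0
    subst hI0
    refine ⟨(AlgEquiv.quotientBot A T).toAlgHom.comp ψ, AlgHom.ext fun x => ?_⟩
    obtain ⟨c, hc⟩ := Ideal.Quotient.mk_surjective (ψ x)
    simp [← hc]
  | succ i ih =>
    intro T _ _ I hI ψ hψ hIi
    let N := (J.map ψ.toRingHom).comap (Ideal.Quotient.mk I)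
    let I₁ : Ideal T := N * I
    have hle : I₁ ≤ I := Ideal.mul_le_right
    let I' : Ideal (T ⧸ I₁) := I.map (Ideal.Quotient.mk I₁)
    let e : ((T ⧸ I₁) ⧸ I') ≃ₐ[A] T ⧸ I := DoubleQuot.quotQuotEquivQuotOfLEₐ A hle
    have hI'2 : I' ^ 2 = ⊥ := by rw [← Ideal.map_pow, hI, Ideal.map_bot]
    obtain ⟨k, hk⟩ := hψ
    obtain ⟨v₁, hv₁⟩ := h (T ⧸ I₁) I' hI'2 (e.symm.toAlgHom.comp ψ)
      ⟨k, fun x hx => by simp [hk x hx]⟩ (by
        intro t ht j hj
        obtain ⟨t₀, rfl⟩ := Ideal.Quotient.mk_surjective t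
        obtain ⟨j₀, hj₀, rfl⟩ :=
          (Ideal.mem_map_iff_of_surjective _ Ideal.Quotient.mk_surjective).mp hj
        rw [← map_mul, Ideal.Quotient.eq_zero_iff_mem]
        refine Ideal.mul_mem_mul ?_ hj₀
        rw [Ideal.mem_comap]
        have h2 := Ideal.mem_map_of_mem e.toRingEquiv.toRingHom ht
        rw [Ideal.map_map] at h2
        have h3 : e.toRingEquiv.toRingHom.comp (e.symm.toAlgHom.comp ψ).toRingHom = ψ.toRingHom :=
          RingHom.ext fun x => e.apply_symm_apply (ψ x)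
        rw [h3] at h2
        exact h2)
    have hv₁' : ∀ x, Ideal.Quotient.factor hle (v₁ x) = ψ x := fun x => by
      have h2 := congrArg e (AlgHom.congr_fun hv₁ x)
      simp only [AlgHom.comp_apply, AlgEquiv.toAlgHom_apply, AlgEquiv.apply_symm_apply] at h2
      rw [← h2]
      obtain ⟨z, hz⟩ := Ideal.Quotient.mk_surjective (v₁ x)
      rw [← hz]
      rfl
    have hI₁ : I₁ ^ 2 = ⊥ := le_bot_iff.mp ((Ideal.pow_right_mono hle 2).trans hI.le)
    have hN₁ : (J.map v₁.toRingHom).comap (Ideal.Quotient.mk I₁) ≤ N := by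
      intro a ha
      rw [Ideal.mem_comap] at ha ⊢
      have h1 := Ideal.mem_map_of_mem (Ideal.Quotient.factor hle) ha
      rw [Ideal.map_map, Ideal.Quotient.factor_mk] at h1
      have h3 : (Ideal.Quotient.factor hle).comp v₁.toRingHom = ψ.toRingHom :=
        RingHom.ext hv₁'
      rwa [h3] at h1
    obtain ⟨v, hv⟩ := ih T I₁ hI₁ v₁
      (Groth.Agent.FSAdic.vanish_of_lift ⟨2, hI'2⟩ v₁ _ hv₁ J ⟨k, fun x hx => by simp [hk x hx]⟩)
      (le_bot_iff.mp ((Ideal.mul_mono_left (Ideal.pow_right_mono hN₁ i)).trans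
        (by rw [← mul_assoc, ← pow_succ, hIi])))
    refine ⟨v, AlgHom.ext fun x => ?_⟩
    rw [← hv₁' x, ← congrArg (fun f => f x) hv]
    rfl

variable (Λ : Type u) [CommRing Λ] [Algebra Λ A] [Algebra Λ B] [IsScalarTower Λ A B]

/-- Formal smoothness descends to a bigger base when the differentials of the base inject, split. -/
theorem isAdicFormallySmooth_of_retraction (h : CAlgX.IsAdicFormallySmooth Λ B J)
    (r : (B ⧸ J) ⊗[B] Ω[B⁄Λ] →ₗ[B ⧸ J] (B ⧸ J) ⊗[B] (B ⊗[A] Ω[A⁄Λ]))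
    (hr : r ∘ₗ iota Λ A J = LinearMap.id) : CAlgX.IsAdicFormallySmooth A B J := by
  refine isAdicFormallySmooth_of_killed fun T _ _ I hI ψ hψ hkill => ?_
  letI : Algebra Λ T := ((algebraMap A T).comp (algebraMap Λ A)).toAlgebra
  haveI : IsScalarTower Λ A T := IsScalarTower.of_algebraMap_eq' rfl
  obtain ⟨v, hv⟩ := h T I hI (ψ.restrictScalars Λ) hψ
  have hvψ : ∀ b, Ideal.Quotient.mk I (v b) = ψ b := fun b => AlgHom.congr_fun hv b
  have hII : ∀ x ∈ I, ∀ y ∈ I, x * y = 0 := fun x hx y hy => by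
    rw [← Ideal.mem_bot, ← hI, sq]; exact Ideal.mul_mem_mul hx hy
  have hJ : ∀ b ∈ J, ∀ i ∈ I, v b * i = 0 := fun b hb =>
    hkill (v b) (by rw [hvψ]; exact Ideal.mem_map_of_mem ψ.toRingHom hb)
  -- `I` as a module over `B`, `B/J`
  letI : Module B I := Module.compHom I v.toRingHom
  have hsmul : ∀ (b : B) (i : I), ((b • i : I) : T) = v b * i := fun _ _ => rfl
  let act : B ⧸ J →+* Module.End B I := Ideal.Quotient.lift J (algebraMap B (Module.End B I))
    fun b hb => LinearMap.ext fun i => Subtype.ext (hJ b hb i i.2)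
  letI : Module (B ⧸ J) I := Module.compHom I act
  haveI : IsScalarTower B (B ⧸ J) I := ⟨fun b c i => by
    obtain ⟨c, rfl⟩ := Ideal.Quotient.mk_surjective c
    show (b * c) • i = b • c • i
    rw [mul_smul]⟩
  have hmk : ∀ (b : B) (i : I), Ideal.Quotient.mk J b • i = b • i := fun _ _ => rfl
  haveI : IsScalarTower A B I := ⟨fun a b i => Subtype.ext (by
    show v (a • b) * (i : T) = a • (v b * (i : T))
    rw [Algebra.smul_def, map_mul, Algebra.smul_def]
    have h1 : v (algebraMap A B a) - algebraMap A T a ∈ I := by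
      rw [← Ideal.Quotient.eq, hvψ, ψ.commutes]; rfl
    linear_combination v b * hII _ h1 _ i.2)⟩
  haveI : IsScalarTower Λ B I := ⟨fun l b i => Subtype.ext (by
    show v (l • b) * (i : T) = l • (v b * (i : T))
    rw [map_smul, smul_mul_assoc])⟩
  -- the derivation `D = algebraMap − v`
  let D : Derivation Λ A I := Derivation.mk'
    { toFun := fun a => ⟨algebraMap A T a - v (algebraMap A B a), by
        rw [← Ideal.Quotient.eq, hvψ, ψ.commutes]; rfl⟩
      map_add' := fun a b => Subtype.ext (by simp; ring)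
      map_smul' := fun l a => Subtype.ext (by
        show algebraMap A T (l • a) - v (algebraMap A B (l • a)) = l • (algebraMap A T a - v (algebraMap A B a))
        rw [Algebra.algebraMap_eq_smul_one (l • a), Algebra.algebraMap_eq_smul_one (A := B) (l • a),
          smul_assoc, smul_assoc, map_smul, smul_sub, ← Algebra.algebraMap_eq_smul_one,
          ← Algebra.algebraMap_eq_smul_one]) }
    fun a b => Subtype.ext (by
      show algebraMap A T (a * b) - v (algebraMap A B (a * b)) =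
        a • (algebraMap A T b - v (algebraMap A B b)) + b • (algebraMap A T a - v (algebraMap A B a))
      rw [map_mul, map_mul, map_mul, Algebra.smul_def, Algebra.smul_def]
      have h1 : ∀ c, algebraMap A T c - v (algebraMap A B c) ∈ I := fun c => by
        rw [← Ideal.Quotient.eq, hvψ, ψ.commutes]; rfl
      linear_combination -hII _ (h1 a) _ (h1 b))
  have hD : ∀ a, ((D a : I) : T) = algebraMap A T a - v (algebraMap A B a) := fun _ => rfl
  let F : (B ⧸ J) ⊗[B] (B ⊗[A] Ω[A⁄Λ]) →ₗ[B ⧸ J] I :=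
    LinearMap.liftBaseChange (B ⧸ J) (LinearMap.liftBaseChange B D.liftKaehlerDifferential)
  let G : (B ⧸ J) ⊗[B] Ω[B⁄Λ] →ₗ[B ⧸ J] I := F ∘ₗ r
  let E : B → I := fun b => G (1 ⊗ₜ KaehlerDifferential.D Λ B b)
  have hEA : ∀ a, E (algebraMap A B a) = D a := fun a => by
    show F (r (1 ⊗ₜ KaehlerDifferential.D Λ B (algebraMap A B a))) = D a
    rw [← iota_D, show r (iota Λ A J (1 ⊗ₜ (1 ⊗ₜ KaehlerDifferential.D Λ A a))) = _ from
      LinearMap.congr_fun hr _]
    simp [F]
  have hEmul : ∀ a b, E (a * b) = a • E b + b • E a := fun a b => by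
    simp only [E, Derivation.leibniz, TensorProduct.tmul_add, TensorProduct.tmul_smul, map_add,
      LinearMap.map_smul_of_tower]
  refine ⟨{ toFun := fun b => v b + (E b : T)
            map_one' := ?_, map_mul' := fun a b => ?_, map_zero' := ?_
            map_add' := fun a b => ?_, commutes' := fun a => ?_ }, AlgHom.ext fun b => ?_⟩
  · have h1 : E 1 = 0 := by simp [E]
    simp [h1]
  · rw [map_mul, hEmul, Submodule.coe_add, hsmul, hsmul]
    linear_combination -hII _ (E a).2 _ (E b).2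
  · have h1 : E 0 = 0 := by simp [E]
    simp [h1]
  · have h1 : E (a + b) = E a + E b := by simp [E, TensorProduct.tmul_add]
    rw [map_add, h1, Submodule.coe_add]
    ring
  · show v (algebraMap A B a) + (E (algebraMap A B a) : T) = algebraMap A T a
    rw [hEA, hD]
    ring
  · show Ideal.Quotient.mk I (v b + (E b : T)) = ψ b
    rw [map_add, hvψ, Ideal.Quotient.eq_zero_iff_mem.2 (E b).2, add_zero]

omit [IsScalarTower Λ A B] in
theorem trans_of_formallySmooth [IsScalarTower Λ A B] [Algebra.FormallySmooth Λ A]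
    (h : CAlgX.IsAdicFormallySmooth A B J) : CAlgX.IsAdicFormallySmooth Λ B J := by
  intro T _ _ I hI ψ hψ
  obtain ⟨g, hg⟩ := Algebra.FormallySmooth.exists_lift I ⟨2, hI⟩ (ψ.comp (IsScalarTower.toAlgHom Λ A B))
  letI : Algebra A T := g.toRingHom.toAlgebra
  haveI : IsScalarTower Λ A T := IsScalarTower.of_algebraMap_eq fun l => (g.commutes l).symm
  let ψ' : B →ₐ[A] T ⧸ I :=
    { ψ.toRingHom with commutes' := fun a => (AlgHom.congr_fun hg a).symm }
  obtain ⟨χ, hχ⟩ := h T I hI ψ' hψ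
  exact ⟨χ.restrictScalars Λ, AlgHom.ext fun b => AlgHom.congr_fun hχ b⟩

/-- A retraction from injectivity and projectivity of the cokernel. -/
theorem exists_retraction_of_injective (hinj : Function.Injective (iota Λ A J))
    [Module.Projective (B ⧸ J) ((B ⧸ J) ⊗[B] Ω[B⁄A])] :
    ∃ r : (B ⧸ J) ⊗[B] Ω[B⁄Λ] →ₗ[B ⧸ J] (B ⧸ J) ⊗[B] (B ⊗[A] Ω[A⁄Λ]),
      r ∘ₗ iota Λ A J = LinearMap.id := by
  let q : (B ⧸ J) ⊗[B] Ω[B⁄Λ] →ₗ[B ⧸ J] (B ⧸ J) ⊗[B] Ω[B⁄A] :=
    (KaehlerDifferential.map Λ A B B).baseChange (B ⧸ J)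
  have hq : Function.Surjective q :=
    LinearMap.lTensor_surjective _ (KaehlerDifferential.map_surjective Λ A B)
  have hex : Function.Exact (iota Λ A J) q :=
    lTensor_exact (B ⧸ J) (KaehlerDifferential.exact_mapBaseChange_map Λ A B)
      (KaehlerDifferential.map_surjective Λ A B)
  obtain ⟨s, hs⟩ := Module.projective_lifting_property q LinearMap.id hq
  have hmem : ∀ x, ((LinearMap.id : (B ⧸ J) ⊗[B] Ω[B⁄Λ] →ₗ[B ⧸ J] (B ⧸ J) ⊗[B] Ω[B⁄Λ]) - s ∘ₗ q) x ∈ LinearMap.range (iota Λ A J) := fun x => by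
    refine (hex _).1 ?_
    rw [LinearMap.sub_apply, LinearMap.id_apply, LinearMap.comp_apply, map_sub,
      show q (s (q x)) = q x from LinearMap.congr_fun hs (q x), sub_self]
  let e := LinearEquiv.ofInjective _ hinj
  refine ⟨e.symm.toLinearMap ∘ₗ LinearMap.codRestrict _ _ hmem, LinearMap.ext fun x => ?_⟩
  rw [LinearMap.comp_apply, LinearMap.comp_apply, LinearMap.id_apply]
  refine e.injective (Subtype.ext ?_)
  rw [LinearEquiv.coe_coe, e.apply_symm_apply]
  show iota Λ A J x - s (q (iota Λ A J x)) = iota Λ A J x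
  rw [hex.apply_apply_eq_zero, map_zero, sub_zero]

end Groth.Agent.SymGr
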