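import Groth.Agent.SymGr.Field
import Groth.Agent.CAlgJac.Basic
import Groth.Agent.PBasis.Separable
import Groth.Agent.S4541
import Mathlib

/-! Adjoining `p`-th roots: regularity forces differentials to be independent. -/

set_option autoImplicit false

namespace Groth.Agent.SymGr

universe u

open TensorProduct IsLocalRing EGA41 MvPolynomial

/-- Relations between `f₀, …` have coefficients in the ideal they generate. -/
def RelProp {R : Type u} [CommRing R] {n : ℕ} (f : Fin n → R) : Prop :=
  ∀ a : Fin n → R, ∑ i, a i * f i = 0 → ∀ i, a i ∈ Ideal.span (Set.range f)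

theorem relProp_cons {R : Type u} [CommRing R] {n : ℕ} {f : Fin n → R} (hf : RelProp f)
    {q : Polynomial R} (hq : q.Monic) :
    RelProp (Fin.cons q fun i => Polynomial.C (f i) : Fin (n + 1) → Polynomial R) := by
  set J := Ideal.span (Set.range f) with hJ
  set I := Ideal.span (Set.range (Fin.cons q fun i => Polynomial.C (f i) : Fin (n + 1) → Polynomial R))
  have hJI : J.map (Polynomial.C : R →+* Polynomial R) ≤ I := by
    rw [hJ, Ideal.map_span, Ideal.span_le]
    rintro _ ⟨_, ⟨i, rfl⟩, rfl⟩
    exact Ideal.subset_span ⟨i.succ, by simp⟩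
  intro a ha
  rw [Fin.sum_univ_succ] at ha
  simp only [Fin.cons_zero, Fin.cons_succ] at ha
  have h0 : a 0 ∈ J.map (Polynomial.C : R →+* Polynomial R) := by
    rw [Ideal.mem_map_C_iff]
    intro m
    have h1 : (a 0).map (Ideal.Quotient.mk J) * q.map (Ideal.Quotient.mk J) = 0 := by
      have h := congrArg (Polynomial.map (Ideal.Quotient.mk J)) ha
      rw [Polynomial.map_add, Polynomial.map_mul, Polynomial.map_sum, Polynomial.map_zero] at h
      rw [Finset.sum_eq_zero (fun i _ => by
        rw [Polynomial.map_mul, Polynomial.map_C,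
          Ideal.Quotient.eq_zero_iff_mem.2 (Ideal.subset_span ⟨i, rfl⟩ : f i ∈ J), map_zero, mul_zero]),
        add_zero] at h
      exact h
    have h2 := (Polynomial.Monic.mul_left_eq_zero_iff (hq.map (Ideal.Quotient.mk J))).1 h1
    have h3 := congrArg (fun r => Polynomial.coeff r m) h2
    simpa [Polynomial.coeff_map, Ideal.Quotient.eq_zero_iff_mem] using h3
  obtain ⟨b, hb⟩ : ∃ b : Fin n → Polynomial R, ∑ i, b i * Polynomial.C (f i) = a 0 := by
    rw [hJ, Ideal.map_span, ← Set.range_comp] at h0
    exact Ideal.mem_span_range_iff_exists_fun.1 h0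
  have hrest : ∀ i, a i.succ + b i * q ∈ J.map (Polynomial.C : R →+* Polynomial R) := by
    intro i
    rw [Ideal.mem_map_C_iff]
    intro m
    refine hf (fun j => (a j.succ + b j * q).coeff m) ?_ i
    have h : ∑ j, (a j.succ + b j * q) * Polynomial.C (f j) = 0 := by
      rw [← ha, ← hb, Finset.sum_mul, ← Finset.sum_add_distrib]
      exact Finset.sum_congr rfl fun j _ => by ring
    have h4 := congrArg (fun r => Polynomial.coeff r m) h
    simpa [Polynomial.finset_sum_coeff, Polynomial.coeff_mul_C] using h4
  intro i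
  cases i using Fin.cases with
  | zero => exact hJI h0
  | succ i =>
    have h5 : b i * q ∈ I := Ideal.mul_mem_left _ _ (Ideal.subset_span ⟨0, by simp⟩)
    have := sub_mem (hJI (hrest i)) h5
    rwa [add_sub_cancel_right] at this

theorem relProp_map {R S : Type u} [CommRing R] [CommRing S] (e : R ≃+* S) {n : ℕ} {f : Fin n → R}
    {g : Fin n → S} (hg : ∀ i, e (f i) = g i) (hr : RelProp g) : RelProp f := by
  intro a ha i
  have h := hr (fun j => e (a j)) (by simpa [hg] using congrArg e ha) i
  have h2 : (Ideal.span (Set.range f)).map e.toRingHom = Ideal.span (Set.range g) := by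
    rw [Ideal.map_span, ← Set.range_comp]
    exact congrArg _ (congrArg Set.range (funext hg))
  rw [← h2] at h
  obtain ⟨y, hy, hye⟩ := (Ideal.mem_map_iff_of_surjective e.toRingHom e.surjective).1 h
  rwa [show y = a i from e.injective hye] at hy

theorem relProp_roots {A : Type u} [CommRing A] {p : ℕ} (hp : p ≠ 0) :
    ∀ {n : ℕ} (c : Fin n → A), RelProp (fun i => (X i ^ p - C (c i) : MvPolynomial (Fin n) A)) := by
  intro n
  induction n with
  | zero => intro c a _ i; exact i.elim0
  | succ n ih =>
    intro c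
    refine relProp_map (finSuccEquiv A n).toRingEquiv
      (g := Fin.cons (Polynomial.X ^ p - Polynomial.C (C (c 0)))
        fun i => Polynomial.C (X i ^ p - C (c i.succ))) (fun i => ?_)
      (relProp_cons (ih fun i => c i.succ) (Polynomial.monic_X_pow_sub_C _ hp))
    have hC : ∀ a : A, finSuccEquiv A n (C a) = Polynomial.C (C a) := fun a => by
      simp [finSuccEquiv_apply]
    cases i using Fin.cases with
    | zero =>
      show finSuccEquiv A n (X 0 ^ p - C (c 0)) = _
      rw [map_sub, map_pow, finSuccEquiv_X_zero, hC, Fin.cons_zero]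
    | succ i =>
      show finSuccEquiv A n (X i.succ ^ p - C (c i.succ)) = _
      rw [map_sub, map_pow, finSuccEquiv_X_succ, hC, Fin.cons_succ, map_sub, map_pow]

variable {k A : Type u} [Field k] (p : ℕ) [Fact p.Prime] [CommRing A] [IsLocalRing A]

/-- If the root extension of a regular ring is regular, the differentials of the radicands are
independent at the closed point. -/
theorem mem_maximalIdeal_of_regular_roots [CharP A p] (Λ : Type u) [Field Λ] [PerfectField Λ] [Algebra Λ A]
    [IsRegularRing A] {n : ℕ} (c : Fin n → A)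
    (hreg : IsRegularRing (MvPolynomial (Fin n) A ⧸ Ideal.span (Set.range fun i => X i ^ p - C (c i))))
    (a : Fin n → A)
    (ha : ∑ i, a i • KaehlerDifferential.D Λ A (c i) ∈ (maximalIdeal A • ⊤ : Submodule A (Ω[A⁄Λ]))) :
    ∀ i, a i ∈ maximalIdeal A := by
  classical
  have hp0 : p ≠ 0 := (Fact.out : p.Prime).ne_zero
  let g : Fin n → MvPolynomial (Fin n) A := fun i => X i ^ p - C (c i)
  let I := Ideal.span (Set.range g)
  -- a prime over the maximal ideal containing the `g i`
  let res : MvPolynomial (Fin n) A →+* AlgebraicClosure (ResidueField A) :=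
    eval₂Hom ((algebraMap (ResidueField A) _).comp (residue A)) fun i =>
      (IsAlgClosed.exists_pow_nat_eq (algebraMap (ResidueField A) (AlgebraicClosure (ResidueField A))
        (residue A (c i))) hp0.bot_lt).choose
  let Q := RingHom.ker res
  haveI : Q.IsPrime := RingHom.ker_isPrime res
  have hgQ : ∀ i, g i ∈ Q := fun i => by
    rw [RingHom.mem_ker]
    simp only [g, res, map_sub, map_pow, eval₂Hom_X', eval₂Hom_C, RingHom.comp_apply]
    rw [(IsAlgClosed.exists_pow_nat_eq (algebraMap (ResidueField A) (AlgebraicClosure (ResidueField A))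
      (residue A (c i))) hp0.bot_lt).choose_spec, sub_self]
  have hmQ : ∀ x, C x ∈ Q ↔ x ∈ maximalIdeal A := fun x => by
    simp [Q, res, residue_eq_zero_iff]
  let B := Localization.AtPrime Q
  haveI : IsRegularRing (MvPolynomial (Fin n) A) := inferInstance
  haveI : IsRegularLocalRing B := IsRegularRing.isRegularLocalRing_localization Q
  -- relations
  have hrel : ∀ b : Fin n → B, ∑ i, b i * algebraMap _ B (g i) = 0 → ∀ i, b i ∈ maximalIdeal B := by
    intro b hb i
    obtain ⟨s, hs⟩ := IsLocalization.exist_integer_multiples Q.primeCompl Finset.univ b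
    choose b' hb' using fun j => hs j (Finset.mem_univ j)
    have h1 : algebraMap _ B (∑ j, b' j * g j) = 0 := by
      rw [map_sum]
      have : ∀ j, algebraMap _ B (b' j * g j) = (s : MvPolynomial (Fin n) A) • (b j * algebraMap _ B (g j)) := fun j => by
        rw [map_mul, hb', smul_mul_assoc]
      simp only [this, ← Finset.smul_sum, hb, smul_zero]
    obtain ⟨t, ht⟩ := (IsLocalization.map_eq_zero_iff Q.primeCompl B _).1 h1
    have h2 := relProp_roots hp0 c (fun j => (t : MvPolynomial (Fin n) A) * b' j) (by
      rw [← ht, Finset.mul_sum]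
      exact Finset.sum_congr rfl fun j _ => by ring) i
    have h3 : (t : MvPolynomial (Fin n) A) * b' i ∈ Q := Ideal.span_le.2 (Set.range_subset_iff.2 hgQ) h2
    have h4 : b' i ∈ Q := (Ideal.IsPrime.mem_or_mem ‹Q.IsPrime› h3).resolve_left t.2
    have h5 : algebraMap _ B (b' i) ∈ maximalIdeal B := by
      rw [← Localization.AtPrime.map_eq_maximalIdeal]; exact Ideal.mem_map_of_mem _ h4
    rw [hb', Algebra.smul_def] at h5
    exact (Ideal.IsPrime.mem_or_mem inferInstance h5).resolve_left fun hh => by
      rw [← Localization.AtPrime.map_eq_maximalIdeal] at hh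
      exact s.2 ((IsLocalization.AtPrime.to_map_mem_maximal_iff B Q _).1
        (by rwa [← Localization.AtPrime.map_eq_maximalIdeal]))
  -- the quotient is regular
  let IB : Ideal B := I.map (algebraMap _ B)
  have hIB : IB ≤ maximalIdeal B := by
    rw [← Localization.AtPrime.map_eq_maximalIdeal]
    exact Ideal.map_mono (Ideal.span_le.2 (Set.range_subset_iff.2 hgQ))
  have hIQ : I ≤ Q := Ideal.span_le.2 (Set.range_subset_iff.2 hgQ)
  haveI hQ' : (Q.map (Ideal.Quotient.mk I)).IsPrime :=
    Ideal.map_isPrime_of_surjective Ideal.Quotient.mk_surjective (by rwa [Ideal.mk_ker])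
  haveI : IsRegularLocalRing (B ⧸ IB) := by
    haveI := hreg
    haveI hr : IsRegularLocalRing (Localization.AtPrime (Q.map (Ideal.Quotient.mk I))) :=
      IsRegularRing.isRegularLocalRing_localization _
    haveI : IsLocalization.AtPrime (B ⧸ IB) (Q.map (Ideal.Quotient.mk I)) := by
      have h : Algebra.algebraMapSubmonoid (MvPolynomial (Fin n) A ⧸ I) Q.primeCompl =
          (Q.map (Ideal.Quotient.mk I)).primeCompl := by
        ext z
        constructor
        · rintro ⟨y, hy, rfl⟩ hz
          exact hy ((Ideal.mem_quotient_iff_mem hIQ).1 hz)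
        · intro hz
          obtain ⟨y, rfl⟩ := Ideal.Quotient.mk_surjective z
          exact ⟨y, fun hy => hz ((Ideal.mem_quotient_iff_mem hIQ).2 hy), rfl⟩
      have h' : IsLocalization (Algebra.algebraMapSubmonoid (MvPolynomial (Fin n) A ⧸ I) Q.primeCompl) (B ⧸ IB) :=
        inferInstance
      rwa [h] at h'
    exact IsRegularLocalRing.of_ringEquiv (R := Localization.AtPrime (Q.map (Ideal.Quotient.mk I)))
      (IsLocalization.algEquiv (Q.map (Ideal.Quotient.mk I)).primeCompl _ (B ⧸ IB)).toRingEquiv
  -- the element of the square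
  haveI : IsScalarTower Λ A B := inferInstance
  have hAB : ∀ r : A, algebraMap A B r = algebraMap (MvPolynomial (Fin n) A) B (C r) := fun r =>
    IsScalarTower.algebraMap_apply A (MvPolynomial (Fin n) A) B r
  haveI : Algebra.FormallySmooth Λ (ResidueField B) := formallySmooth_of_perfect
  have hpB : (p : B) = 0 := by rw [← map_natCast (algebraMap A B), CharP.cast_eq_zero, map_zero]
  let y : B := ∑ i, algebraMap A B (a i) * algebraMap _ B (g i)
  have hyI : y ∈ IB := Ideal.sum_mem _ fun i _ =>
    Ideal.mul_mem_left _ _ (Ideal.mem_map_of_mem _ (Ideal.subset_span ⟨i, rfl⟩))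
  have hy0 : (1 : ResidueField B) ⊗ₜ[B] KaehlerDifferential.D Λ B y = 0 := by
    have hg0 : ∀ i, (1 : ResidueField B) ⊗ₜ[B] KaehlerDifferential.D Λ B (algebraMap _ B (g i)) =
        -((1 : ResidueField B) ⊗ₜ[B] KaehlerDifferential.D Λ B (algebraMap A B (c i))) := fun i => by
      have : algebraMap _ B (g i) = algebraMap (MvPolynomial (Fin n) A) B (X i) ^ p - algebraMap A B (c i) := by
        simp only [g, map_sub, map_pow, hAB]
      rw [this, map_sub, Derivation.leibniz_pow, ← Nat.cast_smul_eq_nsmul B, hpB]
      have e0 : ∀ v : Ω[B⁄Λ], (0 : B) • v = 0 := fun v => zero_smul B v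
      erw [e0]
      rw [zero_sub, TensorProduct.tmul_neg]
    have hmg : ∀ i, residue B (algebraMap _ B (g i)) = 0 := fun i =>
      (residue_eq_zero_iff _).2 (hIB (Ideal.mem_map_of_mem _ (Ideal.subset_span ⟨i, rfl⟩)))
    have hsum : (1 : ResidueField B) ⊗ₜ[B] KaehlerDifferential.D Λ B y =
        -((1 : ResidueField B) ⊗ₜ[B] KaehlerDifferential.map Λ Λ A B
          (∑ i, a i • KaehlerDifferential.D Λ A (c i))) := by
      have hmap : KaehlerDifferential.map Λ Λ A B (∑ i, a i • KaehlerDifferential.D Λ A (c i)) =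
          ∑ i, algebraMap A B (a i) • KaehlerDifferential.D Λ B (algebraMap A B (c i)) := by
        simp only [map_sum, map_smul, KaehlerDifferential.map_D]
        exact Finset.sum_congr rfl fun i _ => by exact (algebraMap_smul B (a i) _).symm.trans rfl
      rw [hmap]
      simp only [y, map_sum, Derivation.leibniz, TensorProduct.tmul_add, TensorProduct.tmul_sum,
        TensorProduct.tmul_smul, hg0, smul_neg, ← Finset.sum_neg_distrib]
      refine Finset.sum_congr rfl fun i _ => ?_
      rw [← algebraMap_smul (ResidueField B) (algebraMap _ B (g i)), show algebraMap B (ResidueField B) (algebraMap _ B (g i)) = 0 from hmg i,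
        zero_smul, add_zero, ← TensorProduct.tmul_smul]
    rw [hsum, neg_eq_zero]
    refine Submodule.smul_induction_on ha (fun r hr w _ => ?_) fun v w hv hw => by
      rw [map_add, TensorProduct.tmul_add, hv, hw, add_zero]
    rw [map_smul, ← algebraMap_smul B r, TensorProduct.tmul_smul,
      ← algebraMap_smul (ResidueField B) (algebraMap A B r)]
    have : residue B (algebraMap A B r) = 0 := (residue_eq_zero_iff _).2 (by
      rw [← Localization.AtPrime.map_eq_maximalIdeal, hAB]
      exact Ideal.mem_map_of_mem _ ((hmQ r).2 hr))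
    rw [show algebraMap B (ResidueField B) (algebraMap A B r) = 0 from this, zero_smul]
  have hym : y ∈ maximalIdeal B := hIB hyI
  have hker : RingHom.ker (algebraMap B (ResidueField B)) = maximalIdeal B := Ideal.mk_ker
  have hy2 : y ∈ maximalIdeal B ^ 2 := by
    have h := Groth.Agent.CAlgJac.kerCotangentToTensor_injective Λ B (ResidueField B) residue_surjective
      (a₁ := (RingHom.ker (algebraMap B (ResidueField B))).toCotangent ⟨y, hker ▸ hym⟩) (a₂ := 0)
      (by rw [map_zero, KaehlerDifferential.kerCotangentToTensor_toCotangent]; exact hy0)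
    rw [Ideal.toCotangent_eq_zero] at h
    rw [← hker]; exact h
  have h6 := (Groth.Agent.CAlgJac.isRegularLocalRing_quotient_iff IB hIB).1 inferInstance ⟨hyI, hy2⟩
  obtain ⟨b, hbm, hb⟩ : ∃ b : Fin n → B, (∀ i, b i ∈ maximalIdeal B) ∧
      ∑ i, b i * algebraMap _ B (g i) = y := by
    have hIBspan : IB = Ideal.span (Set.range fun i => algebraMap _ B (g i)) := by
      simp only [IB, I, Ideal.map_span, ← Set.range_comp]; rfl
    rw [hIBspan, ← smul_eq_mul, Ideal.span, Submodule.mem_ideal_smul_span_iff_exists_sum] at h6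
    obtain ⟨b, hb, hsum⟩ := h6
    exact ⟨fun i => b i, hb, by
      rw [← hsum, Finsupp.sum_fintype _ _ (fun i => by simp)]
      simp [smul_eq_mul]⟩
  intro i
  have h7 := hrel (fun j => algebraMap A B (a j) - b j)
    (by simp only [sub_mul, Finset.sum_sub_distrib, hb]; exact sub_self y) i
  have h8 := add_mem h7 (hbm i)
  rw [sub_add_cancel] at h8
  rw [hAB] at h8
  exact (hmQ _).1 ((IsLocalization.AtPrime.to_map_mem_maximal_iff B Q _).1 h8)

/-- The root extension field of a `p`-independent family. -/
theorem exists_root_field [CharP k p] (Λ : Type u) [Field Λ] [Algebra Λ k] [CharP Λ p] [PerfectRing Λ p] {σ : Type u} [Finite σ]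
    (x : σ → k) (hx : IsPIndependent p Λ x) :
    IsField (MvPolynomial σ k ⧸ Ideal.span (Set.range fun i => X i ^ p - C (x i))) ∧
      Module.Finite k (MvPolynomial σ k ⧸ Ideal.span (Set.range fun i => X i ^ p - C (x i))) ∧
      ∀ y : MvPolynomial σ k ⧸ Ideal.span (Set.range fun i => X i ^ p - C (x i)),
        y ^ p ∈ (algebraMap k _).range := by
  classical
  have hp0 : p ≠ 0 := (Fact.out : p.Prime).ne_zero
  let I := Ideal.span (Set.range fun i => (X i ^ p - C (x i) : MvPolynomial σ k))
  let φ : k →+* pPowerSubalgebra p Λ k :=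
    (frobenius k p).codRestrict (pPowerSubalgebra p Λ k).toSubring fun c => Algebra.subset_adjoin ⟨c, rfl⟩
  have hφ : Function.Bijective φ := ⟨RingHom.injective φ, fun c => by
    obtain ⟨b, hb⟩ := Groth.Agent.PBasis.exists_pow_eq' p (P := Λ) c.2
    exact ⟨b, Subtype.ext hb⟩⟩
  let e : k ≃+* pPowerSubalgebra p Λ k := RingEquiv.ofBijective φ hφ
  let m := mapEquiv σ e
  let ψ : MvPolynomial σ k →+* k :=
    (MvPolynomial.aeval x : MvPolynomial σ (pPowerSubalgebra p Λ k) →ₐ[pPowerSubalgebra p Λ k] k).toRingHom.comp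
      m.toRingHom
  have hgen : ∀ i, m (X i ^ p - C (x i)) =
      X i ^ p - C (⟨x i ^ p, Groth.Agent.PBasis.pow_mem' p Λ (x i)⟩ : pPowerSubalgebra p Λ k) := fun i => by
    simp [m, e]
    rfl
  have hker : RingHom.ker ψ = I := by
    refine le_antisymm (fun f hf => ?_) (Ideal.span_le.2 ?_)
    · have h1 : m f ∈ Groth.Agent.PBasis.relIdeal (A := Λ) p x :=
        Groth.Agent.PBasis.ker_aeval_le hp0 hx hf
      have h2 : I.map m.toRingHom = Groth.Agent.PBasis.relIdeal (A := Λ) p x := by
        rw [Ideal.map_span, ← Set.range_comp]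
        exact congrArg _ (congrArg Set.range (funext hgen))
      rw [← h2] at h1
      obtain ⟨f', hf', hff'⟩ := (Ideal.mem_map_iff_of_surjective m.toRingHom m.surjective).1 h1
      rwa [show f' = f from m.injective hff'] at hf'
    · rintro _ ⟨i, rfl⟩
      rw [SetLike.mem_coe, RingHom.mem_ker]
      show MvPolynomial.aeval x (m (X i ^ p - C (x i))) = 0
      rw [hgen]
      simp [Algebra.algebraMap_ofSubsemiring_apply]
  let ψb : MvPolynomial σ k ⧸ I →+* k := Ideal.Quotient.lift I ψ fun f hf => hker.ge hf
  have hψb : Function.Injective ψb := by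
    rw [injective_iff_map_eq_zero]
    intro z hz
    obtain ⟨z, rfl⟩ := Ideal.Quotient.mk_surjective z
    exact Ideal.Quotient.eq_zero_iff_mem.2 (hker.le hz)
  have hψC : ∀ c, ψb (algebraMap k _ c) = c ^ p := fun c => by
    show MvPolynomial.aeval x (m (C c)) = c ^ p
    simp [m, e]
    rfl
  have hpow : ∀ y : MvPolynomial σ k ⧸ I, y ^ p ∈ (algebraMap k (MvPolynomial σ k ⧸ I)).range :=
    fun y => ⟨ψb y, hψb (by rw [hψC, map_pow])⟩
  haveI : IsDomain (MvPolynomial σ k ⧸ I) := hψb.isDomain ψb
  haveI : Algebra.IsIntegral k (MvPolynomial σ k ⧸ I) := ⟨fun y => by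
    obtain ⟨c, hc⟩ := hpow y
    refine IsIntegral.of_pow (Nat.pos_of_ne_zero hp0) ?_
    rw [← hc]
    exact isIntegral_algebraMap⟩
  exact ⟨isField_of_isIntegral_of_isField' (Field.toIsField k),
    Algebra.IsIntegral.finite, hpow⟩

end Groth.Agent.SymGr
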