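import Groth.Agent.SymGr.GeomReg
import Groth.Agent.SymGr.RootExt
import Groth.Agent.PBasis.Derivations
import Mathlib

/-! The p-radical criterion for formal smoothness. -/

set_option autoImplicit false

namespace Groth.Agent.SymGr

universe u

open TensorProduct IsLocalRing EGA41 MvPolynomial

variable {k A : Type u} [Field k] [CommRing A] [IsLocalRing A] [Algebra k A]

theorem injective_of_charZero [CharZero k] :
    Function.Injective ((KaehlerDifferential.mapBaseChange ℤ k A).lTensor (A ⧸ maximalIdeal A)) := by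
  letI : Field (A ⧸ maximalIdeal A) := Ideal.Quotient.field _
  haveI : Algebra.IsGeometricallyReduced k (A ⧸ maximalIdeal A) :=
    Groth.Agent.PBasis.formallySmooth_iff_isGeometricallyReduced.1 formallySmooth_of_perfect
  have hinj := Groth.Agent.PBasis.injective_mapBaseChange_of_isGeometricallyReduced
    (k := k) (K := A ⧸ maximalIdeal A) (R := ℤ)
  let e := TensorProduct.AlgebraTensorModule.cancelBaseChange k A (A ⧸ maximalIdeal A)
    (A ⧸ maximalIdeal A) (Ω[k⁄ℤ])
  let ψ : (A ⧸ maximalIdeal A) ⊗[A] Ω[A⁄ℤ] →ₗ[A ⧸ maximalIdeal A] Ω[(A ⧸ maximalIdeal A)⁄ℤ] :=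
    LinearMap.liftBaseChange _ (KaehlerDifferential.map ℤ ℤ A (A ⧸ maximalIdeal A))
  have key : ∀ z, ψ ((KaehlerDifferential.mapBaseChange ℤ k A).lTensor (A ⧸ maximalIdeal A) z) =
      KaehlerDifferential.mapBaseChange ℤ k (A ⧸ maximalIdeal A) (e z) := by
    intro z
    induction z using TensorProduct.induction_on with
    | zero => simp
    | add x y hx hy => simp only [map_add, hx, hy]
    | tmul c w =>
      induction w using TensorProduct.induction_on with
      | zero => simp
      | add x y hx hy =>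
        rw [TensorProduct.tmul_add]
        simp only [map_add, hx, hy]
      | tmul a ω =>
        have h1 : ω ∈ Submodule.span k (Set.range (KaehlerDifferential.D ℤ k)) := by
          rw [KaehlerDifferential.span_range_derivation]; trivial
        induction h1 using Submodule.span_induction generalizing a with
        | mem x hx =>
          obtain ⟨b, rfl⟩ := hx
          simp only [LinearMap.lTensor_tmul, KaehlerDifferential.mapBaseChange_tmul, ψ,
            LinearMap.liftBaseChange_tmul, map_smul, KaehlerDifferential.map_D, e,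
            TensorProduct.AlgebraTensorModule.cancelBaseChange_tmul,
            ← IsScalarTower.algebraMap_apply k A (A ⧸ maximalIdeal A)]
          rw [smul_assoc, smul_comm]
        | zero => simp
        | add x y _ _ hx hy => simp only [TensorProduct.tmul_add, map_add, hx, hy]
        | smul r x _ hx => rw [← TensorProduct.smul_tmul]; exact hx (r • a)
  intro x y hxy
  refine e.injective (hinj ?_)
  rw [← key, ← key, hxy]

set_option synthInstance.maxHeartbeats 400000 in
set_option maxHeartbeats 1600000 in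
theorem injective_of_pRadical (p : ℕ) [Fact p.Prime] [CharP k p] [IsRegularRing A]
    (h : ∀ (k' : Type u) [Field k'] [Algebra k k'], Module.Finite k k' →
      (∀ x : k', x ^ p ∈ (algebraMap k k').range) → IsRegularRing (k' ⊗[k] A)) :
    Function.Injective ((KaehlerDifferential.mapBaseChange ℤ k A).lTensor (A ⧸ maximalIdeal A)) := by
  classical
  obtain ⟨Λ, _, _, _, hu⟩ := exists_prime_field k
  haveI := hu
  letI : Algebra Λ A := ((algebraMap k A).comp (algebraMap Λ k)).toAlgebra
  haveI : IsScalarTower Λ k A := IsScalarTower.of_algebraMap_eq' rfl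
  haveI : CharP A p := charP_of_injective_algebraMap (algebraMap k A).injective p
  haveI : CharP Λ p := (algebraMap Λ k).charP (algebraMap Λ k).injective p
  haveI : ExpChar Λ p := ExpChar.prime (Fact.out : p.Prime)
  haveI : PerfectRing Λ p := PerfectField.toPerfectRing p
  letI : Field (A ⧸ maximalIdeal A) := Ideal.Quotient.field _
  refine (injective_iff_of_unramified Λ k A (maximalIdeal A)).2 ?_
  obtain ⟨S, hS⟩ := Groth.Agent.PBasis.exists_pBasis p Λ k
  let b : Module.Basis S k (Ω[k⁄Λ]) :=
    Module.Basis.mk ((Groth.Agent.PBasis.isPIndependent_iff_linearIndependent _).1 hS.1)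
      ((Groth.Agent.PBasis.isPGenerating_iff_span _).1 hS.2).ge
  have hb : ∀ s, b s = KaehlerDifferential.D Λ k (s : k) := fun s => Module.Basis.mk_apply _ _ s
  let B : Module.Basis S (A ⧸ maximalIdeal A) ((A ⧸ maximalIdeal A) ⊗[A] (A ⊗[k] Ω[k⁄Λ])) :=
    Algebra.TensorProduct.basis (A ⧸ maximalIdeal A) (Algebra.TensorProduct.basis A b)
  rw [injective_iff_map_eq_zero]
  intro z hz
  by_contra hz0
  let T := (B.repr z).support
  let x : ↥T → k := fun i => ((i : S) : k)
  have hx : IsPIndependent p Λ x := by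
    rw [Groth.Agent.PBasis.isPIndependent_iff_linearIndependent]
    exact ((Groth.Agent.PBasis.isPIndependent_iff_linearIndependent _).1 hS.1).comp _ Subtype.val_injective
  obtain ⟨hfield, hfin, hpow⟩ := exists_root_field p Λ x hx
  let I := Ideal.span (Set.range fun i => (X i ^ p - C (x i) : MvPolynomial ↥T k))
  let R := MvPolynomial ↥T k ⧸ I
  letI : CommRing R := inferInstanceAs (CommRing (MvPolynomial ↥T k ⧸ I))
  letI : Algebra k R := inferInstanceAs (Algebra k (MvPolynomial ↥T k ⧸ I))
  have hregR : IsRegularRing (R ⊗[k] A) := @h R hfield.toField (inferInstanceAs (Algebra k R)) hfin hpow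
  let e : Fin (Fintype.card ↥T) ≃ ↥T := (Fintype.equivFin ↥T).symm
  let c : Fin (Fintype.card ↥T) → A := fun i => algebraMap k A (x (e i))
  let IA := Ideal.span (Set.range fun i => (X i ^ p - C (c i) : MvPolynomial (Fin (Fintype.card ↥T)) A))
  let Q := MvPolynomial (Fin (Fintype.card ↥T)) A ⧸ IA
  have hgen : ∀ t : ↥T, (Ideal.Quotient.mk IA (X (e.symm t))) ^ p = algebraMap k Q (x t) := fun t => by
    have h1 : Ideal.Quotient.mk IA (X (e.symm t) ^ p - C (c (e.symm t))) = 0 :=
      Ideal.Quotient.eq_zero_iff_mem.2 (Ideal.subset_span ⟨e.symm t, rfl⟩)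
    rw [map_sub, map_pow, sub_eq_zero] at h1
    rw [h1]
    simp only [c, Equiv.apply_symm_apply]
    rfl
  let f₁ : R →ₐ[k] Q := Ideal.Quotient.liftₐ I
    (aeval fun t => Ideal.Quotient.mk IA (X (e.symm t))) (show I ≤ RingHom.ker (aeval fun t => Ideal.Quotient.mk IA (X (e.symm t))) by
      rw [Ideal.span_le]
      rintro _ ⟨t, rfl⟩
      rw [SetLike.mem_coe, RingHom.mem_ker, map_sub, map_pow, aeval_X, aeval_C, hgen, sub_self])
  let F : R ⊗[k] A →ₐ[k] Q :=
    Algebra.TensorProduct.lift f₁ (IsScalarTower.toAlgHom k A Q) fun _ _ => Commute.all _ _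
  let G₀ : MvPolynomial (Fin (Fintype.card ↥T)) A →+* R ⊗[k] A :=
    eval₂Hom (Algebra.TensorProduct.includeRight : A →ₐ[k] R ⊗[k] A).toRingHom
      fun i => Ideal.Quotient.mk I (X (e i)) ⊗ₜ[k] (1 : A)
  let G₁ : Q →+* R ⊗[k] A := Ideal.Quotient.lift IA G₀ (show IA ≤ RingHom.ker G₀ by
    rw [Ideal.span_le]
    rintro _ ⟨i, rfl⟩
    have h1 : Ideal.Quotient.mk I (X (e i)) ^ p = algebraMap k R (x (e i)) := by
      have : Ideal.Quotient.mk I (X (e i) ^ p - C (x (e i))) = 0 :=
        Ideal.Quotient.eq_zero_iff_mem.2 (Ideal.subset_span ⟨e i, rfl⟩)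
      rw [map_sub, map_pow, sub_eq_zero] at this
      rw [this]; rfl
    rw [SetLike.mem_coe, RingHom.mem_ker, map_sub, map_pow]
    simp only [G₀, eval₂Hom_X', eval₂Hom_C, Algebra.TensorProduct.tmul_pow, one_pow, h1, c]
    rw [AlgHom.toRingHom_eq_coe, AlgHom.coe_toRingHom, AlgHom.commutes, Algebra.TensorProduct.algebraMap_apply, sub_self])
  have hGF : ∀ y, G₁ (F y) = y := fun y => by
    induction y using TensorProduct.induction_on with
    | zero => simp
    | add u v hu hv => rw [map_add, map_add, hu, hv]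
    | tmul r a =>
      have h1 : ∀ r : R, G₁ (f₁ r) = r ⊗ₜ[k] (1 : A) := fun r => by
        obtain ⟨r, rfl⟩ := Ideal.Quotient.mk_surjective r
        induction r using MvPolynomial.induction_on with
        | C a =>
          show G₁ (f₁ (algebraMap k R a)) = algebraMap k R a ⊗ₜ[k] (1 : A)
          rw [AlgHom.commutes]
          show G₀ (C (algebraMap k A a)) = _
          simp only [G₀, eval₂Hom_C, AlgHom.toRingHom_eq_coe, AlgHom.coe_toRingHom, AlgHom.commutes,
            Algebra.TensorProduct.algebraMap_apply]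
        | add u v hu hv => rw [map_add, map_add, map_add, hu, hv, TensorProduct.add_tmul]
        | mul_X u t hu =>
          rw [map_mul, map_mul, map_mul, hu]
          have : G₁ (f₁ (Ideal.Quotient.mk I (X t))) = Ideal.Quotient.mk I (X t) ⊗ₜ[k] (1 : A) := by
            show G₁ (aeval (fun t => Ideal.Quotient.mk IA (X (e.symm t))) (X t)) = _
            rw [aeval_X]
            show G₀ (X (e.symm t)) = _
            simp [G₀]
          rw [this, Algebra.TensorProduct.tmul_mul_tmul, one_mul]
      rw [Algebra.TensorProduct.lift_tmul, map_mul, h1]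
      have h2 : G₁ (IsScalarTower.toAlgHom k A Q a) = (1 : R) ⊗ₜ[k] a := by
        show G₀ (C a) = _
        simp [G₀]
      rw [h2, Algebra.TensorProduct.tmul_mul_tmul, mul_one, one_mul]
  have hsurj : Function.Surjective F := fun q => by
    obtain ⟨q, rfl⟩ := Ideal.Quotient.mk_surjective q
    induction q using MvPolynomial.induction_on with
    | C a => exact ⟨(1 : R) ⊗ₜ[k] a, by rw [Algebra.TensorProduct.lift_tmul, map_one, one_mul]; rfl⟩
    | add u v hu hv =>
      obtain ⟨u', hu'⟩ := hu
      obtain ⟨v', hv'⟩ := hv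
      exact ⟨u' + v', by rw [map_add, hu', hv', map_add]⟩
    | mul_X u i hu =>
      obtain ⟨u', hu'⟩ := hu
      refine ⟨u' * (Ideal.Quotient.mk I (X (e i)) ⊗ₜ[k] (1 : A)), ?_⟩
      rw [map_mul, hu', map_mul, Algebra.TensorProduct.lift_tmul, map_one, mul_one]
      show _ * aeval (fun t => Ideal.Quotient.mk IA (X (e.symm t))) (X (e i)) = _
      rw [aeval_X, Equiv.symm_apply_apply]
  let eQ : R ⊗[k] A ≃+* Q := RingEquiv.ofBijective F
    ⟨Function.LeftInverse.injective (g := G₁) hGF, hsurj⟩
  haveI hregQ : IsRegularRing Q := by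
    haveI := hregR
    exact IsRegularRing.of_ringEquiv eQ
  -- the relation
  choose a ha using fun i => Ideal.Quotient.mk_surjective (B.repr z ((e i : ↥T) : S))
  have hrel : ∑ i, a i • KaehlerDifferential.D Λ A (c i) ∈
      (maximalIdeal A • ⊤ : Submodule A (Ω[A⁄Λ])) := by
    have hB : ∀ s : S, iota Λ k (maximalIdeal A) (B s) =
        (1 : A ⧸ maximalIdeal A) ⊗ₜ[A] KaehlerDifferential.D Λ A (algebraMap k A (s : k)) := fun s => by
      rw [show B s = (1 : A ⧸ maximalIdeal A) ⊗ₜ[A] ((1 : A) ⊗ₜ[k] b s) by simp [B], hb, iota_D]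
    rw [← B.linearCombination_repr z, Finsupp.linearCombination_apply, Finsupp.sum, map_sum,
      ← Finset.sum_coe_sort] at hz
    have hsum : (1 : A ⧸ maximalIdeal A) ⊗ₜ[A] (∑ i, a i • KaehlerDifferential.D Λ A (c i)) = 0 := by
      rw [TensorProduct.tmul_sum]
      refine Eq.trans ?_ hz
      refine Fintype.sum_equiv e _ _ fun i => ?_
      rw [map_smul, hB, TensorProduct.tmul_smul, ← ha i]
      exact (algebraMap_smul (A ⧸ maximalIdeal A) (a i) _).symm
    have := congrArg (TensorProduct.quotTensorEquivQuotSMul (Ω[A⁄Λ]) (maximalIdeal A)) hsum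
    rw [map_zero, TensorProduct.quotTensorEquivQuotSMul_mk_one_tmul, Submodule.Quotient.mk_eq_zero] at this
    exact this
  have hzero := mem_maximalIdeal_of_regular_roots p Λ c hregQ a hrel
  obtain ⟨t, ht⟩ : T.Nonempty := Finsupp.support_nonempty_iff.2 fun h0 => hz0 (B.repr.map_eq_zero_iff.1 h0)
  refine (Finsupp.mem_support_iff.1 ht) ?_
  have h1 := ha (e.symm ⟨t, ht⟩)
  rw [Equiv.apply_symm_apply] at h1
  rw [← h1]
  exact Ideal.Quotient.eq_zero_iff_mem.2 (hzero _)

/-- The p-radical criterion. -/
theorem isAdicFormallySmooth_iff_pRadical [IsNoetherianRing A] (p : ℕ) [ExpChar k p] :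
    CAlgX.IsAdicFormallySmooth k A (maximalIdeal A) ↔
      ∀ (k' : Type u) [Field k'] [Algebra k k'], Module.Finite k k' →
        (∀ x : k', x ^ p ∈ (algebraMap k k').range) → IsRegularRing (k' ⊗[k] A) := by
  refine ⟨fun h k' _ _ hf _ => haveI := hf; isRegularRing_baseChange h, fun h => ?_⟩
  have hreg : IsRegularRing (k ⊗[k] A) := h k inferInstance fun x => ⟨x ^ p, rfl⟩
  haveI := hreg
  haveI : IsRegularRing A := IsRegularRing.of_ringEquiv (Algebra.TensorProduct.lid k A).toRingEquiv
  haveI : IsRegularLocalRing A := IsRegularLocalRing.of_isRegularRing_of_isLocalRing A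
  refine isAdicFormallySmooth_field_iff_regular.2 ⟨inferInstance, ?_⟩
  rcases ‹ExpChar k p› with _ | ⟨hp⟩
  · exact injective_of_charZero
  · haveI := Fact.mk hp
    exact injective_of_pRadical p h

end Groth.Agent.SymGr
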