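import Groth.Agent.FSAdic.Discrete
import Mathlib

/-! Formal smoothness criteria for quotients of formally smooth algebras whose differentials are
projective but not finitely generated: local Jacobian criterion, localisation, openness. -/

set_option autoImplicit false

universe u v

namespace Groth.Agent.SymGr

open TensorProduct IsLocalRing KaehlerDifferential

section Modules

variable {R M N Q : Type*} [CommRing R] [AddCommGroup M] [Module R M] [AddCommGroup N] [Module R N]
  [AddCommGroup Q] [Module R Q]

/-- A map from a finite module to a projective module factors through a finite free module, followed by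
a map back. -/
theorem exists_finite_factor [Module.Finite R M] [Module.Projective R N] (l : M →ₗ[R] N) :
    ∃ (T : Finset N) (a : N →ₗ[R] (↥T →₀ R)) (b : (↥T →₀ R) →ₗ[R] N), (b ∘ₗ a) ∘ₗ l = l := by
  classical
  obtain ⟨s, hs⟩ := Module.projective_def'.1 ‹Module.Projective R N›
  obtain ⟨G, hG⟩ := Module.Finite.fg_top (R := R) (M := M)
  let T : Finset N := G.biUnion fun x => (s (l x)).support
  let a : N →ₗ[R] (↥T →₀ R) := (Finsupp.lcomapDomain _ Subtype.val_injective) ∘ₗ s
  let b : (↥T →₀ R) →ₗ[R] N := Finsupp.linearCombination R (Subtype.val : ↥T → N)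
  refine ⟨T, a, b, LinearMap.ext_on hG fun x hx => ?_⟩
  have hsupp : ↑(s (l x)).support ⊆ Set.range (Subtype.val : ↥T → N) := by
    rw [Subtype.range_coe_subtype]
    exact fun y hy => Finset.mem_biUnion.2 ⟨x, hx, hy⟩
  show Finsupp.linearCombination R (Subtype.val : ↥T → N)
    (Finsupp.comapDomain Subtype.val (s (l x)) Subtype.val_injective.injOn) = l x
  conv_rhs => rw [← LinearMap.id_apply (R := R) (l x), ← hs, LinearMap.comp_apply,
    ← Finsupp.mapDomain_comapDomain Subtype.val Subtype.val_injective (s (l x)) hsupp,
    Finsupp.linearCombination_mapDomain, Function.id_comp]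

/-- The Jacobian criterion of split injectivity, with a projective target. -/
theorem split_injective_of_lTensor_residueField [IsLocalRing R] [Module.Finite R M]
    [Module.Projective R N] (l : M →ₗ[R] N) (h : Function.Injective (l.lTensor (ResidueField R))) :
    ∃ l', l' ∘ₗ l = LinearMap.id := by
  obtain ⟨T, a, b, hab⟩ := exists_finite_factor l
  have h' : Function.Injective ((a ∘ₗ l).lTensor (ResidueField R)) := by
    rw [← hab, LinearMap.comp_assoc, LinearMap.lTensor_comp, LinearMap.coe_comp] at h
    exact h.of_comp
  obtain ⟨l', hl'⟩ := (IsLocalRing.split_injective_iff_lTensor_residueField_injective (a ∘ₗ l)).2 h'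
  exact ⟨l' ∘ₗ a, by rw [LinearMap.comp_assoc]; exact hl'⟩

/-- A retraction of a localized map descends up to a denominator. -/
theorem exists_smul_retraction (S : Submonoid R) [Module.Finite R M] [Module.Projective R N]
    (l : M →ₗ[R] N) (π : N →ₗ[R] Q) (hex : Function.Exact l π) (hsurj : Function.Surjective π)
    (hker : ∀ x, l x = 0 → ∃ s ∈ S, s • x = 0)
    [Module.Projective (Localization S) (LocalizedModule S Q)] :
    ∃ s ∈ S, ∃ r : N →ₗ[R] M, r ∘ₗ l = s • LinearMap.id := by
  classical
  let lS : LocalizedModule S M →ₗ[Localization S] LocalizedModule S N := LocalizedModule.map S l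
  let πS : LocalizedModule S N →ₗ[Localization S] LocalizedModule S Q := LocalizedModule.map S π
  have hinj : Function.Injective lS := by
    rw [injective_iff_map_eq_zero]
    intro z hz
    induction z using LocalizedModule.induction_on with
    | h m t =>
      simp only [lS, LocalizedModule.map_mk] at hz
      rw [← LocalizedModule.zero_mk t, LocalizedModule.mk_eq] at hz
      obtain ⟨w, hw⟩ := hz
      simp only [smul_zero] at hw
      obtain ⟨s, hs, hs0⟩ := hker ((w : R) • (t : R) • m) (by rw [map_smul, map_smul]; exact hw)
      rw [← LocalizedModule.zero_mk t, LocalizedModule.mk_eq]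
      refine ⟨⟨s, hs⟩ * w, ?_⟩
      simp only [smul_zero, mul_smul, Submonoid.smul_def]
      exact hs0
  have hexS : Function.Exact lS πS := LocalizedModule.map_exact S l π hex
  have hsurjS : Function.Surjective πS := LocalizedModule.map_surjective S π hsurj
  obtain ⟨r, hr⟩ := (((Function.Exact.split_tfae hexS hinj hsurjS).out 0 1).mp
    (Module.projective_lifting_property πS LinearMap.id hsurjS))
  obtain ⟨T, a, b, hab⟩ := exists_finite_factor l
  let g : (↥T →₀ R) →ₗ[R] LocalizedModule S M :=
    (r.restrictScalars R ∘ₗ LocalizedModule.mkLinearMap S N) ∘ₗ b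
  obtain ⟨h, s, hs⟩ := Module.FinitePresentation.exists_lift_of_isLocalizedModule S
    (LocalizedModule.mkLinearMap S M) g
  obtain ⟨G, hG⟩ := Module.Finite.fg_top (R := R) (M := M)
  have hx : ∀ x : M, ∃ t : S, (t : R) • (h (a (l x))) = (t : R) • ((s : R) • x) := by
    intro x
    have h1 : LocalizedModule.mkLinearMap S M (h (a (l x))) =
        LocalizedModule.mkLinearMap S M ((s : R) • x) := by
      have := LinearMap.congr_fun hs (a (l x))
      rw [LinearMap.comp_apply] at this
      rw [this, map_smul]
      show (s : R) • r (LocalizedModule.mkLinearMap S N (b (a (l x)))) = _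
      rw [show b (a (l x)) = l x from LinearMap.congr_fun hab x]
      congr 1
      exact LinearMap.congr_fun hr (LocalizedModule.mkLinearMap S M x) ▸
        congrArg r (LocalizedModule.map_mk S l x 1).symm
    obtain ⟨t, ht⟩ := (IsLocalizedModule.eq_iff_exists S (LocalizedModule.mkLinearMap S M)).1 h1
    exact ⟨t, ht⟩
  choose t ht using hx
  refine ⟨(∏ x ∈ G, (t x : R)) * (s : R), S.mul_mem (S.prod_mem fun x _ => (t x).2) s.2,
    (∏ x ∈ G, (t x : R)) • (h ∘ₗ a), LinearMap.ext_on hG fun x hx => ?_⟩
  simp only [LinearMap.comp_apply, LinearMap.smul_apply, LinearMap.id_apply, mul_smul]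
  obtain ⟨c, hc⟩ := Finset.dvd_prod_of_mem (fun x => (t x : R)) hx
  rw [hc, mul_comm, mul_smul, ht x, mul_smul]

/-- Given a retraction up to the unit `f`, the base change of the cokernel is projective. -/
theorem projective_baseChange_of_smul_retraction {A : Type*} [CommRing A] [Algebra R A]
    [Module.Projective R N] (l : M →ₗ[R] N) (π : N →ₗ[R] Q) (hex : Function.Exact l π)
    (hsurj : Function.Surjective π) (f : R) (hf : IsUnit (algebraMap R A f))
    (r : N →ₗ[R] M) (hr : r ∘ₗ l = f • LinearMap.id) :
    Module.Projective A (A ⊗[R] Q) := by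
  let φ : N →ₗ[R] N := f • LinearMap.id - l ∘ₗ r
  have hφ : LinearMap.ker π ≤ LinearMap.ker φ := fun y hy => by
    obtain ⟨x, rfl⟩ := (hex y).1 (LinearMap.mem_ker.1 hy)
    have := LinearMap.congr_fun hr x
    simp only [LinearMap.comp_apply, LinearMap.smul_apply, LinearMap.id_apply] at this
    simp [φ, this]
  let ψ : Q →ₗ[R] N := (LinearMap.ker π).liftQ φ hφ ∘ₗ
    (LinearMap.quotKerEquivOfSurjective π hsurj).symm.toLinearMap
  have hψ : π ∘ₗ ψ = f • LinearMap.id := by
    refine LinearMap.ext fun z => ?_
    obtain ⟨y, rfl⟩ := hsurj z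
    have h1 : (LinearMap.quotKerEquivOfSurjective π hsurj).symm (π y) = Submodule.Quotient.mk y := by
      rw [LinearEquiv.symm_apply_eq]; rfl
    show π ((LinearMap.ker π).liftQ φ hφ ((LinearMap.quotKerEquivOfSurjective π hsurj).symm (π y))) = _
    rw [h1, Submodule.liftQ_apply]
    simp [φ, hex.apply_apply_eq_zero]
  obtain ⟨u, hu⟩ := hf
  let i : A ⊗[R] Q →ₗ[A] A ⊗[R] N := (↑u⁻¹ : A) • ψ.baseChange A
  refine Module.Projective.of_split (M := A ⊗[R] N) i (π.baseChange A) ?_
  rw [LinearMap.comp_smul, ← LinearMap.baseChange_comp, hψ]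
  refine LinearMap.ext fun z => ?_
  induction z using TensorProduct.induction_on with
  | zero => simp
  | add x y hx hy => simp only [map_add, hx, hy]
  | tmul c q =>
    simp only [LinearMap.smul_apply, LinearMap.baseChange_tmul, LinearMap.id_apply,
      TensorProduct.tmul_smul, TensorProduct.smul_tmul']
    congr 1
    rw [Algebra.smul_def f _, ← hu, smul_eq_mul]
    simp

end Modules

section Algebras

variable {R : Type u} {C : Type u} [CommRing R] [CommRing C] [Algebra R C]

theorem injective_cotangentComplexBaseChange {A B P : Type u} [CommRing A] [CommRing B] [CommRing P]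
    [Algebra A B] [Algebra A P] [Algebra P B] [IsScalarTower A P B]
    [IsLocalRing A] [IsLocalRing B] [IsLocalRing P] [IsNoetherianRing P]
    [IsLocalHom (algebraMap A P)]
    (hsurj : Function.Surjective (algebraMap P B))
    (h : EGA41.IsFormallySmoothAdic A (maximalIdeal A) B (maximalIdeal B)) :
    Function.Injective (cotangentComplexBaseChange A B P (ResidueField B)) := by
  have : IsScalarTower P B (ResidueField B) := inferInstance
  have hsurjk : Function.Surjective (algebraMap P (ResidueField B)) := by
    rw [IsScalarTower.algebraMap_eq P B (ResidueField B)]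
    exact IsLocalRing.residue_surjective.comp hsurj
  have hker : ∀ r ∈ maximalIdeal P, algebraMap P (ResidueField B) r = 0 := by
    intro r hr
    rw [IsScalarTower.algebraMap_apply P B (ResidueField B), IsLocalRing.ResidueField.algebraMap_eq,
      IsLocalRing.residue_eq_zero_iff]
    intro hu
    obtain ⟨z, hz⟩ := hsurj (hu.unit⁻¹ : Bˣ)
    have h1 : algebraMap P B (r * z) = 1 := by rw [map_mul, hz, IsUnit.mul_val_inv]
    have h2 : r * z ∈ maximalIdeal P := Ideal.mul_mem_right _ _ hr
    have h3 : 1 - r * z ∈ RingHom.ker (algebraMap P B) := by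
      rw [RingHom.mem_ker, map_sub, map_one, h1, sub_self]
    have h4 := IsLocalRing.le_maximalIdeal (RingHom.ker_ne_top _) h3
    exact (IsLocalRing.maximalIdeal.isMaximal P).ne_top
      ((Ideal.eq_top_iff_one _).2 (by simpa using add_mem h4 h2))
  rw [injective_iff_map_eq_zero]
  intro ξ hξ
  have hone : ∃ i : RingHom.ker (algebraMap P B), ξ = 1 ⊗ₜ i := by
    clear hξ
    induction ξ using TensorProduct.induction_on with
    | zero => exact ⟨0, by simp⟩
    | tmul c i =>
      obtain ⟨r, rfl⟩ := hsurjk c
      refine ⟨r • i, ?_⟩
      rw [Algebra.algebraMap_eq_smul_one]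
      exact TensorProduct.smul_tmul r (1 : ResidueField B) i
    | add a b ha hb =>
      obtain ⟨i, rfl⟩ := ha; obtain ⟨j, rfl⟩ := hb
      exact ⟨i + j, by rw [TensorProduct.tmul_add]⟩
  obtain ⟨i, rfl⟩ := hone
  have hd : KaehlerDifferential.D A P (i : P) ∈
      maximalIdeal P • (⊤ : Submodule P (KaehlerDifferential A P)) := by
    have hk : Function.Injective
        (Ideal.Quotient.liftₐ (maximalIdeal P) (Algebra.ofId P (ResidueField B)) hker) := by
      let := Ideal.Quotient.field (maximalIdeal P)
      exact RingHom.injective _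
    let e := AlgEquiv.ofBijective (Ideal.Quotient.liftₐ (maximalIdeal P)
      (Algebra.ofId P (ResidueField B)) hker) ⟨hk, Ideal.Quotient.lift_surjective_of_surjective _ _ hsurjk⟩
    have h0 : (1 : ResidueField B) ⊗ₜ[P] KaehlerDifferential.D A P (i : P) = 0 := by
      rw [KaehlerDifferential.cotangentComplexBaseChange_tmul] at hξ
      simpa [KaehlerDifferential.kerToTensor_apply] using hξ
    have h1 := congr(TensorProduct.quotTensorEquivQuotSMul _ (maximalIdeal P)
      (e.symm.toLinearEquiv.rTensor _ $h0))
    simp at h1
    exact h1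
  have hmem := Groth.Agent.FSAdicDiscrete.mem_smul_of_kaehler_mem (A := A) hsurj h (i : P) i.2 hd
  have hi' : i ∈ maximalIdeal P • (⊤ : Submodule P (RingHom.ker (algebraMap P B))) := by
    have h2 : (RingHom.ker (algebraMap P B) : Submodule P P).subtype i ∈ Submodule.map
        (RingHom.ker (algebraMap P B) : Submodule P P).subtype
        (maximalIdeal P • (⊤ : Submodule P (RingHom.ker (algebraMap P B)))) := by
      rw [Submodule.map_smul'', Submodule.map_top, Submodule.range_subtype]
      exact hmem
    obtain ⟨j, hj, hji⟩ := h2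
    rwa [← Subtype.ext hji]
  refine Submodule.smul_induction_on (p := fun j => (1 : ResidueField B) ⊗ₜ[P] j = 0) hi'
    (fun r hr y _ => ?_) (fun a b ha hb => ?_)
  · rw [← TensorProduct.smul_tmul, ← Algebra.algebraMap_eq_smul_one, hker r hr, TensorProduct.zero_tmul]
  · rw [TensorProduct.tmul_add, ha, hb, add_zero]

/-- Adic formal smoothness implies formal smoothness for a local quotient of a formally smooth
Noetherian local algebra. -/
theorem formallySmooth_of_adic {A B P : Type u} [CommRing A] [CommRing B] [CommRing P]
    [Algebra A B] [Algebra A P] [Algebra P B] [IsScalarTower A P B]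
    [IsLocalRing A] [IsLocalRing B] [IsLocalRing P] [IsNoetherianRing P]
    [IsLocalHom (algebraMap A P)] [Algebra.FormallySmooth A P]
    (hsurj : Function.Surjective (algebraMap P B))
    (h : EGA41.IsFormallySmoothAdic A (maximalIdeal A) B (maximalIdeal B)) :
    Algebra.FormallySmooth A B := by
  let P' : Algebra.Extension A B :=
    { Ring := P, σ := _, algebraMap_σ := Function.surjInv_eq hsurj }
  haveI : Algebra.FormallySmooth A P'.Ring := ‹_›
  haveI : IsNoetherianRing P'.Ring := ‹_›
  haveI : Module.Finite P'.Ring P'.Cotangent :=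
    .of_surjective _ Algebra.Extension.Cotangent.mk_surjective
  haveI : Module.Finite B P'.Cotangent := Module.Finite.of_restrictScalars_finite P'.Ring _ _
  haveI : Module.Projective B P'.CotangentSpace := inferInstance
  rw [P'.formallySmooth_iff_split_injection]
  refine split_injective_of_lTensor_residueField _ ?_
  suffices H : Function.Injective (cotangentComplexBaseChange A B P (ResidueField B)) by
    rw [show cotangentComplexBaseChange A B P (ResidueField B) = _ from
      P'.cotangentComplexBaseChange_eq_lTensor_cotangentComplex (ResidueField B)] at H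
    exact ((((AlgebraTensorModule.cancelBaseChange P'.Ring B _ _ P'.ker).symm ≪≫ₗ
      P'.cotangentEquiv.baseChange (A := _)).injective_comp _).1
      (((AlgebraTensorModule.cancelBaseChange P'.Ring B _ _ Ω[P'.Ring⁄A]).comp_injective _).1 H))
  exact injective_cotangentComplexBaseChange hsurj h

variable (P : Algebra.Extension.{u} R C) [Algebra.FormallySmooth R P.Ring]

/-- At a formally smooth prime there is a retraction up to a denominator. -/
theorem exists_retraction_of_smoothAt [Module.Finite C P.Cotangent] (p : Ideal C) [p.IsPrime]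
    [Algebra.FormallySmooth R (Localization.AtPrime p)] :
    ∃ f ∉ p, ∃ r : P.CotangentSpace →ₗ[C] P.Cotangent, r ∘ₗ P.cotangentComplex = f • LinearMap.id := by
  haveI : Module.Projective (Localization p.primeCompl) (LocalizedModule p.primeCompl Ω[C⁄R]) := by
    have := IsLocalizedModule.iso p.primeCompl
      (KaehlerDifferential.map R R C (Localization.AtPrime p))
    exact Module.Projective.of_equiv
      (this.extendScalarsOfIsLocalization p.primeCompl (Localization.AtPrime p)).symm
  refine exists_smul_retraction p.primeCompl P.cotangentComplex P.toKaehler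
    P.exact_cotangentComplex_toKaehler P.toKaehler_surjective fun x hx => ?_
  haveI : Subsingleton (Algebra.H1Cotangent R (Localization.AtPrime p)) := inferInstance
  obtain ⟨s, hs⟩ := (IsLocalizedModule.eq_zero_iff p.primeCompl
    (Algebra.H1Cotangent.map R R C (Localization.AtPrime p))
    (m := P.equivH1CotangentOfFormallySmooth ⟨x, hx⟩)).1 (Subsingleton.elim _ _)
  rw [Submonoid.smul_def, ← map_smul, LinearEquiv.map_eq_zero_iff] at hs
  exact ⟨s, s.2, congrArg Subtype.val hs⟩

/-- A retraction up to `f` gives formal smoothness of `C_f`. -/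
theorem formallySmooth_away_of_retraction (f : C) (r : P.CotangentSpace →ₗ[C] P.Cotangent)
    (hr : r ∘ₗ P.cotangentComplex = f • LinearMap.id) :
    Algebra.FormallySmooth R (Localization.Away f) := by
  have hH : Subsingleton (Algebra.H1Cotangent R (Localization.Away f)) := by
    refine subsingleton_of_forall_eq 0 fun z => ?_
    obtain ⟨⟨y, s⟩, hys⟩ := IsLocalizedModule.surj (Submonoid.powers f)
      (Algebra.H1Cotangent.map R R C (Localization.Away f)) z
    obtain ⟨x, rfl⟩ := P.equivH1CotangentOfFormallySmooth.surjective y
    have hfx : f • x = 0 := by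
      refine Subtype.ext ?_
      have := LinearMap.congr_fun hr x.1
      rw [LinearMap.comp_apply, show P.cotangentComplex x.1 = 0 from x.2, map_zero] at this
      exact this.symm
    have h0 : Algebra.H1Cotangent.map R R C (Localization.Away f)
        (P.equivH1CotangentOfFormallySmooth x) = 0 :=
      (IsLocalizedModule.eq_zero_iff (Submonoid.powers f) _).2
        ⟨⟨f, Submonoid.mem_powers f⟩, by rw [Submonoid.smul_def, ← map_smul, hfx, map_zero]⟩
    rw [h0] at hys
    have := IsLocalizedModule.smul_injective (Algebra.H1Cotangent.map R R C (Localization.Away f)) s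
      (show s • z = s • 0 by rw [smul_zero]; exact hys)
    exact this
  have hb : IsBaseChange (Localization.Away f) (KaehlerDifferential.map R R C (Localization.Away f)) :=
    IsLocalizedModule.isBaseChange (Submonoid.powers f) _ _
  haveI := projective_baseChange_of_smul_retraction (A := Localization.Away f) P.cotangentComplex
    P.toKaehler P.exact_cotangentComplex_toKaehler P.toKaehler_surjective f
    (IsLocalization.map_units (Localization.Away f) ⟨f, Submonoid.mem_powers f⟩) r hr
  haveI : Module.Projective (Localization.Away f) Ω[Localization.Away f⁄R] :=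
    Module.Projective.of_equiv hb.equiv
  exact ⟨inferInstance, hH⟩

/-- Formal smoothness is local on the maximal ideals. -/
theorem formallySmooth_of_forall_maximal [Module.Finite C P.Cotangent]
    (h : ∀ (m : Ideal C) [m.IsMaximal], Algebra.FormallySmooth R (Localization.AtPrime m)) :
    Algebra.FormallySmooth R C := by
  let I : Ideal C :=
    { carrier := {f | ∃ r : P.CotangentSpace →ₗ[C] P.Cotangent, r ∘ₗ P.cotangentComplex = f • LinearMap.id}
      add_mem' := by
        rintro a b ⟨r, hr⟩ ⟨r', hr'⟩
        exact ⟨r + r', by rw [LinearMap.add_comp, hr, hr', add_smul]⟩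
      zero_mem' := ⟨0, by rw [LinearMap.zero_comp, zero_smul]⟩
      smul_mem' := by
        rintro c a ⟨r, hr⟩
        exact ⟨c • r, by rw [LinearMap.smul_comp, hr, smul_eq_mul, mul_smul]⟩ }
  have hI : I = ⊤ := by
    by_contra hne
    obtain ⟨m, hm, hIm⟩ := Ideal.exists_le_maximal I hne
    haveI := hm
    haveI := h m
    obtain ⟨f, hf, hr⟩ := exists_retraction_of_smoothAt P m
    exact hf (hIm hr)
  obtain ⟨r, hr⟩ := (Ideal.eq_top_iff_one I).1 hI
  exact P.formallySmooth_iff_split_injection.2 ⟨r, by rw [hr, one_smul]⟩

end Algebras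

end Groth.Agent.SymGr
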