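import Groth.Agent.SymGr.RegLoc
import Groth.Agent.SymGr.FSCriteria
import Groth.Agent.S0564
import Mathlib

/-! Formal smoothness over `k₀` of algebras of finite type over a formally smooth extension `k`. -/

set_option autoImplicit false

namespace Groth.Agent.SymGr

universe u

open TensorProduct IsLocalRing

theorem isAdicFormallySmooth_of_formallySmooth {R S : Type u} [CommRing R] [CommRing S] [Algebra R S]
    (I : Ideal S) [Algebra.FormallySmooth R S] : CAlgX.IsAdicFormallySmooth R S I :=
  fun _ _ _ J hJ ψ _ => Algebra.FormallySmooth.exists_lift J ⟨2, by simpa [Ideal.zero_eq_bot] using hJ⟩ ψ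

variable (k₀ : Type u) {k : Type u} [Field k₀] [Field k] [Algebra k₀ k] [Algebra.FormallySmooth k₀ k]

/-- Adically formally smooth implies formally smooth, for local algebras essentially of finite type
over a formally smooth extension of the base field. -/
theorem formallySmooth_of_adic_essFiniteType {B : Type u} [CommRing B] [IsLocalRing B] [Algebra k B]
    [Algebra k₀ B] [IsScalarTower k₀ k B] [Algebra.EssFiniteType k B]
    (h : CAlgX.IsAdicFormallySmooth k₀ B (maximalIdeal B)) : Algebra.FormallySmooth k₀ B := by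
  obtain ⟨n, q, hq, φ, hφ⟩ := Groth.Agent.FSAdicDiscrete.exists_presentation k B
  let P := Localization.AtPrime q
  letI : Algebra P B := φ.toRingHom.toAlgebra
  haveI : IsScalarTower k P B := IsScalarTower.of_algHom φ
  haveI : IsScalarTower k₀ P B := IsScalarTower.of_algebraMap_eq fun x => by
    rw [IsScalarTower.algebraMap_apply k₀ k B, IsScalarTower.algebraMap_apply k₀ k P,
      ← IsScalarTower.algebraMap_apply k P B]
  haveI : Algebra.FormallySmooth k (MvPolynomial (Fin n) k) := inferInstance
  haveI : Algebra.FormallySmooth (MvPolynomial (Fin n) k) P :=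
    Algebra.FormallySmooth.of_isLocalization q.primeCompl
  haveI : Algebra.FormallySmooth k P := Algebra.FormallySmooth.comp k (MvPolynomial (Fin n) k) P
  haveI : Algebra.FormallySmooth k₀ P := Algebra.FormallySmooth.comp k₀ k P
  haveI : IsNoetherianRing P := IsLocalization.isNoetherianRing q.primeCompl _ inferInstance
  haveI : IsLocalHom (algebraMap k₀ P) := ⟨fun a ha =>
    isUnit_iff_ne_zero.2 fun h0 => by simp [h0] at ha⟩
  refine formallySmooth_of_adic (A := k₀) (P := P) hφ ?_
  rw [IsLocalRing.maximalIdeal_eq_bot]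
  exact Groth.Agent.FSAdic.of_sq_zero ⊥ _ fun T _ _ J hJ _ ψ hψ => h T J hJ ψ hψ

theorem exists_extension (k₀ k C : Type u) [Field k₀] [Field k] [Algebra k₀ k]
    [Algebra.FormallySmooth k₀ k] [CommRing C] [Algebra k C] [Algebra k₀ C] [IsScalarTower k₀ k C]
    [Algebra.FiniteType k C] :
    ∃ (P : Algebra.Extension.{u} k₀ C) (_ : Algebra.FormallySmooth k₀ P.Ring),
    Module.Finite C P.Cotangent := by
  obtain ⟨n, ψ, hψ⟩ := Algebra.FiniteType.iff_quotient_mvPolynomial''.1
    (inferInstance : Algebra.FiniteType k C)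
  letI : Algebra (MvPolynomial (Fin n) k) C := ψ.toRingHom.toAlgebra
  haveI : IsScalarTower k₀ (MvPolynomial (Fin n) k) C := IsScalarTower.of_algebraMap_eq fun x =>
    ((ψ.restrictScalars k₀).commutes x).symm
  haveI : Algebra.FormallySmooth k₀ (MvPolynomial (Fin n) k) :=
    Algebra.FormallySmooth.comp k₀ k (MvPolynomial (Fin n) k)
  let P : Algebra.Extension k₀ C :=
    { Ring := MvPolynomial (Fin n) k, σ := _, algebraMap_σ := Function.surjInv_eq hψ }
  haveI : IsNoetherianRing P.Ring := inferInstanceAs (IsNoetherianRing (MvPolynomial (Fin n) k))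
  haveI : Module.Finite P.Ring P.Cotangent :=
    .of_surjective _ Algebra.Extension.Cotangent.mk_surjective
  exact ⟨P, ‹_›, Module.Finite.of_restrictScalars_finite P.Ring _ _⟩

theorem exists_formallySmooth_away (k₀ k : Type u) [Field k₀] [Field k] [Algebra k₀ k]
    [Algebra.FormallySmooth k₀ k] {C : Type u} [CommRing C] [Algebra k C] [Algebra k₀ C]
    [IsScalarTower k₀ k C] [Algebra.FiniteType k C] (p : Ideal C) [p.IsPrime]
    [Algebra.FormallySmooth k₀ (Localization.AtPrime p)] :
    ∃ f : C, f ∉ p ∧ Algebra.FormallySmooth k₀ (Localization.Away f) := by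
  obtain ⟨P, hP, hfin⟩ := exists_extension k₀ k C
  obtain ⟨f, hf, r, hr⟩ := exists_retraction_of_smoothAt P p
  exact ⟨f, hf, formallySmooth_away_of_retraction P f r hr⟩

theorem formallySmooth_of_forall (k₀ k : Type u) [Field k₀] [Field k] [Algebra k₀ k]
    [Algebra.FormallySmooth k₀ k] {C : Type u} [CommRing C] [Algebra k C] [Algebra k₀ C]
    [IsScalarTower k₀ k C] [Algebra.FiniteType k C] (h : ∀ (m : Ideal C) [m.IsMaximal],
    Algebra.FormallySmooth k₀ (Localization.AtPrime m)) : Algebra.FormallySmooth k₀ C := by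
  obtain ⟨P, hP, hfin⟩ := exists_extension k₀ k C
  exact formallySmooth_of_forall_maximal P h

end Groth.Agent.SymGr
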