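import Groth.Agent.SymGr.CompleteFibre
import Groth.Agent.SymGr.FlatFormallyProjective
import Groth.Agent.ArtHull.Hull
import Mathlib

/-! Formal fibres of localisations of complete Noetherian local rings. -/

set_option autoImplicit false

namespace Groth.Agent.SymGr

universe u

open IsLocalRing

/-- `(D)_q` is adically formally smooth over `B_r` for `D` the completion of a localisation `B` of a
complete Noetherian local ring. -/
theorem isFormallySmoothAdic_completion_complete {A B D : Type u} [CommRing A] [IsLocalRing A] [IsNoetherianRing A]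
    [IsAdicComplete (maximalIdeal A) A] (p : Ideal A) [p.IsPrime] [CommRing B] [IsLocalRing B] [IsNoetherianRing B]
    [Algebra A B] [IsLocalization.AtPrime B p] [CommRing D] [IsLocalRing D] [IsNoetherianRing D]
    [IsAdicComplete (maximalIdeal D) D] [Algebra B D] [Module.Flat B D]
    (hDm : maximalIdeal D = (maximalIdeal B).map (algebraMap B D))
    (hd : ∀ (k : ℕ) (d : D), ∃ c : B, d - algebraMap B D c ∈ maximalIdeal D ^ k)
    (hc : ∀ (k : ℕ) (c : B), algebraMap B D c ∈ maximalIdeal D ^ k → c ∈ maximalIdeal B ^ k)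
    (q : Ideal D) [q.IsPrime] (Br Dq : Type u) [CommRing Br] [IsLocalRing Br] [Algebra B Br]
    [IsLocalization.AtPrime Br (q.comap (algebraMap B D))] [CommRing Dq] [IsLocalRing Dq] [Algebra D Dq]
    [IsLocalization.AtPrime Dq q] [Algebra Br Dq] [Algebra B Dq] [IsScalarTower B D Dq] [IsScalarTower B Br Dq] :
    EGA41.IsFormallySmoothAdic Br (maximalIdeal Br) Dq (maximalIdeal Dq) := by
  let r := q.comap (algebraMap B D)
  haveI hrp : r.IsPrime := Ideal.comap_isPrime _ q
  haveI : IsNoetherianRing Dq := IsLocalization.isNoetherianRing q.primeCompl _ inferInstance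
  haveI : Module.Flat D Dq := IsLocalization.flat Dq q.primeCompl
  haveI : Module.Flat B Dq := Module.Flat.trans B D Dq
  haveI : Module.Flat Br Dq := (Module.flat_iff_of_isLocalization Br r.primeCompl Dq).2 inferInstance
  -- the complete domain
  let r₀ := r.comap (algebraMap A B)
  haveI : r₀.IsPrime := Ideal.comap_isPrime _ r
  haveI : IsLocalRing (A ⧸ r₀) :=
    IsLocalRing.of_surjective' (Ideal.Quotient.mk r₀) Ideal.Quotient.mk_surjective
  haveI : IsAdicComplete (maximalIdeal (A ⧸ r₀)) (A ⧸ r₀) := ArtHull.isAdicComplete_quotient r₀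
  have hr₀p : r₀ ≤ p := fun a ha => by
    by_contra hap
    exact hrp.ne_top (Ideal.eq_top_of_isUnit_mem _ ha (IsLocalization.map_units B (⟨a, hap⟩ : p.primeCompl)))
  let p' := p.map (Ideal.Quotient.mk r₀)
  haveI : p'.IsPrime := Ideal.map_isPrime_of_surjective Ideal.Quotient.mk_surjective (by rwa [Ideal.mk_ker])
  letI : Algebra (A ⧸ r₀) (B ⧸ r) := (Ideal.quotientMap r (algebraMap A B) le_rfl).toAlgebra
  haveI : IsLocalization.AtPrime (B ⧸ r) p' := by
    have h := IsLocalization.of_surjective p.primeCompl B (R' := A ⧸ r₀) (S' := B ⧸ r) (Ideal.Quotient.mk r₀)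
      Ideal.Quotient.mk_surjective (Ideal.Quotient.mk r) Ideal.Quotient.mk_surjective rfl
      (by
        rw [Ideal.mk_ker, Ideal.mk_ker]
        exact (IsLocalization.map_comap p.primeCompl B r).ge)
    have he : p.primeCompl.map (Ideal.Quotient.mk r₀) = p'.primeCompl := by
      ext x
      obtain ⟨x, rfl⟩ := Ideal.Quotient.mk_surjective x
      constructor
      · rintro ⟨y, hy, hyx⟩ hx
        refine hy ?_
        rw [← hyx, SetLike.mem_coe, ← Ideal.mem_comap, Ideal.comap_map_of_surjective _ Ideal.Quotient.mk_surjective,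
          ← RingHom.ker_eq_comap_bot, Ideal.mk_ker, sup_eq_left.2 hr₀p] at hx
        exact hx
      · exact fun hx => ⟨x, fun hxp => hx (Ideal.mem_map_of_mem _ hxp), rfl⟩
    rwa [he] at h
  haveI : IsLocalRing (B ⧸ r) := IsLocalRing.of_surjective' (Ideal.Quotient.mk r) Ideal.Quotient.mk_surjective
  let rD := r.map (algebraMap B D)
  have hrq : rD ≤ q := Ideal.map_comap_le
  have hrDtop : rD ≠ ⊤ := fun h => ‹q.IsPrime›.ne_top (top_le_iff.1 (h ▸ hrq))
  haveI : Nontrivial (D ⧸ rD) := Ideal.Quotient.nontrivial_iff.2 hrDtop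
  haveI : IsLocalRing (D ⧸ rD) := IsLocalRing.of_surjective' (Ideal.Quotient.mk rD) Ideal.Quotient.mk_surjective
  haveI : IsAdicComplete (maximalIdeal (D ⧸ rD)) (D ⧸ rD) := ArtHull.isAdicComplete_quotient rD
  letI : Algebra (B ⧸ r) (D ⧸ rD) := (Ideal.quotientMap rD (algebraMap B D) Ideal.le_comap_map).toAlgebra
  letI : Algebra (A ⧸ r₀) (D ⧸ rD) :=
    ((algebraMap (B ⧸ r) (D ⧸ rD)).comp (algebraMap (A ⧸ r₀) (B ⧸ r))).toAlgebra
  haveI : IsScalarTower (A ⧸ r₀) (B ⧸ r) (D ⧸ rD) := IsScalarTower.of_algebraMap_eq' rfl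
  have hD'm : maximalIdeal (D ⧸ rD) = (maximalIdeal D).map (Ideal.Quotient.mk rD) :=
    (IsLocalRing.map_maximalIdeal_of_surjective _ Ideal.Quotient.mk_surjective).symm
  have hC'm : maximalIdeal (B ⧸ r) = (maximalIdeal B).map (Ideal.Quotient.mk r) :=
    (IsLocalRing.map_maximalIdeal_of_surjective _ Ideal.Quotient.mk_surjective).symm
  let q' := q.map (Ideal.Quotient.mk rD)
  haveI : q'.IsPrime := Ideal.map_isPrime_of_surjective Ideal.Quotient.mk_surjective (by rwa [Ideal.mk_ker])
  have hq'c : q'.comap (Ideal.Quotient.mk rD) = q := by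
    rw [Ideal.comap_map_of_surjective _ Ideal.Quotient.mk_surjective, ← RingHom.ker_eq_comap_bot, Ideal.mk_ker,
      sup_eq_left.2 hrq]
  have hq' : q'.comap (algebraMap (B ⧸ r) (D ⧸ rD)) = ⊥ := by
    refine (Submodule.eq_bot_iff _).2 fun x hx => ?_
    obtain ⟨x, rfl⟩ := Ideal.Quotient.mk_surjective x
    exact Ideal.Quotient.eq_zero_iff_mem.2 ((hq'c ▸ Ideal.mem_comap.2 hx : algebraMap B D x ∈ q))
  -- the closed fibre of `Br → Dq`
  let T := Dq ⧸ (maximalIdeal Br).map (algebraMap Br Dq)
  have hmr : maximalIdeal Br = r.map (algebraMap B Br) := (IsLocalization.AtPrime.map_eq_maximalIdeal r Br).symm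
  have hmT : (maximalIdeal Br).map (algebraMap Br Dq) = rD.map (algebraMap D Dq) := by
    rw [hmr, Ideal.map_map, Ideal.map_map, ← IsScalarTower.algebraMap_eq, ← IsScalarTower.algebraMap_eq]
  letI : Algebra (D ⧸ rD) T := (Ideal.quotientMap _ (algebraMap D Dq)
    (hmT ▸ Ideal.le_comap_map : rD ≤ ((maximalIdeal Br).map (algebraMap Br Dq)).comap (algebraMap D Dq))).toAlgebra
  haveI : IsLocalization.AtPrime T q' := by
    have h := IsLocalization.of_surjective q.primeCompl Dq (R' := D ⧸ rD) (S' := T) (Ideal.Quotient.mk rD)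
      Ideal.Quotient.mk_surjective (Ideal.Quotient.mk _) Ideal.Quotient.mk_surjective rfl
      (by rw [Ideal.mk_ker, Ideal.mk_ker, hmT])
    have he : q.primeCompl.map (Ideal.Quotient.mk rD) = q'.primeCompl := by
      ext x
      obtain ⟨x, rfl⟩ := Ideal.Quotient.mk_surjective x
      constructor
      · rintro ⟨y, hy, hyx⟩ hx
        exact hy (hq'c ▸ Ideal.mem_comap.2 (hyx ▸ hx))
      · exact fun hx => ⟨x, fun hxp => hx (Ideal.mem_map_of_mem _ hxp), rfl⟩
    rwa [he] at h
  letI : Algebra (A ⧸ r₀) T := ((algebraMap (D ⧸ rD) T).comp (algebraMap (A ⧸ r₀) (D ⧸ rD))).toAlgebra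
  haveI : IsScalarTower (A ⧸ r₀) (D ⧸ rD) T := IsScalarTower.of_algebraMap_eq' rfl
  letI : Algebra A Br := ((algebraMap B Br).comp (algebraMap A B)).toAlgebra
  haveI : IsScalarTower A B Br := IsScalarTower.of_algebraMap_eq' rfl
  haveI : IsLocalization.AtPrime Br r₀ :=
    IsLocalization.isLocalization_isLocalization_atPrime_isLocalization p.primeCompl (T := Br) r
  let kk := Br ⧸ maximalIdeal Br
  letI : Field kk := Ideal.Quotient.field _
  letI : Algebra (A ⧸ r₀) kk := (Ideal.quotientMap (maximalIdeal Br) (algebraMap A Br)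
    (IsLocalization.AtPrime.comap_maximalIdeal Br r₀).ge).toAlgebra
  have hinjk : Function.Injective (algebraMap (A ⧸ r₀) kk) :=
    Ideal.quotientMap_injective' (IsLocalization.AtPrime.comap_maximalIdeal Br r₀).le
  letI : Algebra (FractionRing (A ⧸ r₀)) kk := (IsFractionRing.lift hinjk).toAlgebra
  have hsurj : Function.Surjective (algebraMap (FractionRing (A ⧸ r₀)) kk) := by
    intro x
    obtain ⟨x, rfl⟩ := Ideal.Quotient.mk_surjective x
    obtain ⟨a, s, rfl⟩ := IsLocalization.exists_mk'_eq r₀.primeCompl x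
    have hkey : ∀ c : A, IsFractionRing.lift hinjk (algebraMap (A ⧸ r₀) (FractionRing (A ⧸ r₀)) (Ideal.Quotient.mk r₀ c)) =
        Ideal.Quotient.mk (maximalIdeal Br) (algebraMap A Br c) := fun c => by
      rw [IsFractionRing.lift_algebraMap]; rfl
    refine ⟨algebraMap _ _ (Ideal.Quotient.mk r₀ a) / algebraMap _ _ (Ideal.Quotient.mk r₀ (s : A)), ?_⟩
    show IsFractionRing.lift hinjk _ = _
    rw [map_div₀, hkey, hkey, div_eq_iff, ← map_mul, IsLocalization.mk'_spec]
    intro h0
    exact (maximalIdeal.isMaximal Br).ne_top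
      (Ideal.eq_top_of_isUnit_mem _ (Ideal.Quotient.eq_zero_iff_mem.1 h0) (IsLocalization.map_units Br s))
  letI : Algebra (FractionRing (A ⧸ r₀)) T :=
    ((algebraMap kk T).comp (algebraMap (FractionRing (A ⧸ r₀)) kk)).toAlgebra
  haveI : IsScalarTower (FractionRing (A ⧸ r₀)) kk T := IsScalarTower.of_algebraMap_eq' rfl
  haveI : IsScalarTower (A ⧸ r₀) (FractionRing (A ⧸ r₀)) T := IsScalarTower.of_algebraMap_eq fun x => by
    obtain ⟨a, rfl⟩ := Ideal.Quotient.mk_surjective x
    show algebraMap (D ⧸ rD) T (algebraMap (A ⧸ r₀) (D ⧸ rD) (Ideal.Quotient.mk r₀ a)) =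
      algebraMap kk T (IsFractionRing.lift hinjk (algebraMap _ _ (Ideal.Quotient.mk r₀ a)))
    rw [IsFractionRing.lift_algebraMap]
    show Ideal.Quotient.mk _ (algebraMap D Dq (algebraMap B D (algebraMap A B a))) =
      Ideal.Quotient.mk _ (algebraMap Br Dq (algebraMap B Br (algebraMap A B a)))
    rw [← IsScalarTower.algebraMap_apply B D Dq, ← IsScalarTower.algebraMap_apply B Br Dq]
  haveI : Nontrivial T := IsLocalization.AtPrime.nontrivial T q'
  haveI : IsLocalRing T := IsLocalRing.of_surjective' (Ideal.Quotient.mk _) Ideal.Quotient.mk_surjective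
  haveI : IsNoetherianRing T := isNoetherianRing_of_surjective Dq T (Ideal.Quotient.mk _) Ideal.Quotient.mk_surjective
  have hgr : CAlg.IsGeometricallyRegular (FractionRing (A ⧸ r₀)) T := by
    refine isGeometricallyRegular_completion_completeDomain (B := A ⧸ r₀) (C := B ⧸ r) (D := D ⧸ rD) p'
      ?_ (fun k d => ?_) (fun k c hck => ?_) q' hq' T
    · rw [hD'm, hDm, hC'm, Ideal.map_map, Ideal.map_map]
      rfl
    · obtain ⟨d, rfl⟩ := Ideal.Quotient.mk_surjective d
      obtain ⟨c, hcd⟩ := hd k d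
      refine ⟨Ideal.Quotient.mk r c, ?_⟩
      show Ideal.Quotient.mk rD d - Ideal.Quotient.mk rD (algebraMap B D c) ∈ _
      rw [← map_sub, hD'm, ← Ideal.map_pow]
      exact Ideal.mem_map_of_mem _ hcd
    · obtain ⟨c, rfl⟩ := Ideal.Quotient.mk_surjective c
      change Ideal.Quotient.mk rD (algebraMap B D c) ∈ _ at hck
      rw [hD'm, ← Ideal.map_pow, ← Ideal.mem_comap, Ideal.comap_map_of_surjective _ Ideal.Quotient.mk_surjective,
        ← RingHom.ker_eq_comap_bot, Ideal.mk_ker] at hck
      obtain ⟨x, hx, y, hy, hxy⟩ := Submodule.mem_sup.1 hck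
      have hyz : ∀ y ∈ rD, ∃ z ∈ r, y - algebraMap B D z ∈ maximalIdeal D ^ k := by
        intro y hy
        induction hy using Submodule.span_induction with
        | mem y hy =>
          obtain ⟨z, hz, rfl⟩ := hy
          exact ⟨z, hz, by rw [sub_self]; exact zero_mem _⟩
        | zero => exact ⟨0, zero_mem _, by rw [map_zero, sub_zero]; exact zero_mem _⟩
        | add a b _ _ ha hb =>
          obtain ⟨z, hz, h⟩ := ha
          obtain ⟨w, hw, h'⟩ := hb
          exact ⟨z + w, add_mem hz hw, by rw [map_add, add_sub_add_comm]; exact add_mem h h'⟩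
        | smul d a _ ha =>
          obtain ⟨z, hz, h⟩ := ha
          obtain ⟨e, he⟩ := hd k d
          refine ⟨e * z, Ideal.mul_mem_left _ _ hz, ?_⟩
          rw [smul_eq_mul, map_mul,
            show d * a - algebraMap B D e * algebraMap B D z =
              d * (a - algebraMap B D z) + algebraMap B D z * (d - algebraMap B D e) by ring]
          exact add_mem (Ideal.mul_mem_left _ _ h) (Ideal.mul_mem_left _ _ he)
      obtain ⟨z, hz, hzy⟩ := hyz y hy
      have h1 : c - z ∈ maximalIdeal B ^ k := hc k _ (by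
        rw [map_sub, ← hxy, add_sub_assoc]
        exact add_mem hx hzy)
      rw [hC'm, ← Ideal.map_pow, show Ideal.Quotient.mk r c = Ideal.Quotient.mk r (c - z) by
        rw [map_sub, Ideal.Quotient.eq_zero_iff_mem.2 hz, sub_zero]]
      exact Ideal.mem_map_of_mem _ h1
  refine isFormallySmoothAdic_of_flat_of_fibre ?_
  rw [IsLocalRing.map_maximalIdeal_of_surjective (Ideal.Quotient.mk _) Ideal.Quotient.mk_surjective]
  exact isAdicFormallySmooth_of_surjective_base (K := FractionRing (A ⧸ r₀)) hsurj _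
    (isAdicFormallySmooth_of_isGeometricallyRegular hgr)

end Groth.Agent.SymGr
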