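import Groth.Agent.SymGr.RootCotangent
import Groth.Agent.RegLocus.Smooth
import Mathlib

/-! Extensions `A[T]/(F_i(T_i))` by distinguished polynomials. -/

set_option autoImplicit false

namespace Groth.Agent.SymGr.Distinguished

universe u

open IsLocalRing MvPolynomial

variable {A : Type u} [CommRing A] {r : ℕ} (d : Fin r → ℕ) (c : Fin r → ℕ → A)

/-- The defining polynomials. -/
noncomputable abbrev rel : Fin r → MvPolynomial (Fin r) A := fun i =>
  X i ^ d i + (Finset.range (d i)).sum fun k => C (c i k) * X i ^ k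

/-- The defining ideal. -/
noncomputable abbrev relIdeal : Ideal (MvPolynomial (Fin r) A) := Ideal.span (Set.range (rel d c))

/-- The extension. -/
abbrev Ext : Type u := MvPolynomial (Fin r) A ⧸ relIdeal d c

/-- The image of the variables. -/
noncomputable abbrev var (i : Fin r) : Ext d c := Ideal.Quotient.mk _ (X i)

theorem rel_var (i : Fin r) :
    var d c i ^ d i + (Finset.range (d i)).sum (fun k => algebraMap A (Ext d c) (c i k) * var d c i ^ k) = 0 := by
  have h : Ideal.Quotient.mk (relIdeal d c) (rel d c i) = 0 :=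
    Ideal.Quotient.eq_zero_iff_mem.2 (Ideal.subset_span (Set.mem_range_self i))
  simp only [rel, map_add, map_pow, map_sum, map_mul] at h
  exact h

theorem isIntegral : Algebra.IsIntegral A (Ext d c) := by
  refine ⟨fun b => ?_⟩
  obtain ⟨y, rfl⟩ := Ideal.Quotient.mk_surjective b
  induction y using MvPolynomial.induction_on with
  | C a => exact isIntegral_algebraMap
  | add u v hu hv => rw [map_add]; exact hu.add hv
  | mul_X u i hu =>
    rw [map_mul]
    refine hu.mul ⟨Polynomial.X ^ d i +
      (Finset.range (d i)).sum fun k => Polynomial.C (c i k) * Polynomial.X ^ k, ?_, ?_⟩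
    · exact Polynomial.monic_X_pow_add (lt_of_le_of_lt (Polynomial.degree_sum_le _ _)
        ((Finset.sup_lt_iff (WithBot.bot_lt_coe _)).2 fun k hk =>
          (Polynomial.degree_C_mul_X_pow_le _ _).trans_lt (WithBot.coe_lt_coe.2 (Finset.mem_range.1 hk))))
    · simpa [Polynomial.eval₂_finset_sum] using rel_var d c i

/-- Evaluation of the extension at a point. -/
noncomputable def point {T : Type*} [CommRing T] (f : A →+* T) (t : Fin r → T)
    (h : ∀ i, t i ^ d i + (Finset.range (d i)).sum (fun k => f (c i k) * t i ^ k) = 0) : Ext d c →+* T :=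
  Ideal.Quotient.lift _ (eval₂Hom f t) fun x hx => by
    refine (Ideal.span_le (I := RingHom.ker (eval₂Hom f t))).2 ?_ hx
    rintro _ ⟨i, rfl⟩
    simpa using h i

theorem point_var {T : Type*} [CommRing T] (f : A →+* T) (t : Fin r → T)
    (h : ∀ i, t i ^ d i + (Finset.range (d i)).sum (fun k => f (c i k) * t i ^ k) = 0) (i : Fin r) :
    point d c f t h (var d c i) = t i := by
  simp [point, var]

theorem point_algebraMap {T : Type*} [CommRing T] (f : A →+* T) (t : Fin r → T)
    (h : ∀ i, t i ^ d i + (Finset.range (d i)).sum (fun k => f (c i k) * t i ^ k) = 0) (a : A) :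
    point d c f t h (algebraMap A (Ext d c) a) = f a := by
  show point d c f t h (Ideal.Quotient.mk _ (C a)) = f a
  simp [point]

theorem exists_eq_algebraMap_add (b : Ext d c) :
    ∃ a : A, b - algebraMap A (Ext d c) a ∈ Ideal.span (Set.range (var d c)) := by
  obtain ⟨y, rfl⟩ := Ideal.Quotient.mk_surjective b
  induction y using MvPolynomial.induction_on with
  | C a => exact ⟨a, by
      show Ideal.Quotient.mk (relIdeal d c) (C a) - Ideal.Quotient.mk (relIdeal d c) (C a) ∈ _
      rw [sub_self]; exact zero_mem _⟩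
  | add u v hu hv =>
    obtain ⟨a, ha⟩ := hu; obtain ⟨b, hb⟩ := hv
    exact ⟨a + b, by simpa [map_add, add_sub_add_comm] using add_mem ha hb⟩
  | mul_X u i hu =>
    exact ⟨0, by
      rw [map_mul, map_zero, sub_zero]
      exact Ideal.mul_mem_left _ _ (Ideal.subset_span (Set.mem_range_self i))⟩

theorem point_zero (hd : ∀ i, 0 < d i) {T : Type*} [CommRing T] (f : A →+* T) (hf : ∀ i, f (c i 0) = 0)
    (i : Fin r) :
    (0 : T) ^ d i + (Finset.range (d i)).sum (fun k => f (c i k) * 0 ^ k) = 0 := by
  rw [zero_pow (hd i).ne', zero_add]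
  refine Finset.sum_eq_zero fun k _ => ?_
  rcases k with _ | k
  · simp [hf i]
  · simp

/-- The point with all variables zero has the kernel generated by the kernel below and the variables. -/
theorem ker_point_zero (hd : ∀ i, 0 < d i) {T : Type*} [CommRing T] (f : A →+* T) (hf : ∀ i, f (c i 0) = 0) :
    RingHom.ker (point d c f 0 (point_zero d c hd f hf)) =
      (RingHom.ker f).map (algebraMap A (Ext d c)) ⊔ Ideal.span (Set.range (var d c)) := by
  refine le_antisymm (fun b hb => ?_) (sup_le (Ideal.map_le_iff_le_comap.2 fun a ha => ?_) (Ideal.span_le.2 ?_))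
  · obtain ⟨a, ha⟩ := exists_eq_algebraMap_add d c b
    have h1 : point d c f 0 (point_zero d c hd f hf) (b - algebraMap A (Ext d c) a) = 0 := by
      refine (Ideal.span_le (I := RingHom.ker (point d c f 0 (point_zero d c hd f hf)))).2 ?_ ha
      rintro _ ⟨i, rfl⟩
      exact point_var ..
    rw [map_sub, RingHom.mem_ker.1 hb, zero_sub, neg_eq_zero, point_algebraMap] at h1
    have h2 := Submodule.add_mem_sup (Ideal.mem_map_of_mem (algebraMap A (Ext d c)) (RingHom.mem_ker.2 h1)) ha
    rwa [add_sub_cancel] at h2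
  · rw [Ideal.mem_comap, RingHom.mem_ker, point_algebraMap]; exact ha
  · rintro _ ⟨i, rfl⟩
    exact point_var ..

section Local

variable [IsLocalRing A]

theorem isLocalRing_and (hd : ∀ i, 0 < d i) (hc : ∀ i k, c i k ∈ maximalIdeal A) :
    ∃ _ : IsLocalRing (Ext d c),
      maximalIdeal (Ext d c) =
        (maximalIdeal A).map (algebraMap A (Ext d c)) ⊔ Ideal.span (Set.range (var d c)) := by
  haveI := isIntegral d c
  have hres : ∀ i, residue A (c i 0) = 0 := fun i => (residue_eq_zero_iff _).2 (hc i 0)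
  let φ := point d c (residue A) 0 (point_zero d c hd (residue A) hres)
  have hφ : Function.Surjective φ := fun x => by
    obtain ⟨a, rfl⟩ := residue_surjective x
    exact ⟨algebraMap A _ a, point_algebraMap ..⟩
  have hker : RingHom.ker φ =
      (maximalIdeal A).map (algebraMap A (Ext d c)) ⊔ Ideal.span (Set.range (var d c)) := by
    show RingHom.ker (point d c (residue A) 0 _) = _
    rw [ker_point_zero d c hd (residue A) hres, ker_residue]
  haveI hmax : (RingHom.ker φ).IsMaximal := RingHom.ker_isMaximal_of_surjective φ hφ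
  have hle : ∀ n : Ideal (Ext d c), n.IsMaximal → RingHom.ker φ ≤ n := by
    intro n hn
    haveI := hn
    have hcm : n.comap (algebraMap A (Ext d c)) = maximalIdeal A :=
      IsLocalRing.eq_maximalIdeal (Ideal.isMaximal_comap_of_isIntegral_of_isMaximal (R := A) n)
    rw [hker]
    refine sup_le (Ideal.map_le_iff_le_comap.2 hcm.ge) (Ideal.span_le.2 ?_)
    rintro _ ⟨i, rfl⟩
    refine hn.isPrime.mem_of_pow_mem (d i) ?_
    rw [eq_neg_of_add_eq_zero_left (rel_var d c i)]
    exact neg_mem (sum_mem fun k _ => Ideal.mul_mem_right _ _ (hcm.ge (hc i k)))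
  haveI : IsLocalRing (Ext d c) := IsLocalRing.of_unique_max_ideal
    ⟨_, hmax, fun n hn => (hmax.eq_of_le hn.ne_top (hle n hn)).symm⟩
  exact ⟨inferInstance, by rw [← IsLocalRing.eq_maximalIdeal hmax, hker]⟩

theorem residue_surjective_ext (hd : ∀ i, 0 < d i) (hc : ∀ i k, c i k ∈ maximalIdeal A)
    (M : Ideal (Ext d c)) [M.IsMaximal] :
    Function.Surjective ((Ideal.Quotient.mk M).comp (algebraMap A _)) := by
  obtain ⟨_, hm⟩ := isLocalRing_and d c hd hc
  intro x
  obtain ⟨b, rfl⟩ := Ideal.Quotient.mk_surjective x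
  obtain ⟨a, ha⟩ := exists_eq_algebraMap_add d c b
  refine ⟨a, (Ideal.Quotient.eq.2 ?_).symm⟩
  rw [IsLocalRing.eq_maximalIdeal ‹M.IsMaximal›, hm]
  exact le_sup_right (a := (maximalIdeal A).map (algebraMap A (Ext d c))) ha

theorem comap_sq_inf (hm : maximalIdeal A ^ 2 = ⊥) (hd : ∀ i, 2 ≤ d i)
    (hc : ∀ i k, c i k ∈ maximalIdeal A) [IsLocalRing (Ext d c)] :
    maximalIdeal A ⊓ Ideal.comap (algebraMap A (Ext d c)) (maximalIdeal (Ext d c) ^ 2) =
      Ideal.span (Set.range fun i => c i 0) := by
  obtain ⟨_, hmax⟩ := isLocalRing_and d c (fun i => zero_lt_two.trans_le (hd i)) hc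
  refine le_antisymm ?_ (Ideal.span_le.2 ?_)
  · rintro a ⟨-, ha⟩
    let f := Ideal.Quotient.mk (Ideal.span (Set.range fun i => c i 0))
    have hf : ∀ i, f (c i 0) = 0 := fun i =>
      Ideal.Quotient.eq_zero_iff_mem.2 (Ideal.subset_span (Set.mem_range_self i))
    have h00 := point_zero d c (fun i => zero_lt_two.trans_le (hd i)) f hf
    let ψ := point d c f 0 h00
    have hψa : ψ.comp (algebraMap A (Ext d c)) = f := RingHom.ext fun x => point_algebraMap d c f 0 h00 x
    have h1 : ψ (algebraMap A _ a) ∈ ((maximalIdeal A).map f) ^ 2 := by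
      have h2 := Ideal.mem_map_of_mem ψ (Ideal.mem_comap.1 ha)
      rw [Ideal.map_pow, hmax, Ideal.map_sup, Ideal.map_map] at h2
      rw [hψa] at h2
      refine Ideal.pow_right_mono (sup_le le_rfl ?_) 2 h2
      rw [Ideal.map_span, Ideal.span_le]
      rintro _ ⟨_, ⟨i, rfl⟩, rfl⟩
      rw [SetLike.mem_coe, point_var]
      exact zero_mem _
    rw [← Ideal.map_pow, hm, Ideal.map_bot, Ideal.mem_bot, point_algebraMap,
      Ideal.Quotient.eq_zero_iff_mem] at h1
    exact h1
  · rintro _ ⟨i, rfl⟩
    refine ⟨hc i 0, ?_⟩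
    refine Ideal.mem_comap.2 ?_
    have hv : var d c i ∈ maximalIdeal (Ext d c) := by
      rw [hmax]; exact Ideal.mem_sup_right (Ideal.subset_span (Set.mem_range_self i))
    obtain ⟨e, he⟩ : ∃ e, d i = e + 2 := ⟨d i - 2, (Nat.sub_add_cancel (hd i)).symm⟩
    have h := rel_var d c i
    rw [he, Finset.sum_range_succ', pow_zero, mul_one, ← add_assoc] at h
    rw [eq_neg_of_add_eq_zero_right h]
    refine neg_mem (add_mem ?_ (sum_mem fun k _ => ?_))
    · exact Ideal.pow_le_pow_right (Nat.le_add_left 2 e) (Ideal.pow_mem_pow hv _)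
    · rw [pow_two]
      refine Ideal.mul_mem_mul ?_ (Ideal.pow_mem_of_mem _ hv _ (Nat.succ_pos k))
      rw [hmax]; exact Ideal.mem_sup_left (Ideal.mem_map_of_mem _ (hc i _))

theorem injective_algebraMap [IsDomain A] (hd : ∀ i, 0 < d i) :
    Function.Injective (algebraMap A (Ext d c)) := by
  classical
  let L := AlgebraicClosure (FractionRing A)
  let f : A →+* L := (algebraMap (FractionRing A) L).comp (algebraMap A (FractionRing A))
  have hroot : ∀ i, ∃ t : L, t ^ d i + (Finset.range (d i)).sum (fun k => f (c i k) * t ^ k) = 0 := fun i => by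
    let q : Polynomial L :=
      Polynomial.X ^ d i + (Finset.range (d i)).sum fun k => Polynomial.C (f (c i k)) * Polynomial.X ^ k
    have hdeg : q.degree = d i := by
      refine (Polynomial.degree_add_eq_left_of_degree_lt ?_).trans (Polynomial.degree_X_pow _)
      rw [Polynomial.degree_X_pow]
      exact lt_of_le_of_lt (Polynomial.degree_sum_le _ _)
        ((Finset.sup_lt_iff (WithBot.bot_lt_coe _)).2 fun k hk =>
          (Polynomial.degree_C_mul_X_pow_le _ _).trans_lt (WithBot.coe_lt_coe.2 (Finset.mem_range.1 hk)))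
    obtain ⟨t, ht⟩ := IsAlgClosed.exists_root q (by rw [hdeg]; exact_mod_cast (hd i).ne')
    exact ⟨t, by simpa [q, Polynomial.eval_finset_sum] using ht⟩
  choose t ht using hroot
  have hf : Function.Injective f :=
    (algebraMap (FractionRing A) L).injective.comp (IsFractionRing.injective A (FractionRing A))
  exact fun a b hab => hf (by rw [← point_algebraMap d c f t ht a, hab, point_algebraMap])

end Local

section Cotangent

variable [IsLocalRing A] [IsNoetherianRing A]

theorem spanFinrank_add (hd : ∀ i, 2 ≤ d i) (hc : ∀ i k, c i k ∈ maximalIdeal A) [IsLocalRing (Ext d c)] :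
    (maximalIdeal (Ext d c)).spanFinrank + Module.finrank (ResidueField A)
      (Submodule.span (ResidueField A) (Set.range fun i => (maximalIdeal A).toCotangent ⟨c i 0, hc i 0⟩)) =
      (maximalIdeal A).spanFinrank + r := by
  classical
  have hd0 : ∀ i, 0 < d i := fun i => zero_lt_two.trans_le (hd i)
  obtain ⟨_, hmax⟩ := isLocalRing_and d c hd0 hc
  let J : Ideal A := Ideal.span (Set.range fun i => c i 0)
  have hJ : J ≤ maximalIdeal A := Ideal.span_le.2 (by rintro _ ⟨i, rfl⟩; exact hc i 0)
  haveI : Nontrivial (A ⧸ J) := Ideal.Quotient.nontrivial_iff.2 fun h =>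
    (maximalIdeal.isMaximal A).ne_top (top_le_iff.1 (h ▸ hJ))
  haveI : IsLocalRing (A ⧸ J) := .of_surjective' _ Ideal.Quotient.mk_surjective
  have hA := spanFinrank_quotient_add (Ideal.Quotient.mk J) Ideal.Quotient.mk_surjective
    (fun i => (⟨c i 0, hc i 0⟩ : maximalIdeal A)) Ideal.mk_ker
  have hf : ∀ i, Ideal.Quotient.mk J (c i 0) = 0 := fun i =>
    Ideal.Quotient.eq_zero_iff_mem.2 (Ideal.subset_span (Set.mem_range_self i))
  let ψ := point d c (Ideal.Quotient.mk J) 0 (point_zero d c hd0 _ hf)
  have hψ : Function.Surjective ψ := fun x => by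
    obtain ⟨a, rfl⟩ := Ideal.Quotient.mk_surjective x
    exact ⟨algebraMap A _ a, point_algebraMap ..⟩
  have hv : ∀ i, var d c i ∈ maximalIdeal (Ext d c) := fun i => by
    rw [hmax]; exact Ideal.mem_sup_right (Ideal.subset_span (Set.mem_range_self i))
  have hker : RingHom.ker ψ = Ideal.span (Set.range fun i => ((⟨_, hv i⟩ : maximalIdeal (Ext d c)) : Ext d c)) := by
    show RingHom.ker (point d c (Ideal.Quotient.mk J) 0 _) = _
    rw [ker_point_zero d c hd0 (Ideal.Quotient.mk J) hf, Ideal.mk_ker, sup_eq_right]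
    refine Ideal.map_le_iff_le_comap.2 (Ideal.span_le.2 ?_)
    rintro _ ⟨i, rfl⟩
    obtain ⟨e, he⟩ : ∃ e, d i = e + 1 := ⟨d i - 1, (Nat.sub_add_cancel (hd0 i)).symm⟩
    have h := rel_var d c i
    rw [he, Finset.sum_range_succ', pow_zero, mul_one, ← add_assoc] at h
    rw [SetLike.mem_coe, Ideal.mem_comap, eq_neg_of_add_eq_zero_right h]
    refine neg_mem (add_mem ?_ (sum_mem fun k _ => ?_))
    · rw [pow_succ']; exact Ideal.mul_mem_right _ _ (Ideal.subset_span (Set.mem_range_self i))
    · rw [pow_succ']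
      exact Ideal.mul_mem_left _ _ (Ideal.mul_mem_right _ _ (Ideal.subset_span (Set.mem_range_self i)))
  have hB := spanFinrank_quotient_add ψ hψ (fun i => (⟨_, hv i⟩ : maximalIdeal (Ext d c))) hker
  have hli : LinearIndependent (ResidueField (Ext d c))
      (fun i => (maximalIdeal (Ext d c)).toCotangent ⟨var d c i, hv i⟩) := by
    rw [Fintype.linearIndependent_iff]
    intro g hg i
    choose a ha using fun j => residue_surjective (g j)
    have h0 : (maximalIdeal (Ext d c)).toCotangent (∑ j, a j • (⟨var d c j, hv j⟩ : maximalIdeal (Ext d c))) = 0 := by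
      rw [map_sum, ← hg]
      refine Finset.sum_congr rfl fun j _ => ?_
      rw [map_smul, ← ha j]
      exact (IsScalarTower.algebraMap_smul (ResidueField (Ext d c)) (a j) _).symm
    rw [Ideal.toCotangent_eq_zero, AddSubmonoidClass.coe_finset_sum] at h0
    simp only [Submodule.coe_smul, smul_eq_mul] at h0
    -- the first order neighbourhood of the origin
    let K := ResidueField A
    let T := TrivSqZeroExt K (Fin r → K)
    let t : Fin r → T := fun j => TrivSqZeroExt.inr (Pi.single j 1)
    have ht : ∀ j, t j ^ d j + (Finset.range (d j)).sum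
        (fun k => ((TrivSqZeroExt.inlHom K (Fin r → K)).comp (residue A)) (c j k) * t j ^ k) = 0 := fun j => by
      obtain ⟨e, he⟩ : ∃ e, d j = e + 2 := ⟨d j - 2, (Nat.sub_add_cancel (hd j)).symm⟩
      have h2 : t j ^ (e + 2) = 0 := by
        rw [pow_add, pow_two, TrivSqZeroExt.inr_mul_inr, mul_zero]
      rw [he, h2, zero_add]
      refine Finset.sum_eq_zero fun k _ => ?_
      rw [RingHom.comp_apply, (residue_eq_zero_iff _).2 (hc j k), map_zero, zero_mul]
    let χ := point d c ((TrivSqZeroExt.inlHom K (Fin r → K)).comp (residue A)) t ht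
    let N : Ideal T := RingHom.ker (TrivSqZeroExt.fstHom K K (Fin r → K)).toRingHom
    have hN : N ^ 2 = ⊥ := by
      rw [pow_two, eq_bot_iff, Ideal.mul_le]
      intro x hx y hy
      have hx0 : x.fst = 0 := hx
      have hy0 : y.fst = 0 := hy
      rw [Ideal.mem_bot]
      exact TrivSqZeroExt.ext (by rw [TrivSqZeroExt.fst_mul, hx0, zero_mul, TrivSqZeroExt.fst_zero])
        (by rw [TrivSqZeroExt.snd_mul, hx0, hy0, TrivSqZeroExt.snd_zero]; simp)
    have hmapN : (maximalIdeal (Ext d c)).map χ ≤ N := by
      rw [hmax, Ideal.map_sup, Ideal.map_map, sup_le_iff, Ideal.map_span, Ideal.span_le,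
        Ideal.map_le_iff_le_comap]
      refine ⟨fun x hx => ?_, ?_⟩
      · show (χ (algebraMap A (Ext d c) x)).fst = 0
        rw [point_algebraMap, RingHom.comp_apply, (residue_eq_zero_iff _).2 hx, map_zero,
          TrivSqZeroExt.fst_zero]
      · rintro _ ⟨_, ⟨j, rfl⟩, rfl⟩
        show (χ (var d c j)).fst = 0
        rw [point_var, TrivSqZeroExt.fst_inr]
    have h3 := Ideal.mem_map_of_mem χ h0
    rw [Ideal.map_pow] at h3
    have h4 : χ (∑ j, a j * var d c j) = 0 := by
      have := Ideal.pow_right_mono hmapN 2 h3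
      rwa [hN, Ideal.mem_bot] at this
    have hχa : ∀ b : Ext d c, (χ b).fst = 0 ↔ b ∈ maximalIdeal (Ext d c) := fun b => by
      refine ⟨fun hb => ?_, fun hb => hmapN (Ideal.mem_map_of_mem χ hb)⟩
      by_contra hn
      have := ((notMem_maximalIdeal.1 hn).map χ).map (TrivSqZeroExt.fstHom K K (Fin r → K)).toRingHom
      have h6 : IsUnit (χ b).fst := this
      rw [hb] at h6
      exact not_isUnit_zero h6
    have h5 := congrArg (fun z : T => z.snd i) h4
    simp only [map_sum, map_mul, χ, point_var, TrivSqZeroExt.snd_sum, Finset.sum_apply,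
      TrivSqZeroExt.snd_mul, t, TrivSqZeroExt.snd_inr, TrivSqZeroExt.fst_inr, TrivSqZeroExt.snd_zero,
      Pi.zero_apply, Pi.add_apply, MulOpposite.op_zero, zero_smul, add_zero] at h5
    rw [Finset.sum_eq_single i (fun j _ hj => by simp [Pi.single_eq_of_ne hj.symm])
      (fun h => absurd (Finset.mem_univ i) h)] at h5
    simp only [Pi.smul_apply, Pi.single_eq_same, smul_eq_mul, mul_one] at h5
    rw [← ha i, residue_eq_zero_iff]
    exact (hχa _).1 h5
  rw [finrank_span_eq_card hli, Fintype.card_fin] at hB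
  omega

theorem isRegularRing_iff [IsRegularLocalRing A] (hd : ∀ i, 2 ≤ d i)
    (hc : ∀ i k, c i k ∈ maximalIdeal A) :
    IsRegularRing (Ext d c) ↔
      LinearIndependent (ResidueField A) (fun i => (maximalIdeal A).toCotangent ⟨c i 0, hc i 0⟩) := by
  haveI := isIntegral d c
  have hd0 : ∀ i, 0 < d i := fun i => zero_lt_two.trans_le (hd i)
  obtain ⟨_, _⟩ := isLocalRing_and d c hd0 hc
  haveI : IsDomain A := Groth.Agent.CAlgReg.isDomain (R := A)
  haveI : FaithfulSMul A (Ext d c) :=
    (faithfulSMul_iff_algebraMap_injective A (Ext d c)).2 (injective_algebraMap d c hd0)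
  have hdim := Groth.Agent.DimTheory.ringKrullDim_eq_of_integral A (Ext d c)
  have hA := (isRegularLocalRing_iff A).1 ‹_›
  have hsum := spanFinrank_add d c hd hc
  rw [linearIndependent_iff_card_eq_finrank_span, Fintype.card_fin, Set.finrank]
  constructor
  · intro h
    haveI : IsLocalization.AtPrime (Ext d c) (maximalIdeal (Ext d c)) := IsLocalization.self fun x hx =>
      notMem_maximalIdeal.1 hx
    haveI : IsRegularLocalRing (Ext d c) := IsRegularLocalRing.of_ringEquiv
      (R := Localization.AtPrime (maximalIdeal (Ext d c)))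
      (IsLocalization.algEquiv (maximalIdeal (Ext d c)).primeCompl
        (Localization.AtPrime (maximalIdeal (Ext d c))) (Ext d c)).toRingEquiv
    have h1 := (isRegularLocalRing_iff (Ext d c)).1 inferInstance
    rw [hdim, ← hA] at h1
    have h2 : (maximalIdeal (Ext d c)).spanFinrank = (maximalIdeal A).spanFinrank := by exact_mod_cast h1
    omega
  · intro h
    haveI : IsRegularLocalRing (Ext d c) := (isRegularLocalRing_iff _).2 (by
      rw [hdim, ← hA]
      have : (maximalIdeal (Ext d c)).spanFinrank = (maximalIdeal A).spanFinrank := by omega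
      exact_mod_cast this)
    exact Groth.Agent.RegLocus.isRegularRing_of_regular_local _

end Cotangent

end Groth.Agent.SymGr.Distinguished
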