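import Groth.Agent.SymGr.Field
import Groth.Agent.PBasis.Field
import Mathlib

/-! Differentials relative to a decreasing family of subfields. -/

set_option autoImplicit false

namespace Groth.Agent.SymGr

universe u

open TensorProduct IsLocalRing EGA41

/-- Linear independence over an intersection descends to a member of the family. -/
theorem exists_independent_member {k : Type u} [Field k] {ι : Type u} [Preorder ι]
    [IsDirected ι (fun a b => a ≤ b)] [Nonempty ι] (F : ι → Subfield k) (hanti : Antitone F)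
    {κ : Type u} [DecidableEq κ] (v : κ → k) (s : Finset κ)
    (h : ∀ c : κ → k, (∀ α, ∀ i ∈ s, c i ∈ F α) → ∑ i ∈ s, c i * v i = 0 → ∀ i ∈ s, c i = 0) :
    ∃ α, ∀ c : κ → k, (∀ i ∈ s, c i ∈ F α) → ∑ i ∈ s, c i * v i = 0 → ∀ i ∈ s, c i = 0 := by
  classical
  induction s using Finset.induction_on with
  | empty => exact ⟨Classical.arbitrary ι, fun c _ _ i hi => absurd hi (Finset.notMem_empty i)⟩
  | insert a s ha ih =>
    obtain ⟨α₀, h₀⟩ := ih (fun c hc hsum i hi => by
      have := h (Function.update c a 0) (fun α j hj => by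
        by_cases hja : j = a
        · subst hja; simp
        · rw [Function.update_of_ne hja]; exact hc α j (by simpa [hja] using hj)) (by
        rw [Finset.sum_insert ha, Function.update_self, zero_mul, zero_add]
        refine (Finset.sum_congr rfl fun j hj => ?_).trans hsum
        rw [Function.update_of_ne (ne_of_mem_of_not_mem hj ha)]) i (Finset.mem_insert_of_mem hi)
      rwa [Function.update_of_ne (ne_of_mem_of_not_mem hi ha)] at this)
    by_contra hcon
    push Not at hcon
    have key : ∀ α, α₀ ≤ α → ∃ d : κ → k, (∀ i ∈ s, d i ∈ F α) ∧ ∑ i ∈ s, d i * v i = v a := by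
      intro α hα
      obtain ⟨c, hc, hsum, i, hi, hne⟩ := hcon α
      have hca : c a ≠ 0 := fun h0 => by
        rw [Finset.sum_insert ha, h0, zero_mul, zero_add] at hsum
        have h1 := h₀ c (fun j hj => hanti hα (hc j (Finset.mem_insert_of_mem hj))) hsum
        rcases Finset.mem_insert.1 hi with rfl | hi'
        · exact hne h0
        · exact hne (h1 i hi')
      refine ⟨fun j => -(c j) / c a, fun j hj => div_mem (neg_mem (hc j (Finset.mem_insert_of_mem hj)))
        (hc a (Finset.mem_insert_self a s)), ?_⟩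
      rw [Finset.sum_insert ha] at hsum
      have h2 : ∑ j ∈ s, c j * v j = -(c a * v a) := by linear_combination hsum
      calc ∑ j ∈ s, -(c j) / c a * v j = -(∑ j ∈ s, c j * v j) / c a := by
            rw [← Finset.sum_neg_distrib, Finset.sum_div]
            exact Finset.sum_congr rfl fun j _ => by ring
        _ = v a := by rw [h2]; field_simp
    obtain ⟨d, hd, hdsum⟩ := key α₀ le_rfl
    have hall : ∀ α, ∀ i ∈ s, d i ∈ F α := by
      intro α i hi
      obtain ⟨β, hβ, hβ₀⟩ := directed_of (fun a b => a ≤ b) α α₀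
      obtain ⟨e, he, hesum⟩ := key β hβ₀
      have h1 := h₀ (fun j => e j - d j) (fun j hj => sub_mem (hanti hβ₀ (he j hj)) (hd j hj))
        (by simp [sub_mul, Finset.sum_sub_distrib, hesum, hdsum]) i hi
      rw [sub_eq_zero] at h1
      exact h1 ▸ hanti hβ (he i hi)
    have := h (Function.update d a (-1)) (fun α j hj => by
      by_cases hja : j = a
      · subst hja; rw [Function.update_self]; exact neg_mem (one_mem _)
      · rw [Function.update_of_ne hja]; exact hall α j (by simpa [hja] using hj)) (by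
      rw [Finset.sum_insert ha, Function.update_self, Finset.sum_congr rfl (fun j hj => by
        rw [Function.update_of_ne (ne_of_mem_of_not_mem hj ha)]), hdsum]
      ring) a (Finset.mem_insert_self a s)
    simp at this

/-- Injectivity relative to large members of the family gives injectivity absolutely. -/
theorem injective_of_eventually_injective {k A : Type u} [Field k] (p : ℕ) [Fact p.Prime] [CharP k p]
    [CommRing A] [Algebra k A] (m : Ideal A) [m.IsMaximal]
    {ι : Type u} [Preorder ι] [IsDirected ι (fun a b => a ≤ b)] [Nonempty ι] (kα : ι → Subfield k)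
    (hanti : Antitone kα)
    (hint : ⨅ α, (kα α ⊔ (frobenius k p).fieldRange) = (frobenius k p).fieldRange)
    (α₀ : ι) (H : ∀ α, α₀ ≤ α →
      Function.Injective ((KaehlerDifferential.mapBaseChange (kα α) k A).lTensor (A ⧸ m))) :
    Function.Injective ((KaehlerDifferential.mapBaseChange ℤ k A).lTensor (A ⧸ m)) := by
  classical
  obtain ⟨Λ, _, _, _, _⟩ := exists_prime_field k
  letI : Field (A ⧸ m) := Ideal.Quotient.field _
  obtain ⟨S, hS⟩ := Groth.Agent.PBasis.exists_pBasis p Λ k
  let b₀ : Module.Basis S k (Ω[k⁄Λ]) :=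
    Module.Basis.mk ((Groth.Agent.PBasis.isPIndependent_iff_linearIndependent _).1 hS.1)
      ((Groth.Agent.PBasis.isPGenerating_iff_span _).1 hS.2).ge
  let eq₀ := LinearEquiv.ofBijective _ (map_bijective Λ k)
  let b : Module.Basis S k (Ω[k⁄ℤ]) := b₀.map eq₀.symm
  have hb : ∀ s, b s = KaehlerDifferential.D ℤ k (s : k) := fun s => by
    refine eq₀.injective ?_
    simp only [b, Module.Basis.map_apply, LinearEquiv.apply_symm_apply, b₀, Module.Basis.mk_apply]
    simp [eq₀]
  let B : Module.Basis S (A ⧸ m) ((A ⧸ m) ⊗[A] (A ⊗[k] Ω[k⁄ℤ])) :=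
    Algebra.TensorProduct.basis (A ⧸ m) (Algebra.TensorProduct.basis A b)
  rw [injective_iff_map_eq_zero]
  intro z hz
  by_contra hz0
  let T := (B.repr z).support
  -- monomials in the finitely many elements of `T`
  let Ex := {e : (↥T) →₀ ℕ // ∀ i, e i < p}
  haveI : Finite Ex := Finite.of_injective (fun e (i : ↥T) => (⟨e.1 i, e.2 i⟩ : Fin p))
    fun e e' h => Subtype.ext (Finsupp.ext fun i => congrArg Fin.val (congrFun h i))
  letI : Fintype Ex := Fintype.ofFinite _
  let x : ↥T → k := fun i => ((i : S) : k)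
  have hT : IsPIndependent p Λ x := by
    rw [Groth.Agent.PBasis.isPIndependent_iff_linearIndependent]
    exact ((Groth.Agent.PBasis.isPIndependent_iff_linearIndependent _).1 hS.1).comp _ Subtype.val_injective
  let F : ι → Subfield k := fun α => kα α ⊔ (frobenius k p).fieldRange
  have hF : Antitone F := fun a b hab => sup_le_sup_right (hanti hab) _
  have hle : ∀ c ∈ (frobenius k p).fieldRange, c ∈ pPowerSubalgebra p Λ k := by
    rintro _ ⟨y, rfl⟩
    exact Algebra.subset_adjoin ⟨y, rfl⟩
  obtain ⟨α₁, hα₁⟩ := exists_independent_member F hF (fun e : Ex => pMonomial x e.1) Finset.univ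
    (fun c hc hsum i _ => by
      have hmem : ∀ j, c j ∈ pPowerSubalgebra p Λ k := fun j => hle _ (by
        rw [← hint, Subfield.mem_iInf]; exact fun α => hc α j (Finset.mem_univ j))
      exact congrArg Subtype.val (Fintype.linearIndependent_iff.1 hT (fun j => ⟨c j, hmem j⟩)
        (by simpa [Subalgebra.smul_def] using hsum) i))
  obtain ⟨α, hα, hα₀⟩ := directed_of (fun a b => a ≤ b) α₁ α₀
  have hxα : IsPIndependent p (kα α) x := by
    rw [IsPIndependent, Fintype.linearIndependent_iff]
    intro g hg i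
    have hmem : ∀ c ∈ pPowerSubalgebra p (kα α) k, c ∈ F α := by
      intro c hc
      induction hc using Algebra.adjoin_induction with
      | mem y hy =>
        obtain ⟨w, rfl⟩ := hy
        exact (le_sup_right : _ ≤ F α) ⟨w, rfl⟩
      | algebraMap r => exact (le_sup_left : _ ≤ F α) r.2
      | add _ _ _ _ h1 h2 => exact add_mem h1 h2
      | mul _ _ _ _ h1 h2 => exact mul_mem h1 h2
    refine Subtype.ext ?_
    exact hα₁ (fun j => (g j : k)) (fun j _ => hF hα (hmem _ (g j).2))
      (by simpa [Subalgebra.smul_def] using hg) i (Finset.mem_univ i)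
  have hli : LinearIndependent k (fun i => KaehlerDifferential.D (kα α) k (x i)) :=
    (Groth.Agent.PBasis.isPIndependent_iff_linearIndependent x).1 hxα
  -- push to the differentials over `kα`
  let q : A ⊗[k] Ω[k⁄ℤ] →ₗ[A] A ⊗[k] Ω[k⁄(kα α)] := (KaehlerDifferential.map ℤ (kα α) k k).baseChange A
  let μ : (A ⧸ m) ⊗[A] (A ⊗[k] Ω[k⁄ℤ]) →ₗ[A ⧸ m] (A ⧸ m) ⊗[A] (A ⊗[k] Ω[k⁄(kα α)]) := q.baseChange (A ⧸ m)
  have hcomm : KaehlerDifferential.mapBaseChange (kα α) k A ∘ₗ q =
      KaehlerDifferential.map ℤ (kα α) A A ∘ₗ KaehlerDifferential.mapBaseChange ℤ k A := by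
    refine LinearMap.ext fun w => ?_
    induction w using TensorProduct.induction_on with
    | zero => simp
    | add v w hv hw => rw [map_add, map_add, hv, hw]
    | tmul a ω =>
      have h1 : ω ∈ Submodule.span k (Set.range (KaehlerDifferential.D ℤ k)) := by
        rw [KaehlerDifferential.span_range_derivation]; trivial
      induction h1 using Submodule.span_induction generalizing a with
      | mem w hw =>
        obtain ⟨y, rfl⟩ := hw
        simp [q, KaehlerDifferential.mapBaseChange_tmul, KaehlerDifferential.map_D]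
      | zero => simp
      | add v w _ _ hv hw => rw [TensorProduct.tmul_add, map_add, map_add, hv, hw]
      | smul c w _ hw => rw [← TensorProduct.smul_tmul]; exact hw (c • a)
  have hμz : μ z = 0 := by
    apply H α hα₀
    rw [map_zero]
    show (KaehlerDifferential.mapBaseChange (kα α) k A).lTensor (A ⧸ m) (q.lTensor (A ⧸ m) z) = 0
    rw [← LinearMap.lTensor_comp_apply, hcomm, LinearMap.lTensor_comp_apply, hz, map_zero]
  obtain ⟨t, ht⟩ : T.Nonempty := Finsupp.support_nonempty_iff.2 fun h0 => hz0 (B.repr.map_eq_zero_iff.1 h0)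
  obtain ⟨f, hf⟩ := LinearMap.exists_extend
    (Finsupp.lapply (⟨t, ht⟩ : ↥T) ∘ₗ hli.repr :
      Submodule.span k (Set.range fun i => KaehlerDifferential.D (kα α) k (x i)) →ₗ[k] k)
  have hval : ∀ i : ↥T, f (KaehlerDifferential.D (kα α) k (x i)) = Finsupp.single i (1 : k) ⟨t, ht⟩ := fun i => by
    have h1 := LinearMap.congr_fun hf ⟨_, Submodule.subset_span ⟨i, rfl⟩⟩
    simp only [LinearMap.comp_apply, Submodule.subtype_apply] at h1
    rw [h1, hli.repr_eq_single i ⟨_, Submodule.subset_span ⟨i, rfl⟩⟩ rfl]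
    rfl
  let Φ : (A ⧸ m) ⊗[A] (A ⊗[k] Ω[k⁄(kα α)]) →ₗ[A ⧸ m] (A ⧸ m) :=
    LinearMap.liftBaseChange (A ⧸ m)
      ((Algebra.linearMap A (A ⧸ m)) ∘ₗ LinearMap.liftBaseChange A ((Algebra.linearMap k A) ∘ₗ f))
  have hB : ∀ s : S, B s = (1 : A ⧸ m) ⊗ₜ[A] ((1 : A) ⊗ₜ[k] b s) := fun s => by simp [B]
  have hΦB : ∀ i : ↥T, Φ (μ (B (i : S))) = if i = ⟨t, ht⟩ then 1 else 0 := fun i => by
    have h1 : μ (B (i : S)) = (1 : A ⧸ m) ⊗ₜ[A] ((1 : A) ⊗ₜ[k] KaehlerDifferential.D (kα α) k (x i)) := by
      rw [hB, hb]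
      simp [μ, q, x]
    rw [h1]
    simp [Φ, hval, Finsupp.single_apply]
  have h2 := congrArg Φ hμz
  rw [← B.linearCombination_repr z, Finsupp.linearCombination_apply, Finsupp.sum, map_sum, map_sum,
    Finset.sum_eq_single t (fun s hs hne => ?_) (fun h => absurd ht h)] at h2
  · rw [map_smul, map_smul, hΦB ⟨t, ht⟩, if_pos rfl, map_zero, smul_eq_mul, mul_one] at h2
    exact (Finsupp.mem_support_iff.1 ht) h2
  · rw [map_smul, map_smul, hΦB ⟨s, hs⟩, if_neg (fun e => hne (congrArg Subtype.val e)), smul_zero]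

end Groth.Agent.SymGr
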