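import Groth.Prelude.Def_PP16
import Groth.Agent.PParts.Coord
import Groth.Agent.PParts.Poly
import Groth.Agent.PParts.Split
import Mathlib

/-! Bijectivity of `Sym(J/J²) → gr_J` in terms of maps `Sym(J/J²) → B/Jⁿ`. -/

set_option autoImplicit false

namespace Groth.Agent.SymGr

universe u

open MvPolynomial Groth.Agent.PParts

variable {B : Type u} [CommRing B] (J : Ideal B)

local notation "C" => B ⧸ J
local notation "V" => Ideal.Cotangent J
local notation "P" => SymmetricAlgebra (B ⧸ J) (Ideal.Cotangent J)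

/-- The augmentation ideal of `Sym(J/J²)`. -/
noncomputable def aug : Ideal P := RingHom.ker (SymmetricAlgebra.algebraMapInv : P →ₐ[C] C)

theorem aug_eq_span : aug J = Ideal.span (Set.range (SymmetricAlgebra.ι C V)) :=
  ker_lift_zero C V

theorem ι_mem_aug (v : V) : SymmetricAlgebra.ι C V v ∈ aug J :=
  SymmetricAlgebra.algebraMapInv_ι v

theorem sub_algebraMapInv_mem (x : P) :
    x - algebraMap C P (SymmetricAlgebra.algebraMapInv x) ∈ aug J := by
  rw [aug, RingHom.mem_ker, map_sub, SymmetricAlgebra.algebraMap_leftInverse, sub_self]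

/-- `x` in the augmentation ideal is linear modulo its square. -/
theorem exists_ι_sub_mem {x : P} (hx : x ∈ aug J) :
    ∃ v : V, x - SymmetricAlgebra.ι C V v ∈ aug J ^ 2 := by
  rw [aug_eq_span, Ideal.span] at hx
  induction hx using Submodule.span_induction with
  | mem x hx => obtain ⟨v, rfl⟩ := hx; exact ⟨v, by simp⟩
  | zero => exact ⟨0, by simp⟩
  | add x y _ _ hx hy =>
    obtain ⟨v, hv⟩ := hx
    obtain ⟨w, hw⟩ := hy
    exact ⟨v + w, by rw [map_add, add_sub_add_comm]; exact add_mem hv hw⟩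
  | smul p x hx' hx =>
    obtain ⟨v, hv⟩ := hx
    refine ⟨SymmetricAlgebra.algebraMapInv p • v, ?_⟩
    rw [map_smul, smul_eq_mul, Algebra.smul_def, show p * x - algebraMap C P _ * SymmetricAlgebra.ι C V v =
      p * (x - SymmetricAlgebra.ι C V v) +
        (p - algebraMap C P (SymmetricAlgebra.algebraMapInv p)) * SymmetricAlgebra.ι C V v by ring]
    refine add_mem (Ideal.mul_mem_left _ _ hv) ?_
    rw [sq]
    exact Ideal.mul_mem_mul (sub_algebraMapInv_mem J p) (ι_mem_aug J v)

/-- A map to `B/Jⁿ` realising the identity in degrees `0` and `1`. -/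
structure IsLift (n : ℕ) (hn : n ≠ 0) (α : P →+* B ⧸ J ^ n) : Prop where
  deg0 : ∀ x, Ideal.Quotient.factor (Ideal.pow_le_self hn) (α x) = SymmetricAlgebra.algebraMapInv x
  deg1 : ∀ j : J, α (SymmetricAlgebra.ι C V (J.toCotangent j)) - Ideal.Quotient.mk _ (j : B) ∈
    (J ^ 2).map (Ideal.Quotient.mk (J ^ n))

variable {J}

namespace IsLift


theorem map_aug {n : ℕ} {hn : n ≠ 0} {α : P →+* B ⧸ J ^ n}
    (h : IsLift J n hn α) {x : P} (hx : x ∈ aug J) :
    α x ∈ J.map (Ideal.Quotient.mk (J ^ n)) := by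
  have h0 := h.deg0 x
  rw [show SymmetricAlgebra.algebraMapInv x = 0 from hx] at h0
  obtain ⟨y, hy⟩ := Ideal.Quotient.mk_surjective (α x)
  rw [← hy, Ideal.Quotient.factor_mk, Ideal.Quotient.eq_zero_iff_mem] at h0
  rw [← hy]
  exact Ideal.mem_map_of_mem _ h0

theorem map_aug_pow {n : ℕ} {hn : n ≠ 0} {α : P →+* B ⧸ J ^ n}
    (h : IsLift J n hn α) {k : ℕ} {x : P} (hx : x ∈ aug J ^ k) :
    α x ∈ (J ^ k).map (Ideal.Quotient.mk (J ^ n)) := by
  have h1 : (aug J).map α ≤ J.map (Ideal.Quotient.mk (J ^ n)) :=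
    Ideal.map_le_iff_le_comap.2 fun x hx => h.map_aug hx
  have h2 := Ideal.mem_map_of_mem α hx
  rw [Ideal.map_pow] at h2 ⊢
  exact Ideal.pow_right_mono h1 k h2

theorem eq_zero_of_mem_pow {n : ℕ} {hn : n ≠ 0} {α : P →+* B ⧸ J ^ n}
    (h : IsLift J n hn α) {x : P} (hx : x ∈ aug J ^ n) : α x = 0 := by
  simpa [Ideal.map_quotient_self] using h.map_aug_pow hx

/-- The composite with a quotient map is again such a map. -/
theorem factor {n : ℕ} {hn : n ≠ 0} {α : P →+* B ⧸ J ^ n}
    (h : IsLift J n hn α) {k : ℕ} (hk : k ≠ 0) (hkn : k ≤ n) :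
    IsLift J k hk ((Ideal.Quotient.factor (Ideal.pow_le_pow_right hkn)).comp α) := by
  refine ⟨fun x => ?_, fun j => ?_⟩
  · obtain ⟨y, hy⟩ := Ideal.Quotient.mk_surjective (α x)
    rw [RingHom.comp_apply, ← h.deg0 x, ← hy]
    simp
  · have h1 := Ideal.mem_map_of_mem (Ideal.Quotient.factor (Ideal.pow_le_pow_right hkn (I := J))) (h.deg1 j)
    rw [Ideal.map_map, Ideal.Quotient.factor_comp_mk, map_sub, Ideal.Quotient.factor_mk] at h1
    exact h1

theorem surjective {n : ℕ} {hn : n ≠ 0} {α : P →+* B ⧸ J ^ n}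
    (h : IsLift J n hn α) : Function.Surjective α := by
  have key : ∀ k, ∀ b : B, ∃ x, α x - Ideal.Quotient.mk _ b ∈ (J ^ k).map (Ideal.Quotient.mk (J ^ n)) := by
    intro k
    induction k with
    | zero => exact fun b => ⟨0, by simp [Ideal.map_top]⟩
    | succ k ih =>
      intro b
      obtain ⟨x, hx⟩ := ih b
      suffices hs : ∀ z ∈ (J ^ k).map (Ideal.Quotient.mk (J ^ n)),
          ∃ y, α y - z ∈ (J ^ (k + 1)).map (Ideal.Quotient.mk (J ^ n)) by
        obtain ⟨y, hy⟩ := hs _ hx
        exact ⟨x - y, by rw [map_sub, show α x - α y - Ideal.Quotient.mk _ b =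
          -(α y - (α x - Ideal.Quotient.mk _ b)) by ring]; exact neg_mem hy⟩
      intro z hz
      obtain ⟨c, hc, rfl⟩ := (Ideal.mem_map_iff_of_surjective _ Ideal.Quotient.mk_surjective).1 hz
      clear hz hx x b ih
      induction k generalizing c with
      | zero =>
        refine ⟨algebraMap C P (Ideal.Quotient.mk J c), ?_⟩
        have h0 := h.deg0 (algebraMap C P (Ideal.Quotient.mk J c))
        rw [SymmetricAlgebra.algebraMap_leftInverse] at h0
        obtain ⟨y, hy⟩ := Ideal.Quotient.mk_surjective (α (algebraMap C P (Ideal.Quotient.mk J c)))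
        rw [← hy, Ideal.Quotient.factor_mk, Ideal.Quotient.eq] at h0
        rw [← hy, ← map_sub, zero_add, pow_one]
        exact Ideal.mem_map_of_mem _ h0
      | succ k ih =>
        rw [pow_succ'] at hc
        refine Submodule.mul_induction_on hc (fun j hj d hd => ?_) fun c d hc hd => ?_
        · obtain ⟨y, hy⟩ := ih d hd
          refine ⟨SymmetricAlgebra.ι C V (J.toCotangent ⟨j, hj⟩) * y, ?_⟩
          rw [map_mul, map_mul, show ∀ a e f g : B ⧸ J ^ n, a * e - f * g = (a - f) * e + f * (e - g) from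
            fun a e f g => by ring]
          refine add_mem ?_ ?_
          · rw [show k + 1 + 1 = 2 + k by omega, pow_add, Ideal.map_mul]
            refine Ideal.mul_mem_mul (h.deg1 _) ?_
            have := add_mem (Ideal.map_mono (Ideal.pow_le_pow_right (Nat.le_succ k)) hy)
              (Ideal.mem_map_of_mem (Ideal.Quotient.mk (J ^ n)) hd)
            rwa [sub_add_cancel] at this
          · rw [pow_succ', Ideal.map_mul]
            exact Ideal.mul_mem_mul (Ideal.mem_map_of_mem _ hj) hy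
        · obtain ⟨x, hx⟩ := hc
          obtain ⟨y, hy⟩ := hd
          exact ⟨x + y, by rw [map_add, map_add, add_sub_add_comm]; exact add_mem hx hy⟩
  intro z
  obtain ⟨b, rfl⟩ := Ideal.Quotient.mk_surjective z
  obtain ⟨x, hx⟩ := key n b
  refine ⟨x, ?_⟩
  rwa [Ideal.map_quotient_self, Ideal.mem_bot, sub_eq_zero] at hx

/-- Degree one: no kernel modulo `J²`. -/
theorem ker_le_sq {α : P →+* B ⧸ J ^ 2} (h : IsLift J 2 two_ne_zero α) : RingHom.ker α ≤ aug J ^ 2 := by
  intro x hx
  rw [RingHom.mem_ker] at hx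
  have h1 : x ∈ aug J := by
    rw [aug, RingHom.mem_ker, ← h.deg0, hx, map_zero]
  obtain ⟨v, hv⟩ := exists_ι_sub_mem J h1
  obtain ⟨j, rfl⟩ := J.toCotangent_surjective v
  have h2 := h.eq_zero_of_mem_pow hv
  rw [map_sub, hx, zero_sub, neg_eq_zero] at h2
  have h3 := h.deg1 j
  rw [Ideal.map_quotient_self, Ideal.mem_bot, h2, zero_sub, neg_eq_zero,
    Ideal.Quotient.eq_zero_iff_mem] at h3
  have h4 : J.toCotangent j = 0 := (Ideal.toCotangent_eq_zero J j).2 h3
  simpa [h4] using hv

end IsLift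

variable (κ : Type u) [Fintype κ]

/-- The product map `Sym^κ(J/J²) → Sym(J/J²)`. -/
noncomputable def gP : SymmetricPower B κ V →ₗ[B] P :=
  symLift ((MultilinearMap.mkPiAlgebra B κ P).compLinearMap
    fun _ => (SymmetricAlgebra.ι C V).restrictScalars B) fun e x => by
    simp only [MultilinearMap.compLinearMap_apply, MultilinearMap.mkPiAlgebra_apply]
    exact Equiv.prod_comp e fun j => (SymmetricAlgebra.ι C V).restrictScalars B (x j)

theorem gP_tprod (x : κ → V) : gP κ (SymmetricPower.tprod B x) = ∏ i, SymmetricAlgebra.ι C V (x i) := by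
  simp [gP, MultilinearMap.compLinearMap_apply]

theorem gP_mem (y : SymmetricPower B κ V) : gP κ y ∈ aug J ^ Fintype.card κ := by
  have h : y ∈ Submodule.span B (Set.range (SymmetricPower.tprod B (ι := κ) (M := V))) := by
    rw [SymmetricPower.span_tprod_eq_top]; trivial
  induction h using Submodule.span_induction with
  | mem x hx =>
    obtain ⟨x, rfl⟩ := hx
    rw [gP_tprod]
    exact PP16.prod_mem_pow (aug J) Finset.univ _ fun i _ => ι_mem_aug J (x i)
  | zero => simp
  | add x y _ _ hx hy => rw [map_add]; exact add_mem hx hy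
  | smul b x _ hx => rw [map_smul, Algebra.smul_def]; exact Ideal.mul_mem_left _ _ hx

theorem exists_gP_sub_mem {x : P} (hx : x ∈ aug J ^ Fintype.card κ) :
    ∃ y, x - gP κ y ∈ aug J ^ (Fintype.card κ + 1) := by
  rw [aug_eq_span, Ideal.span, Submodule.span_pow] at hx
  induction hx using Submodule.span_induction with
  | mem x hx =>
    obtain ⟨f, rfl⟩ := Set.mem_pow.1 hx
    choose v hv using fun i => (f i).2
    refine ⟨SymmetricPower.tprod B fun j => v (Fintype.equivFin κ j), ?_⟩
    rw [gP_tprod, List.prod_ofFn, ← (Fintype.equivFin κ).prod_comp]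
    simp [hv]
  | zero => exact ⟨0, by simp⟩
  | add x y _ _ hx hy =>
    obtain ⟨a, ha⟩ := hx
    obtain ⟨b, hb⟩ := hy
    exact ⟨a + b, by rw [map_add, add_sub_add_comm]; exact add_mem ha hb⟩
  | smul p x hx' hx =>
    obtain ⟨y, hy⟩ := hx
    have hxm : x ∈ aug J ^ Fintype.card κ := by
      rw [aug_eq_span, Ideal.span, Submodule.span_pow]; exact hx'
    obtain ⟨b, hb⟩ := Ideal.Quotient.mk_surjective (SymmetricAlgebra.algebraMapInv p : C)
    refine ⟨b • y, ?_⟩
    rw [map_smul, smul_eq_mul, Algebra.smul_def, IsScalarTower.algebraMap_apply B C P,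
      Ideal.Quotient.algebraMap_eq, hb, show p * x - algebraMap C P _ * gP κ y =
        (p - algebraMap C P (SymmetricAlgebra.algebraMapInv p)) * x +
          algebraMap C P (SymmetricAlgebra.algebraMapInv p) * (x - gP κ y) by ring]
    refine add_mem ?_ (Ideal.mul_mem_left _ _ hy)
    rw [pow_succ']
    exact Ideal.mul_mem_mul (sub_algebraMapInv_mem J p) hxm

end Groth.Agent.SymGr
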