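import Groth.Agent.SymGr.ImperfBound
import Mathlib

/-! Derivations separating the differentials of a prime. -/

set_option autoImplicit false

namespace Groth.Agent.SymGr

universe u

open TensorProduct IsLocalRing EGA41

/-- A linear map not decreasing the dimension of a subspace is injective on it. -/
theorem eq_zero_of_finrank_le_finrank_map {K V V' : Type*} [Field K] [AddCommGroup V] [Module K V]
    [AddCommGroup V'] [Module K V'] (Φ : V →ₗ[K] V') (W : Submodule K V) [Module.Finite K W]
    (h : Module.finrank K W ≤ Module.finrank K (W.map Φ)) {x : V} (hx : x ∈ W) (hx0 : Φ x = 0) : x = 0 := by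
  have h1 := LinearMap.finrank_range_add_finrank_ker (Φ.domRestrict W)
  rw [LinearMap.range_domRestrict] at h1
  have h2 : LinearMap.ker (Φ.domRestrict W) = ⊥ := Submodule.finrank_eq_zero.1 (by omega)
  exact congrArg Subtype.val ((Submodule.eq_bot_iff _).1 h2 ⟨x, hx⟩ hx0)

/-- Derivations into the residue field extend to the local ring at a prime. -/
theorem exists_derivation_atPrime {k A : Type u} [CommRing k] [CommRing A] [Algebra k A] (P : Ideal A) [P.IsPrime]
    (D : Derivation k A A) :
    ∃ D' : Derivation k (Localization.AtPrime P) (ResidueField (Localization.AtPrime P)),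
      ∀ a, D' (algebraMap A _ a) = algebraMap A (ResidueField (Localization.AtPrime P)) (D a) := by
  classical
  let S := Localization.AtPrime P
  let e := KaehlerDifferential.map k k A S
  have : IsLocalizedModule P.primeCompl e := inferInstance
  have hb : IsBaseChange S e := IsLocalizedModule.isBaseChange P.primeCompl S e
  let l : Ω[A⁄k] →ₗ[A] ResidueField S :=
    (Algebra.linearMap A (ResidueField S)) ∘ₗ D.liftKaehlerDifferential
  refine ⟨(hb.lift l).compDer (KaehlerDifferential.D k S), fun a => ?_⟩
  show hb.lift l (KaehlerDifferential.D k S (algebraMap A S a)) = _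
  rw [show KaehlerDifferential.D k S (algebraMap A S a) = e (KaehlerDifferential.D k A a) from
    (KaehlerDifferential.map_D k k A S a).symm, hb.lift_eq]
  simp only [l, LinearMap.comp_apply, Derivation.liftKaehlerDifferential_comp_D]
  rfl

/-- The relations of derivations on a prime, at its residue field. -/
noncomputable def annRelations {k A : Type u} [CommRing k] [CommRing A] [Algebra k A] (P : Ideal A) [P.IsPrime]
    {M : ℕ} (D : Fin M → Derivation k A A) :
    Submodule (ResidueField (Localization.AtPrime P)) (Fin M → ResidueField (Localization.AtPrime P)) where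
  carrier := {c | ∀ a ∈ P, ∑ j, c j * algebraMap A _ (D j a) = 0}
  zero_mem' := fun a _ => by simp
  add_mem' := fun hc hd a ha => by
    simp only [Pi.add_apply, add_mul, Finset.sum_add_distrib, hc a ha, hd a ha, add_zero]
  smul_mem' := fun r c hc a ha => by
    simp only [Pi.smul_apply, smul_eq_mul, mul_assoc, ← Finset.mul_sum, hc a ha, mul_zero]

/-- Enough derivations separate the differentials of elements of a prime. -/
theorem exists_det_of_annRelations {k A : Type u} [Field k] [CommRing A] [IsNoetherianRing A] [Algebra k A]
    (P : Ideal A) [P.IsPrime]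
    (hS : CAlgX.IsAdicFormallySmooth k (Localization.AtPrime P) (maximalIdeal (Localization.AtPrime P)))
    {M : ℕ} (D : Fin M → Derivation k A A)
    (hD : Module.finrank (ResidueField (Localization.AtPrime P)) (annRelations P D) +
      Module.finrank (ResidueField (Localization.AtPrime P)) (CotangentSpace (Localization.AtPrime P)) ≤
        M + imperfRank k (ResidueField (Localization.AtPrime P)))
    {m : ℕ} (f : Fin m → A) (hf : ∀ i, f i ∈ P)
    (hli : LinearIndependent (ResidueField (Localization.AtPrime P)) fun i =>
      (1 : ResidueField (Localization.AtPrime P)) ⊗ₜ[Localization.AtPrime P]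
        KaehlerDifferential.D k (Localization.AtPrime P) (algebraMap A _ (f i))) :
    ∃ D' : Fin m → Derivation k A A, Matrix.det (Matrix.of fun i j => D' i (f j)) ∉ P := by
  classical
  obtain ⟨hfin, g, hg, hrank⟩ := exists_cotangent_rank hS
  choose Δ hΔ using fun j => exists_derivation_atPrime P (D j)
  let Φ : (ResidueField (Localization.AtPrime P)) ⊗[(Localization.AtPrime P)] Ω[(Localization.AtPrime P)⁄k] →ₗ[(ResidueField (Localization.AtPrime P))] (Fin M → (ResidueField (Localization.AtPrime P))) :=
    LinearMap.pi fun j => LinearMap.liftBaseChange (ResidueField (Localization.AtPrime P)) (Δ j).liftKaehlerDifferential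
  have hΦ : ∀ a j, Φ (1 ⊗ₜ KaehlerDifferential.D k (Localization.AtPrime P) (algebraMap A (Localization.AtPrime P) a)) j = algebraMap A (ResidueField (Localization.AtPrime P)) (D j a) := fun a j => by
    simp [Φ, hΔ]
  let U := (LinearMap.range g).map Φ
  let T : (Fin M → (ResidueField (Localization.AtPrime P))) →ₗ[(ResidueField (Localization.AtPrime P))] Module.Dual (ResidueField (Localization.AtPrime P)) U :=
    { toFun := fun c => (Fintype.linearCombination (ResidueField (Localization.AtPrime P)) c).comp U.subtype
      map_add' := fun v w => LinearMap.ext fun x => by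
        simp [Fintype.linearCombination_apply, mul_add, Finset.sum_add_distrib]
      map_smul' := fun r v => LinearMap.ext fun x => by
        simp [Fintype.linearCombination_apply, Finset.mul_sum, mul_left_comm] }
  have hm : ∀ a ∈ P, algebraMap A (Localization.AtPrime P) a ∈ maximalIdeal (Localization.AtPrime P) := fun a ha => by
    rwa [IsLocalization.AtPrime.to_map_mem_maximal_iff (Localization.AtPrime P) P]
  have hmem : ∀ a, ∀ ha : a ∈ P, (1 : (ResidueField (Localization.AtPrime P))) ⊗ₜ[(Localization.AtPrime P)] KaehlerDifferential.D k (Localization.AtPrime P) (algebraMap A (Localization.AtPrime P) a) ∈ LinearMap.range g :=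
    fun a ha => ⟨(maximalIdeal (Localization.AtPrime P)).toCotangent ⟨algebraMap A (Localization.AtPrime P) a, hm a ha⟩, hg _⟩
  have hker : LinearMap.ker T ≤ annRelations P D := fun c hc a ha => by
    have h1 := LinearMap.congr_fun (LinearMap.mem_ker.1 hc)
      ⟨Φ (1 ⊗ₜ KaehlerDifferential.D k (Localization.AtPrime P) (algebraMap A (Localization.AtPrime P) a)), Submodule.mem_map_of_mem (hmem a ha)⟩
    simp only [T, LinearMap.coe_mk, AddHom.coe_mk, LinearMap.comp_apply, Submodule.coe_subtype,
      Fintype.linearCombination_apply, LinearMap.zero_apply, smul_eq_mul, hΦ] at h1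
    rw [← h1]
    exact Finset.sum_congr rfl fun j _ => mul_comm _ _
  have h1 := Submodule.finrank_mono hker
  have h2 := LinearMap.finrank_range_add_finrank_ker T
  have h3 : Module.finrank (ResidueField (Localization.AtPrime P)) (LinearMap.range T) ≤ Module.finrank (ResidueField (Localization.AtPrime P)) U :=
    (Submodule.finrank_le _).trans_eq Subspace.dual_finrank_eq
  rw [Module.finrank_fintype_fun_eq_card, Fintype.card_fin] at h2
  have h4 : Module.finrank (ResidueField (Localization.AtPrime P)) (LinearMap.range g) ≤
      Module.finrank (ResidueField (Localization.AtPrime P)) U := by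
    omega
  have hinj : ∀ x ∈ LinearMap.range g, Φ x = 0 → x = 0 := fun x hx hx0 =>
    eq_zero_of_finrank_le_finrank_map Φ (LinearMap.range g) h4 hx hx0
  let v : Fin m → Fin M → (ResidueField (Localization.AtPrime P)) := fun i j => algebraMap A (ResidueField (Localization.AtPrime P)) (D j (f i))
  have hv : LinearIndependent (ResidueField (Localization.AtPrime P)) v := by
    rw [Fintype.linearIndependent_iff]
    intro r hr
    refine Fintype.linearIndependent_iff.1 hli r ?_
    refine hinj _ (Submodule.sum_mem _ fun i _ => Submodule.smul_mem _ _ (hmem (f i) (hf i))) ?_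
    rw [map_sum, ← hr]
    refine Finset.sum_congr rfl fun i _ => ?_
    rw [map_smul]
    congr 1
    exact funext fun j => hΦ (f i) j
  obtain ⟨w, hw⟩ := (Fintype.linearCombination (ResidueField (Localization.AtPrime P)) v).exists_leftInverse_of_injective
    (LinearMap.ker_eq_bot.2 ((injective_iff_map_eq_zero _).2 fun r hr =>
      funext (Fintype.linearIndependent_iff.1 hv r (by simpa [Fintype.linearCombination_apply] using hr))))
  let c : Fin m → Fin M → (ResidueField (Localization.AtPrime P)) := fun i j => w (Pi.single j 1) i
  have hc : ∀ i l, ∑ j, c i j * v l j = if i = l then 1 else 0 := fun i l => by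
    have h7 := congrFun (LinearMap.congr_fun hw (Pi.single l 1)) i
    rw [LinearMap.comp_apply, Fintype.linearCombination_apply_single, one_smul, LinearMap.id_apply,
      Pi.single_apply] at h7
    rw [← h7]
    conv_rhs => rw [pi_eq_sum_univ' (v l), map_sum, Finset.sum_apply]
    refine Finset.sum_congr rfl fun j _ => ?_
    simp [c, mul_comm]
  obtain ⟨⟨b, hb⟩, hbc⟩ := IsLocalization.exist_integer_multiples_of_finite (nonZeroDivisors (A ⧸ P))
    fun ij : Fin m × Fin M => c ij.1 ij.2
  choose e he using hbc
  choose a ha using fun ij => Ideal.Quotient.mk_surjective (e ij)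
  refine ⟨fun i => ∑ j, a (i, j) • D j, fun hmemP => ?_⟩
  have hres : ∀ i l, algebraMap A (ResidueField (Localization.AtPrime P)) ((∑ j, a (i, j) • D j) (f l)) =
      algebraMap (A ⧸ P) (ResidueField (Localization.AtPrime P)) b * (if i = l then 1 else 0) := fun i l => by
    rw [← hc, Finset.mul_sum, show (∑ j, a (i, j) • D j) (f l) = ∑ j, a (i, j) * D j (f l) from by
      rw [← Derivation.coeFnAddMonoidHom_apply, map_sum, Finset.sum_apply]; rfl, map_sum]
    refine Finset.sum_congr rfl fun j _ => ?_
    rw [map_mul, IsScalarTower.algebraMap_apply A (A ⧸ P) (ResidueField (Localization.AtPrime P)) (a (i, j)), Ideal.Quotient.algebraMap_eq, ha, he,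
      Algebra.smul_def, mul_assoc]
  have h8 : (algebraMap A (ResidueField (Localization.AtPrime P))).mapMatrix (Matrix.of fun i l => (∑ j, a (i, j) • D j) (f l)) =
      algebraMap (A ⧸ P) (ResidueField (Localization.AtPrime P)) b • (1 : Matrix (Fin m) (Fin m) (ResidueField (Localization.AtPrime P))) := Matrix.ext fun i l => by
    rw [RingHom.mapMatrix_apply, Matrix.map_apply, Matrix.of_apply, hres, Matrix.smul_apply, Matrix.one_apply,
      smul_eq_mul]
  have h9 : algebraMap A (ResidueField (Localization.AtPrime P)) (Matrix.det (Matrix.of fun i l => (∑ j, a (i, j) • D j) (f l))) = 0 := by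
    rw [IsScalarTower.algebraMap_apply A (A ⧸ P) (ResidueField (Localization.AtPrime P)), Ideal.Quotient.algebraMap_eq,
      Ideal.Quotient.eq_zero_iff_mem.2 hmemP, map_zero]
  rw [RingHom.map_det, h8, Matrix.det_smul, Matrix.det_one, mul_one] at h9
  exact nonZeroDivisors.ne_zero hb ((map_eq_zero_iff _ (IsFractionRing.injective (A ⧸ P) (ResidueField (Localization.AtPrime P)))).1
    (eq_zero_of_pow_eq_zero h9))

end Groth.Agent.SymGr
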