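import Groth.Agent.SymGr.Omega
import Groth.Agent.S2469
import Mathlib

/-! Bounds on the rank of differentials at a point by imperfection modules. -/

set_option autoImplicit false

namespace Groth.Agent.SymGr

universe u

open TensorProduct IsLocalRing EGA41

/-- The rank of the imperfection module of a field extension, over the integers. -/
noncomputable def imperfRank (k L : Type u) [Field k] [Field L] [Algebra k L] : ℕ :=
  Module.finrank L (imperfection ℤ k L)

theorem finrank_imperfection_eq {k L : Type u} [Field k] [Field L] [Algebra k L] (i : Algebra ℤ L) :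
    haveI : @IsScalarTower ℤ k L _ _ i.toSMul := @IsScalarTower.of_algebraMap_eq ℤ k L _ _ _ _ _ i fun x => by simp
    Module.finrank L (@imperfection ℤ k L _ _ _ _ _ i this) = imperfRank k L := by
  obtain rfl := Subsingleton.elim i (Ring.toIntAlgebra L); rfl

theorem finite_imperfection_canonical {k L : Type u} [Field k] [Field L] [Algebra k L] (i : Algebra ℤ L) :
    haveI : @IsScalarTower ℤ k L _ _ i.toSMul := @IsScalarTower.of_algebraMap_eq ℤ k L _ _ _ _ _ i fun x => by simp
    Module.Finite L (@imperfection ℤ k L _ _ _ _ _ i this) → Module.Finite L (imperfection ℤ k L) := by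
  obtain rfl := Subsingleton.elim i (Ring.toIntAlgebra L); exact id

/-- The differentials of the maximal ideal at the closed point of an adically formally smooth algebra. -/
theorem exists_cotangent_rank {k S : Type u} [Field k] [CommRing S] [IsLocalRing S] [IsNoetherianRing S]
    [Algebra k S] (h : CAlgX.IsAdicFormallySmooth k S (maximalIdeal S)) :
    Module.Finite (ResidueField S) (imperfection ℤ k (ResidueField S)) ∧
      ∃ g : CotangentSpace S →ₗ[ResidueField S] ResidueField S ⊗[S] Ω[S⁄k],
        (∀ x : maximalIdeal S, g ((maximalIdeal S).toCotangent x) = 1 ⊗ₜ KaehlerDifferential.D k S (x : S)) ∧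
          Module.finrank (ResidueField S) (LinearMap.range g) + imperfRank k (ResidueField S) ≤
            Module.finrank (ResidueField S) (CotangentSpace S) := by
  have hs : Function.Surjective (algebraMap S (ResidueField S)) := residue_surjective
  have hJ := (injective_lTensor_iff (K := ResidueField S) hs).1 (isAdicFormallySmooth_field_iff_regular.1 h).2
  have hfin : Module.Finite (ResidueField S) (imperfection ℤ k (ResidueField S)) :=
    finite_imperfection_of_adic hs h
  obtain ⟨L, hL, hLx⟩ := exists_cotangent_map (A := S) k
  let π : ResidueField S ⊗[S] Ω[S⁄ℤ] →ₗ[ResidueField S] ResidueField S ⊗[S] Ω[S⁄k] :=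
    (KaehlerDifferential.map ℤ k S S).baseChange (ResidueField S)
  let g : CotangentSpace S →ₗ[ResidueField S] ResidueField S ⊗[S] Ω[S⁄k] := π ∘ₗ L
  refine ⟨hfin, g, fun x => ?_, ?_⟩
  · rw [LinearMap.comp_apply, hLx, LinearMap.baseChange_tmul, KaehlerDifferential.map_D]
    rfl
  have hle : (imperfection ℤ k (ResidueField S)).map (jMap k (ResidueField S) S) ≤ (LinearMap.ker g).map L := by
    rintro _ ⟨u, hu, rfl⟩
    obtain ⟨x, hx, hxu⟩ := (mem_ker_mapBaseChange hs (jMap k (ResidueField S) S u)).1
      ((mapBaseChange_jMap (A := S) u).trans hu)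
    refine ⟨(maximalIdeal S).toCotangent ⟨x, (residue_eq_zero_iff _).1 hx⟩, ?_, (hLx _).trans hxu⟩
    show π (L _) = 0
    rw [hLx, hxu]
    exact ((exact_jMap (k := k) (A := S) (ResidueField S)) _).2 ⟨u, rfl⟩
  have h1 := Submodule.finrank_mono hle
  rw [← (Submodule.equivMapOfInjective _ hJ (imperfection ℤ k (ResidueField S))).finrank_eq,
    ← (Submodule.equivMapOfInjective L hL (LinearMap.ker g)).finrank_eq] at h1
  have h2 := LinearMap.finrank_range_add_finrank_ker g
  rw [← finrank_imperfection_eq]
  omega

/-- Relations among differentials of a finite extension, in terms of imperfection modules. -/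
theorem exists_imperfection_subspace {k L' L : Type u} [Field k] [Field L'] [Field L] [Algebra k L'] [Algebra k L]
    [Algebra L' L] [IsScalarTower k L' L] [Module.Finite L' L]
    [Module.Finite L (imperfection ℤ k L)] :
    ∃ W : Submodule L (L ⊗[L'] Ω[L'⁄k]), Module.Finite L W ∧
      (∀ w ∈ W, KaehlerDifferential.mapBaseChange k L' L w = 0) ∧
      Module.finrank L Ω[L⁄L'] ≤ Module.finrank L W + imperfRank k L := by
  unfold imperfRank
  have : Algebra.EssFiniteType L' L := inferInstance
  have : Algebra.IsAlgebraic L' L := Algebra.IsAlgebraic.of_finite L' L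
  obtain ⟨-, hfin', h3⟩ := Groth.Agent.S2469.result (K := L') (L := L)
  rw [trdeg_eq_zero, map_zero, Nat.cast_zero] at h3
  let π : L ⊗[L'] Ω[L'⁄ℤ] →ₗ[L] L ⊗[L'] Ω[L'⁄k] := (KaehlerDifferential.map ℤ k L' L').baseChange L
  have := hfin'
  have hN : IsNoetherian L (imperfection ℤ L' L) := isNoetherian_of_fg_of_noetherian _ (Module.Finite.iff_fg.1 hfin')
  have hsq : ∀ z, KaehlerDifferential.mapBaseChange k L' L (π z) =
      KaehlerDifferential.map ℤ k L L (KaehlerDifferential.mapBaseChange ℤ L' L z) := fun z => by
    induction z using TensorProduct.induction_on with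
    | zero => simp
    | add x y hx hy => rw [map_add, map_add, map_add, map_add, hx, hy]
    | tmul c w =>
      rw [LinearMap.baseChange_tmul, KaehlerDifferential.mapBaseChange_tmul, KaehlerDifferential.mapBaseChange_tmul,
        map_smul]
      congr 1
      have hw : w ∈ Submodule.span L' (Set.range (KaehlerDifferential.D ℤ L')) := by
        rw [KaehlerDifferential.span_range_derivation]; trivial
      induction hw using Submodule.span_induction with
      | mem x hx =>
        obtain ⟨a, rfl⟩ := hx
        simp [KaehlerDifferential.map_D]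
      | zero => simp
      | add x y _ _ hx hy => simp only [map_add, hx, hy]
      | smul a x _ hx => simp only [map_smul, LinearMap.map_smul_of_tower, hx]
  refine ⟨(imperfection ℤ L' L).map π, inferInstance, ?_, ?_⟩
  · rintro _ ⟨z, hz, rfl⟩
    rw [hsq, show KaehlerDifferential.mapBaseChange ℤ L' L z = 0 from hz, map_zero]
  have hker : LinearMap.ker (π.domRestrict (imperfection ℤ L' L)) ≤
      ((imperfection ℤ k L).map (jMap k L L')).comap (imperfection ℤ L' L).subtype := fun z hz => by
    obtain ⟨u, hu⟩ := ((exact_jMap (k := k) (A := L') L) (z : L ⊗[L'] Ω[L'⁄ℤ])).1 hz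
    refine ⟨u, ?_, hu⟩
    show KaehlerDifferential.mapBaseChange ℤ k L u = 0
    refine (mapBaseChange_jMap (A := L') u).symm.trans ?_
    rw [hu]
    exact z.2
  have h1 : Module.finrank L (LinearMap.ker (π.domRestrict (imperfection ℤ L' L))) ≤
      Module.finrank L (imperfection ℤ k L) := by
    have e1 := Submodule.finrank_mono hker
    have e2 := Submodule.finrank_map_le (imperfection ℤ L' L).subtype
      (((imperfection ℤ k L).map (jMap k L L')).comap (imperfection ℤ L' L).subtype)
    have e3 := Submodule.finrank_map_le (jMap k L L') (imperfection ℤ k L)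
    have e4 := LinearMap.finrank_le_finrank_of_injective
      (f := ((imperfection ℤ L' L).subtype.restrict (p := ((imperfection ℤ k L).map (jMap k L L')).comap
        (imperfection ℤ L' L).subtype) (q := (imperfection ℤ k L).map (jMap k L L')) fun _ hx => hx))
      (fun x y h => Subtype.ext (Subtype.ext (congrArg Subtype.val h :)))
    omega
  have h2 := LinearMap.finrank_range_add_finrank_ker (V := ↥(imperfection ℤ L' L)) (V₂ := L ⊗[L'] Ω[L'⁄k])
    (π.domRestrict (imperfection ℤ L' L))
  rw [LinearMap.range_domRestrict] at h2
  omega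

end Groth.Agent.SymGr
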