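import Groth.Agent.SymGr.BoundedDual
import Groth.Agent.SymGr.DerExtend
import Mathlib

/-! Derivations annihilating a prime, bounded by the differentials of its residue field. -/

set_option autoImplicit false

namespace Groth.Agent.SymGr

universe u

open TensorProduct IsLocalRing EGA41

/-- Relations of derivations on a prime are few when derivations of the quotient kill a subfield. -/
theorem finrank_annRelations_le {k A : Type u} [Field k] [CommRing A] [Algebra k A] (P : Ideal A) [P.IsPrime]
    {M : ℕ} (D : Fin M → Derivation k A A) (y : Fin M → A)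
    (hdet : Matrix.det (Matrix.of fun i j => D i (y j)) ∉ P)
    (Z : Set A) (hZ : ∀ j, ∀ z ∈ Z, D j z = 0) {n : ℕ} (u : Fin n → A)
    {L : Type u} [Field L] [Algebra A L] [Algebra (A ⧸ P) L] [IsScalarTower A (A ⧸ P) L] [IsFractionRing (A ⧸ P) L]
    (R : Submodule L (Fin M → L)) (hR : ∀ c ∈ R, ∀ a ∈ P, ∑ j, c j * algebraMap A L (D j a) = 0)
    (E : Type u) [Field E] [Algebra E L] [Module.Finite L Ω[L⁄E]]
    (hkill : ∀ δ : Derivation k (A ⧸ P) (A ⧸ P), (∀ z ∈ Z, δ (Ideal.Quotient.mk P z) = 0) →
      (∀ i, δ (Ideal.Quotient.mk P (u i)) = 0) →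
      ∀ ψ : Derivation ℤ L L,
        (∀ x, ψ (algebraMap (A ⧸ P) _ x) = algebraMap (A ⧸ P) _ (δ x)) →
          ∀ e : E, ψ (algebraMap E _ e) = 0) :
    Module.finrank L R ≤ n + Module.finrank L Ω[L⁄E] := by
  classical
  let ρ : A → L := fun a => algebraMap A L a
  have hρ : ∀ a, ρ a = algebraMap (A ⧸ P) L (Ideal.Quotient.mk P a) := fun a =>
    IsScalarTower.algebraMap_apply A (A ⧸ P) L a
  obtain ⟨b, hbsub, hbspan, hbli⟩ := exists_linearIndependent L
    (Set.range fun a : A => KaehlerDifferential.D E L (ρ a))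
  have hbtop : Submodule.span L b = ⊤ := by
    rw [hbspan, eq_top_iff, ← KaehlerDifferential.span_range_derivation, Submodule.span_le]
    rintro _ ⟨x, rfl⟩
    obtain ⟨a, c, hc, rfl⟩ := IsFractionRing.div_surjective (A ⧸ P) x
    obtain ⟨a, rfl⟩ := Ideal.Quotient.mk_surjective a
    obtain ⟨c, rfl⟩ := Ideal.Quotient.mk_surjective c
    rw [SetLike.mem_coe, Derivation.leibniz_div, ← hρ, ← hρ]
    exact Submodule.smul_mem _ _ (Submodule.sub_mem _ (Submodule.smul_mem _ _ (Submodule.subset_span ⟨a, rfl⟩))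
      (Submodule.smul_mem _ _ (Submodule.subset_span ⟨c, rfl⟩)))
  have := hbli.setFinite.fintype
  choose v hv using fun x : b => hbsub x.2
  let B := Module.Basis.mk hbli (by rw [Subtype.range_coe, hbtop])
  have hcard : Fintype.card b = Module.finrank L Ω[L⁄E] := (Module.finrank_eq_card_basis B).symm
  let w : Fin n ⊕ b → A := Sum.elim u v
  let Θ : R →ₗ[L] (Fin n ⊕ b → L) :=
    { toFun := fun c i => ∑ j, (c : Fin M → L) j * ρ (D j (w i))
      map_add' := fun c d => funext fun i => by
        simp only [Submodule.coe_add, Pi.add_apply, add_mul, Finset.sum_add_distrib]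
      map_smul' := fun r c => funext fun i => by
        simp only [SetLike.val_smul, Pi.smul_apply, smul_eq_mul, mul_assoc, ← Finset.mul_sum, RingHom.id_apply] }
  have hinj : Function.Injective Θ := by
    refine (injective_iff_map_eq_zero Θ).2 fun c hc => ?_
    obtain ⟨⟨d, hd⟩, hde⟩ := IsLocalization.exist_integer_multiples_of_finite (nonZeroDivisors (A ⧸ P))
      (fun j => (c : Fin M → L) j)
    choose e he using hde
    choose a ha using fun j => Ideal.Quotient.mk_surjective (e j)
    let D₀ : Derivation k A A := ∑ j, a j • D j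
    have hD₀ : ∀ x, algebraMap (A ⧸ P) L (Ideal.Quotient.mk P (D₀ x)) =
        algebraMap (A ⧸ P) L d * ∑ j, (c : Fin M → L) j * ρ (D j x) := fun x => by
      rw [Finset.mul_sum, show D₀ x = ∑ j, a j * D j x from by
        rw [← Derivation.coeFnAddMonoidHom_apply, map_sum, Finset.sum_apply]; rfl, map_sum, map_sum]
      refine Finset.sum_congr rfl fun j _ => ?_
      rw [map_mul, map_mul, ha, he, Algebra.smul_def, mul_assoc, hρ]
    have hinjQ : Function.Injective (algebraMap (A ⧸ P) L) := IsFractionRing.injective _ _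
    have hDP : ∀ x, Ideal.Quotient.mkₐ k P x = 0 → Ideal.Quotient.mkₐ k P (D₀ x) = 0 := fun x hx => hinjQ (by
      rw [Ideal.Quotient.mkₐ_eq_mk, hD₀, map_zero, hR _ c.2 x (Ideal.Quotient.eq_zero_iff_mem.1 hx), mul_zero])
    let δ : Derivation k (A ⧸ P) (A ⧸ P) :=
      Derivation.liftOfSurjective (Ideal.Quotient.mkₐ_surjective k P) hDP
    have hδ : ∀ x, δ (Ideal.Quotient.mk P x) = Ideal.Quotient.mk P (D₀ x) := fun x =>
      Derivation.liftOfSurjective_apply (Ideal.Quotient.mkₐ_surjective k P) hDP x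
    obtain ⟨ψ, hψ⟩ := exists_derivation_localization (B := A ⧸ P) (S := L) (nonZeroDivisors (A ⧸ P))
      (δ.restrictScalars ℤ)
    have hψ' : ∀ x, ψ (ρ x) = algebraMap (A ⧸ P) L d * ∑ j, (c : Fin M → L) j * ρ (D j x) := fun x => by
      rw [hρ, hψ, ← hD₀, ← hδ]
      rfl
    have hzero : ∀ i, ∑ j, (c : Fin M → L) j * ρ (D j (w i)) = 0 := fun i => congrFun hc i
    have hE : ∀ e' : E, ψ (algebraMap E L e') = 0 := hkill δ (fun z hz => hinjQ (by
        rw [hδ, hD₀, map_zero]
        simp [hZ _ z hz, ρ]))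
      (fun i => hinjQ (by
        rw [hδ, hD₀, map_zero, show u i = w (Sum.inl i) from rfl, hzero, mul_zero]))
      ψ hψ
    let ψE : Derivation E L L := Derivation.mk'
      { toFun := ψ
        map_add' := map_add ψ
        map_smul' := fun e' x => by
          rw [Algebra.smul_def e' x, Derivation.leibniz, hE, smul_zero, add_zero, RingHom.id_apply,
            Algebra.smul_def e' (ψ x), smul_eq_mul] }
      fun x y => ψ.leibniz x y
    have hlift : ψE.liftKaehlerDifferential = 0 := B.ext fun x => by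
      rw [show B x = KaehlerDifferential.D E L (ρ (v x)) from by rw [Module.Basis.mk_apply]; exact (hv x).symm,
        Derivation.liftKaehlerDifferential_comp_D, LinearMap.zero_apply]
      show ψ (ρ (v x)) = 0
      rw [hψ', show v x = w (Sum.inr x) from rfl, hzero, mul_zero]
    have hd0 : algebraMap (A ⧸ P) L d ≠ 0 := (map_ne_zero_iff _ hinjQ).2 (nonZeroDivisors.ne_zero hd)
    have hall : ∀ x, ∑ j, (c : Fin M → L) j * ρ (D j x) = 0 := fun x => by
      have h1 : ψE (ρ x) = 0 := by
        rw [← Derivation.liftKaehlerDifferential_comp_D, hlift, LinearMap.zero_apply]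
      exact (mul_eq_zero.1 ((hψ' x).symm.trans h1)).resolve_left hd0
    refine Subtype.ext (Matrix.eq_zero_of_vecMul_eq_zero (M := (algebraMap A L).mapMatrix
      (Matrix.of fun i j => D i (y j))) ?_ (funext fun l => hall (y l)))
    rw [← RingHom.map_det, IsScalarTower.algebraMap_apply A (A ⧸ P) L, map_ne_zero_iff _ hinjQ]
    exact fun h => hdet (Ideal.Quotient.eq_zero_iff_mem.1 h)
  have h1 := LinearMap.finrank_le_finrank_of_injective hinj
  rwa [Module.finrank_fintype_fun_eq_card, Fintype.card_sum, Fintype.card_fin, hcard] at h1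

end Groth.Agent.SymGr
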